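import Groth.Agent.LC.Annihilator
import Groth.Agent.Alg6.LocLoc
import Groth.Prelude.Def_CAlg

/-!
# Serre conditions along a surjection of rings
-/

set_option autoImplicit false
set_option linter.style.haveILetI false

universe u

namespace Groth.Agent.QGorRing

/-- Depth and dimension at a prime of a quotient, read on the ring itself. -/
theorem depth_supportDim_comap {P B : Type u} [CommRing P] [CommRing B] [Algebra P B]
    (hf : Function.Surjective (algebraMap P B)) (M : Type u) [AddCommGroup M] [Module B M] [Module P M]
    [IsScalarTower P B M] (q : Ideal B) [q.IsPrime] :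
    LocCoh.depth (Localization.AtPrime (q.comap (algebraMap P B)))
        (LocalizedModule (q.comap (algebraMap P B)).primeCompl M) =
      LocCoh.depth (Localization.AtPrime q) (LocalizedModule q.primeCompl M) ∧
      Module.supportDim (Localization.AtPrime (q.comap (algebraMap P B)))
          (LocalizedModule (q.comap (algebraMap P B)).primeCompl M) =
        Module.supportDim (Localization.AtPrime q) (LocalizedModule q.primeCompl M) := by
  have := LC.isLocalizedModule_comap (M := M) hf q
  let q' := q.comap (algebraMap P B)
  let g := (LocalizedModule.mkLinearMap q.primeCompl M).restrictScalars P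
  let e := IsLocalizedModule.iso q'.primeCompl g
  let σ := Localization.localRingHom q' q (algebraMap P B) rfl
  have hσ : Function.Surjective σ := RingHom.surjective_localRingHom_of_surjective (algebraMap P B) hf q
  have he : ∀ z x, e.toAddEquiv (z • x) = σ z • e.toAddEquiv x := fun z x => by
    obtain ⟨⟨a, t⟩, hat⟩ := IsLocalization.surj q'.primeCompl z
    have hu : IsUnit (algebraMap B (Localization.AtPrime q) (algebraMap P B (t : P))) :=
      IsLocalization.map_units (Localization.AtPrime q) (⟨algebraMap P B t, t.2⟩ : q.primeCompl)
    refine hu.smul_left_cancel.1 ?_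
    have h1 : algebraMap B (Localization.AtPrime q) (algebraMap P B (t : P)) * σ z =
        algebraMap B (Localization.AtPrime q) (algebraMap P B a) := by
      rw [← Localization.localRingHom_to_map q' q (algebraMap P B) rfl a,
        ← Localization.localRingHom_to_map q' q (algebraMap P B) rfl (t : P), ← map_mul, mul_comm _ z, hat]
    have h2 : (t : P) • z • x = a • x := by
      rw [← algebraMap_smul (Localization.AtPrime q') (t : P) (z • x), smul_smul, mul_comm]
      exact (congrArg (fun c => c • x) hat).trans (algebraMap_smul _ a x)
    rw [smul_smul, h1, algebraMap_smul, algebraMap_smul, algebraMap_smul, algebraMap_smul]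
    show (t : P) • e (z • x) = a • e x
    rw [← map_smul, h2, map_smul]
  exact ⟨Alg6.depth_eq_of_semilinear σ hσ e.toAddEquiv he,
    Alg6.supportDim_eq_of_semilinear σ hσ e.toAddEquiv he⟩

/-- A module over a quotient satisfying `(S_k)` over the ring satisfies it over the quotient. -/
theorem hasSk_of_surjective' {P B : Type u} [CommRing P] [CommRing B] [Algebra P B]
    (hf : Function.Surjective (algebraMap P B)) (M : Type u) [AddCommGroup M] [Module B M] [Module P M]
    [IsScalarTower P B M] (k : ℕ) (h : LocCoh.HasSk k P M) : LocCoh.HasSk k B M := by
  intro q hq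
  obtain ⟨hd, hs⟩ := depth_supportDim_comap hf M q
  rw [← hd, ← hs]
  exact h _

/-- A module over a quotient satisfying `(S_k)` satisfies it over the ring itself. -/
theorem hasSk_of_surjective {P B : Type u} [CommRing P] [CommRing B] [Algebra P B]
    (hf : Function.Surjective (algebraMap P B)) (M : Type u) [AddCommGroup M] [Module B M] [Module P M]
    [IsScalarTower P B M] (k : ℕ) (h : LocCoh.HasSk k B M) : LocCoh.HasSk k P M := by
  intro p _
  by_cases hker : RingHom.ker (algebraMap P B) ≤ p
  · let q := p.map (algebraMap P B)
    haveI : q.IsPrime := Ideal.map_isPrime_of_surjective hf hker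
    have hcomap : q.comap (algebraMap P B) = p := by
      rw [Ideal.comap_map_of_surjective _ hf, ← RingHom.ker_eq_comap_bot, sup_eq_left.2 hker]
    obtain ⟨hd, hs⟩ := depth_supportDim_comap hf M q
    have key : ∀ (p' : Ideal P) [p'.IsPrime], p' = p →
        min (k : WithBot ℕ∞) (Module.supportDim (Localization.AtPrime p') (LocalizedModule p'.primeCompl M)) ≤
          ((LocCoh.depth (Localization.AtPrime p') (LocalizedModule p'.primeCompl M) : ℕ∞) : WithBot ℕ∞) →
        min (k : WithBot ℕ∞) (Module.supportDim (Localization.AtPrime p) (LocalizedModule p.primeCompl M)) ≤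
          ((LocCoh.depth (Localization.AtPrime p) (LocalizedModule p.primeCompl M) : ℕ∞) : WithBot ℕ∞) := by
      rintro p' _ rfl hp'
      exact hp'
    refine key _ hcomap ?_
    rw [hd, hs]
    exact h q
  · obtain ⟨r, hr, hrp⟩ := SetLike.not_le_iff_exists.1 hker
    haveI : Subsingleton (LocalizedModule p.primeCompl M) := LocalizedModule.subsingleton_iff.2 fun m =>
      ⟨r, hrp, by rw [← algebraMap_smul B r m, show algebraMap P B r = 0 from hr, zero_smul]⟩
    rw [Module.supportDim_eq_bot_of_subsingleton]
    simp

end Groth.Agent.QGorRing
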