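import Groth.Agent.QGorRing.Criteria
import Mathlib.RingTheory.Regular.Flat

/-!
# The lowest Ext into a dualizing complex has depth two
-/

set_option autoImplicit false
set_option linter.style.haveILetI false
set_option linter.unusedSectionVars false
set_option backward.isDefEq.respectTransparency false

universe u

open CategoryTheory CategoryTheory.Limits Pretriangulated
open scoped Pointwise

attribute [local instance] HasDerivedCategory.standard

namespace Groth.Agent.QGorRing

open Groth.Agent.KFlatLib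

section Seq

variable {A : Type u} [CommRing A] {N₁ N₂ N₃ : Type u} [AddCommGroup N₁] [Module A N₁] [AddCommGroup N₂]
  [Module A N₂] [AddCommGroup N₃] [Module A N₃] {f : N₁ →ₗ[A] N₂} {g : N₂ →ₗ[A] N₃}

/-- Precomposition with a surjection is injective when the kernel has no Ext one degree lower. -/
lemma eq_zero_of_surjective_comp (hf : Function.Injective f) (hg : Function.Surjective g)
    (h : Function.Exact f g) (Y : Dual.D A) (i : ℤ) (h₁ : Subsingleton (Dual.inD A N₁ ⟶ Y⟦i⟧))
    (φ : Dual.inD A N₃ ⟶ Y⟦i + 1⟧) (hφ : inDMap g ≫ φ = 0) : φ = 0 := by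
  obtain ⟨w, hS⟩ := exists_ses_of_exact hf hg h
  obtain ⟨χ, hχ⟩ := Triangle.yoneda_exact₃ _ hS.singleTriangle_distinguished φ hφ
  let F := shiftFunctor (Dual.D A) (1 : ℤ)
  let e := ((shiftFunctorAdd' (Dual.D A) i 1 (i + 1) rfl).app Y)
  obtain ⟨ψ, hψ⟩ := F.map_surjective (χ ≫ e.hom)
  have h0 : χ = 0 := by
    rw [← cancel_mono e.hom, ← hψ, Subsingleton.elim (α := Dual.inD A N₁ ⟶ Y⟦i⟧) ψ 0, F.map_zero, zero_comp]
  rw [hχ, h0, comp_zero]

/-- Multiplication by a scalar on a module acts by the scalar on maps out of it. -/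
lemma inDMap_smul_comp (x : A) (M : Type u) [AddCommGroup M] [Module A M] (Y : Dual.D A)
    (φ : Dual.inD A M ⟶ Y) : inDMap (x • (LinearMap.id : M →ₗ[A] M)) ≫ φ = x • φ := by
  change (DerivedCategory.singleFunctor (ModuleCat.{u} A) 0).map (x • 𝟙 (ModuleCat.of A M)) ≫ φ = _
  rw [Functor.map_smul, CategoryTheory.Functor.map_id, Linear.smul_comp]
  exact congrArg (x • ·) (Category.id_comp φ)

end Seq

variable {A : Type u} [CommRing A] [IsNoetherianRing A] {ω : Dual.D A} {n : PrimeSpectrum A → ℤ}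

/-- An element cutting the support in degree above `c` is regular on the Ext in degree `c`. -/
theorem smul_eq_zero_imp (h : IsDegree ω n) (M : Type u) [AddCommGroup M] [Module A M] [Module.Finite A M]
    (c : ℤ) (x : A) (hx : ∀ P ∈ Module.support A M, x ∈ P.asIdeal → c + 1 ≤ n P)
    (φ : Dual.inD A M ⟶ ω⟦c⟧) (hφ : x • φ = 0) : φ = 0 := by
  let m : M →ₗ[A] M := x • LinearMap.id
  have hvan : ∀ (N : Type u) [AddCommGroup N] [Module A N] [Module.Finite A N],
      (Module.support A N ⊆ Module.support A M) → (∀ z : N, x • z = 0) → ∀ j : ℤ, j ≤ c →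
        Subsingleton (Dual.inD A N ⟶ ω⟦j⟧) := by
    intro N _ _ _ hsub hk j hj
    refine subsingleton_hom_module_of_lt h.ext N j fun P hP => ?_
    have h2 := (Set.ext_iff.1 (Module.support_eq_zeroLocus (R := A) (M := N)) P).1 hP
    have := hx P (hsub hP) (h2 (Module.mem_annihilator.2 hk))
    omega
  let g := m.rangeRestrict
  have hcomp : inDMap g ≫ (inDMap (LinearMap.range m).subtype ≫ φ) = 0 := by
    rw [← Category.assoc, inDMap, inDMap, ← Functor.map_comp]
    exact (inDMap_smul_comp x M _ φ).trans hφ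
  have hker : ∀ z : LinearMap.ker m, x • z = 0 := fun z => Subtype.ext z.2
  have h1 := hvan (LinearMap.ker m)
    (Module.support_subset_of_injective (LinearMap.ker m).subtype Subtype.val_injective) hker (c - 1) (by omega)
  have key : ∀ c' : ℤ, c - 1 + 1 = c' → ∀ ψ : Dual.inD A (LinearMap.range m) ⟶ ω⟦c'⟧,
      inDMap g ≫ ψ = 0 → ψ = 0 := by
    rintro c' rfl ψ hψ
    exact eq_zero_of_surjective_comp (f := (LinearMap.ker m).subtype) Subtype.val_injective
      m.surjective_rangeRestrict (fun z => by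
        rw [← LinearMap.mem_ker, LinearMap.ker_rangeRestrict]
        exact ⟨fun hz => ⟨⟨z, hz⟩, rfl⟩, fun ⟨w, hw⟩ => hw ▸ w.2⟩) ω (c - 1) h1 ψ hψ
  obtain ⟨ψ, hψ⟩ := exists_factor_inD (g := (LinearMap.range m).mkQ) (LinearMap.range m).subtype_injective
    (Submodule.mkQ_surjective _) (LinearMap.exact_subtype_mkQ _) _ φ (key c (by omega) _ hcomp)
  haveI := hvan (M ⧸ LinearMap.range m)
    (Module.support_subset_of_surjective _ (Submodule.mkQ_surjective _)) (fun z => by
      obtain ⟨w, rfl⟩ := Submodule.Quotient.mk_surjective _ z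
      rw [← Submodule.Quotient.mk_smul]
      exact (Submodule.Quotient.mk_eq_zero _).2 ⟨w, rfl⟩) c le_rfl
  rw [hψ, Subsingleton.elim ψ 0, comp_zero]

/-- The second element of a pair: divisibility. -/
theorem exists_smul_eq_of_pair (h : IsDegree ω n) (M : Type u) [AddCommGroup M] [Module A M] [Module.Finite A M]
    (c : ℤ) (x y : A) (hx : ∀ P ∈ Module.support A M, x ∈ P.asIdeal → c + 1 ≤ n P)
    (hy : ∀ P ∈ Module.support A M, x ∈ P.asIdeal → y ∈ P.asIdeal → c + 2 ≤ n P)
    (φ ψ : Dual.inD A M ⟶ ω⟦c⟧) (he : y • φ = x • ψ) : ∃ χ : Dual.inD A M ⟶ ω⟦c⟧, φ = x • χ := by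
  let m : M →ₗ[A] M := x • LinearMap.id
  have hpow : ∀ (k : ℕ) (z : M), (m ^ k) z = x ^ k • z := by
    intro k
    induction k with
    | zero => intro z; simp
    | succ k ih =>
      intro z
      rw [pow_succ', Module.End.mul_apply, ih]
      show x • (x ^ k • z) = _
      rw [smul_smul, ← pow_succ']
  obtain ⟨k, hk⟩ := monotone_stabilizes_iff_noetherian.2 (inferInstance : IsNoetherian A M)
    ⟨fun k => LinearMap.ker (m ^ k), fun a b hab z hz => by
      rw [LinearMap.mem_ker, hpow] at hz ⊢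
      rw [← Nat.sub_add_cancel hab, pow_add, mul_smul, hz, smul_zero]⟩
  let Γ := LinearMap.ker (m ^ k)
  let π := Γ.mkQ
  let m' : (M ⧸ Γ) →ₗ[A] (M ⧸ Γ) := x • LinearMap.id
  have hinj : Function.Injective m' := by
    rw [← LinearMap.ker_eq_bot, LinearMap.ker_eq_bot']
    intro z hz
    obtain ⟨w, rfl⟩ := Submodule.Quotient.mk_surjective _ z
    change x • (Submodule.Quotient.mk w : M ⧸ Γ) = 0 at hz
    rw [← Submodule.Quotient.mk_smul, Submodule.Quotient.mk_eq_zero, LinearMap.mem_ker, hpow, smul_smul,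
      ← pow_succ, ← hpow, ← LinearMap.mem_ker] at hz
    exact (Submodule.Quotient.mk_eq_zero _).2 ((hk (k + 1) (by omega)).ge hz)
  have hΓ : ∀ P ∈ Module.support A Γ, x ∈ P.asIdeal := by
    intro P hP
    have h2 := (Set.ext_iff.1 (Module.support_eq_zeroLocus (R := A) (M := Γ)) P).1 hP
    refine P.isPrime.mem_of_pow_mem k (h2 (Module.mem_annihilator.2 fun z => Subtype.ext ?_))
    exact (hpow k z.1).symm.trans z.2
  have hsubΓ : Module.support A Γ ⊆ Module.support A M :=
    Module.support_subset_of_injective Γ.subtype Γ.subtype_injective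
  have hΓvan : ∀ j : ℤ, j ≤ c → Subsingleton (Dual.inD A Γ ⟶ ω⟦j⟧) := fun j hj =>
    subsingleton_hom_module_of_lt h.ext Γ j fun P hP => by
      have := hx P (hsubΓ hP) (hΓ P hP)
      omega
  have hπinj : ∀ θ : Dual.inD A (M ⧸ Γ) ⟶ ω⟦c⟧, inDMap π ≫ θ = 0 → θ = 0 := by
    have key : ∀ c' : ℤ, c - 1 + 1 = c' → ∀ θ : Dual.inD A (M ⧸ Γ) ⟶ ω⟦c'⟧, inDMap π ≫ θ = 0 → θ = 0 := by
      rintro c' rfl θ hθ
      exact eq_zero_of_surjective_comp Γ.subtype_injective (Submodule.mkQ_surjective _)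
        (LinearMap.exact_subtype_mkQ _) ω (c - 1) (hΓvan _ (by omega)) θ hθ
    exact key c (by omega)
  haveI := hΓvan c le_rfl
  obtain ⟨φ', hφ'⟩ := exists_factor_inD Γ.subtype_injective (Submodule.mkQ_surjective _)
    (LinearMap.exact_subtype_mkQ _) _ φ (Subsingleton.elim _ _)
  obtain ⟨ψ', hψ'⟩ := exists_factor_inD Γ.subtype_injective (Submodule.mkQ_surjective _)
    (LinearMap.exact_subtype_mkQ _) _ ψ (Subsingleton.elim _ _)
  have he' : y • φ' = x • ψ' := by
    refine sub_eq_zero.1 (hπinj _ ?_)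
    rw [Preadditive.comp_sub, Linear.comp_smul, Linear.comp_smul, ← hφ', ← hψ', he, sub_self]
  obtain ⟨δ, hδ⟩ := exists_extend_inD hinj (Submodule.mkQ_surjective (LinearMap.range m'))
    (LinearMap.exact_map_mkQ_range m') ω c
  let N := (M ⧸ Γ) ⧸ LinearMap.range m'
  have hxN : ∀ z : N, x • z = 0 := fun z => by
    obtain ⟨w, rfl⟩ := Submodule.Quotient.mk_surjective _ z
    rw [← Submodule.Quotient.mk_smul]
    exact (Submodule.Quotient.mk_eq_zero _).2 ⟨w, rfl⟩
  have hsubN : Module.support A N ⊆ Module.support A M :=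
    (Module.support_subset_of_surjective _ (Submodule.mkQ_surjective _)).trans
      (Module.support_subset_of_surjective _ (Submodule.mkQ_surjective _))
  have hmemN : ∀ P ∈ Module.support A N, x ∈ P.asIdeal := fun P hP =>
    (Set.ext_iff.1 (Module.support_eq_zeroLocus (R := A) (M := N)) P).1 hP (Module.mem_annihilator.2 hxN)
  have hδ0 : δ φ' = 0 := by
    refine smul_eq_zero_imp h N (c + 1) y (fun P hP hyP => ?_) _ ?_
    · have := hy P (hsubN hP) (hmemN P hP) hyP
      omega
    · rw [← map_smul, he', map_smul]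
      exact smul_hom_inD_eq_zero hxN _
  obtain ⟨χ, hχ⟩ := hδ φ' hδ0
  refine ⟨inDMap π ≫ χ, ?_⟩
  rw [hφ', ← Linear.comp_smul, ← inDMap_smul_comp x (M ⧸ Γ) _ χ]
  exact congrArg (inDMap π ≫ ·) hχ.symm

/-- A regular sequence bounds the depth from below. -/
theorem length_le_idealDepth {R : Type u} [CommRing R] {N : Type u} [AddCommGroup N] [Module R N] (I : Ideal R)
    (rs : List R) (hreg : RingTheory.Sequence.IsWeaklyRegular N rs) (hmem : ∀ r ∈ rs, r ∈ I) :
    (rs.length : ℕ∞) ≤ LocCoh.idealDepth I N := by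
  unfold LocCoh.idealDepth
  split
  · exact le_top
  · exact le_iSup₂_of_le rs ⟨hreg, hmem⟩ le_rfl

/-- One regular element on the bottom cohomology. -/
theorem isWeaklyRegular_singleton (h : IsDegree ω n) (c : ℤ) (x : A)
    (hx : ∀ P : PrimeSpectrum A, x ∈ P.asIdeal → c + 1 ≤ n P) :
    RingTheory.Sequence.IsWeaklyRegular (Dual.HD A ω c) [x] := by
  obtain ⟨e⟩ := exists_homRingLEquiv ω c
  rw [RingTheory.Sequence.isWeaklyRegular_cons_iff]
  refine ⟨IsSMulRegular.of_right_eq_zero_of_smul fun z hz => e.symm.injective ?_,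
    RingTheory.Sequence.IsWeaklyRegular.nil _ _⟩
  rw [map_zero]
  exact smul_eq_zero_imp h A c x (fun P _ => hx P) _ (by rw [← map_smul, hz, map_zero])

/-- A regular pair on the bottom cohomology. -/
theorem isWeaklyRegular_pair (h : IsDegree ω n) (c : ℤ) (x y : A)
    (hx : ∀ P : PrimeSpectrum A, x ∈ P.asIdeal → c + 1 ≤ n P)
    (hy : ∀ P : PrimeSpectrum A, x ∈ P.asIdeal → y ∈ P.asIdeal → c + 2 ≤ n P) :
    RingTheory.Sequence.IsWeaklyRegular (Dual.HD A ω c) [x, y] := by
  obtain ⟨e⟩ := exists_homRingLEquiv ω c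
  rw [RingTheory.Sequence.isWeaklyRegular_cons_iff, RingTheory.Sequence.isWeaklyRegular_cons_iff]
  refine ⟨(RingTheory.Sequence.isWeaklyRegular_cons_iff _ _ _).1 (isWeaklyRegular_singleton h c x hx) |>.1,
    IsSMulRegular.of_right_eq_zero_of_smul fun z hz => ?_, RingTheory.Sequence.IsWeaklyRegular.nil _ _⟩
  obtain ⟨a, rfl⟩ := Submodule.Quotient.mk_surjective _ z
  rw [← Submodule.Quotient.mk_smul, Submodule.Quotient.mk_eq_zero, Submodule.mem_smul_pointwise_iff_exists] at hz
  obtain ⟨b, -, hb⟩ := hz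
  obtain ⟨χ, hχ⟩ := exists_smul_eq_of_pair h A c x y (fun P _ => hx P) (fun P _ => hy P) (e.symm a) (e.symm b)
    (by rw [← map_smul, ← map_smul, hb])
  refine (Submodule.Quotient.mk_eq_zero _).2 ((Submodule.mem_smul_pointwise_iff_exists _ _ _).2 ⟨e χ, trivial, ?_⟩)
  rw [← map_smul, ← hχ, e.apply_symm_apply]

end Groth.Agent.QGorRing
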