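import Groth.Agent.QGorRing.Facts
import Groth.Agent.Alg6.LocLoc
import Groth.Prelude.Def_EGA4b

/-!
# Criteria for Serre's conditions in terms of Ext into a dualizing complex; openness
-/

set_option autoImplicit false
set_option linter.style.haveILetI false
set_option linter.unusedSectionVars false
set_option backward.isDefEq.respectTransparency false

universe u

open CategoryTheory CategoryTheory.Limits Pretriangulated

attribute [local instance] HasDerivedCategory.standard

namespace Groth.Agent.QGorRing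

open Groth.Agent.KFlatLib

variable {A : Type u} [CommRing A] [IsNoetherianRing A] {ω : Dual.D A} {n : PrimeSpectrum A → ℤ}

/-- The numerical failure of `(S_k)` at a prime, seen in two Ext modules. -/
theorem hasSk_at_iff (h : IsDegree ω n) (M : Type u) [AddCommGroup M] [Module A M] [Module.Finite A M]
    (k : ℕ) (hk : 1 ≤ k) (p : PrimeSpectrum A) (hp : p ∈ Module.support A M) :
    min (k : WithBot ℕ∞)
        (Module.supportDim (Localization.AtPrime p.asIdeal) (LocalizedModule p.asIdeal.primeCompl M)) ≤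
      ((LocCoh.depth (Localization.AtPrime p.asIdeal) (LocalizedModule p.asIdeal.primeCompl M) : ℕ∞) : WithBot ℕ∞)
    ↔ ∀ i j : ℤ, j < i → p ∈ Module.support A (Dual.inD A M ⟶ ω⟦i⟧) →
        p ∈ Module.support A (Dual.inD A M ⟶ ω⟦j⟧) →
        (((k : ℤ) + i - j).toNat : WithBot ℕ∞) ≤
          Module.supportDim (Localization.AtPrime p.asIdeal) (LocalizedModule p.asIdeal.primeCompl M) := by
  obtain ⟨d, t, hd, ht, -, hle, hd', ht'⟩ := local_facts h M p hp
  rw [skOne_iff M p k d t hd ht, hd]
  refine ⟨fun hkt i j hji hi hj => ?_, fun H => ?_⟩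
  · have h1 := hle i hi
    have h2 := hle j hj
    exact_mod_cast (show ((k : ℤ) + i - j).toNat ≤ d by omega)
  · by_contra hcon
    simp only [not_or, not_le] at hcon
    have h1 : ((k : ℤ) + (n p - t) - (n p - d)).toNat ≤ d := by
      exact_mod_cast H (n p - t) (n p - d) (by omega) ht' hd'
    omega

/-- `(S_k)` for a finite module in terms of the supports of the Ext modules. -/
theorem hasSk_iff_codim (h : IsDegree ω n) (M : Type u) [AddCommGroup M] [Module A M] [Module.Finite A M]
    (k : ℕ) (hk : 1 ≤ k) :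
    LocCoh.HasSk k A M ↔
      ∀ (i j : ℤ), j < i → ∀ p : PrimeSpectrum A,
        p ∈ Module.support A (Dual.inD A M ⟶ ω⟦i⟧) → p ∈ Module.support A (Dual.inD A M ⟶ ω⟦j⟧) →
          (((k : ℤ) + i - j).toNat : WithBot ℕ∞) ≤
            Module.supportDim (Localization.AtPrime p.asIdeal) (LocalizedModule p.asIdeal.primeCompl M) := by
  rw [hasSk_iff_support M k]
  refine ⟨fun H i j hji p hi hj => ?_, fun H p hp => (hasSk_at_iff h M k hk p hp).2 fun i j hji hi hj => H i j hji p hi hj⟩
  have hp := support_hom_subset M (ω⟦i⟧) hi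
  exact (hasSk_at_iff h M k hk p hp).1 (H p hp) i j hji hi hj

/-- The dimension of the support read off from a degree which computes dimensions of quotients. -/
theorem supportDim_le_iff_degree (h : IsDegree ω n)
    (hdim : ∀ p : PrimeSpectrum A, ∃ e : ℕ, ringKrullDim (A ⧸ p.asIdeal) = e ∧ (e : ℤ) = -n p)
    (E : Type (u + 1)) [AddCommGroup E] [Module A E] (c : ℕ) :
    Module.supportDim A E ≤ (c : WithBot ℕ∞) ↔ ∀ p ∈ Module.support A E, -n p ≤ c := by
  refine ⟨fun H p hp => ?_, fun H => iSup_le fun l => ?_⟩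
  · obtain ⟨e, he, hen⟩ := hdim p
    have h1 : ringKrullDim (A ⧸ p.asIdeal) ≤ Module.supportDim A E := by
      rw [ringKrullDim_quotient]
      exact Order.krullDim_le_of_strictMono
        (fun x => ⟨x.1, Module.mem_support_mono (show p ≤ x.1 from x.2) hp⟩) fun x y hxy => hxy
    rw [he] at h1
    have h2 : e ≤ c := by exact_mod_cast h1.trans H
    omega
  · have hstep : ∀ k : ℕ, ∀ hk : k < l.length + 1, n l.head.1 + k ≤ n (l ⟨k, hk⟩).1 := by
      intro k
      induction k with
      | zero => intro hk; simp [RelSeries.head]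
      | succ k ih =>
        intro hk
        have h2 := ih (by omega)
        have h3 : (l ⟨k, by omega⟩).1 < (l ⟨k + 1, hk⟩).1 := by
          have := l.step ⟨k, by omega⟩
          simpa using this
        have h4 := h.strictMono h3
        push_cast
        omega
    have h1 := hstep l.length (by omega)
    obtain ⟨e, -, hen⟩ := hdim (l ⟨l.length, by omega⟩).1
    have h2 := H _ l.head.2
    exact_mod_cast (show l.length ≤ c by omega)

/-- Ext vanishes when its support is empty. -/
theorem subsingleton_iff_support (E : Type (u + 1)) [AddCommGroup E] [Module A E] :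
    Subsingleton E ↔ ∀ p : PrimeSpectrum A, p ∉ Module.support A E := by
  rw [← Module.support_eq_empty_iff (R := A), Set.eq_empty_iff_forall_notMem]

/-- `(S_k)` for an equidimensional module by the dimensions of the Ext modules. -/
theorem hasSk_iff_supportDim (h : IsDegree ω n)
    (hdim : ∀ p : PrimeSpectrum A, ∃ e : ℕ, ringKrullDim (A ⧸ p.asIdeal) = e ∧ (e : ℤ) = -n p)
    (M : Type u) [AddCommGroup M] [Module A M] [Module.Finite A M] (δ : ℕ)
    (hmin : ∀ Q ∈ Module.support A M, (∀ R ∈ Module.support A M, R ≤ Q → R = Q) → n Q = -(δ : ℤ))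
    (k : ℕ) (hk : 1 ≤ k) :
    LocCoh.HasSk k A M ↔
      ∀ j : ℤ, j ≠ -(δ : ℤ) →
        (-j - (k : ℤ) < 0 → Subsingleton (Dual.inD A M ⟶ ω⟦j⟧)) ∧
        (0 ≤ -j - (k : ℤ) → Module.supportDim A (Dual.inD A M ⟶ ω⟦j⟧) ≤ ((-j - (k : ℤ)).toNat : WithBot ℕ∞)) := by
  have hd : ∀ p ∈ Module.support A M, ∀ d : ℕ,
      Module.supportDim (Localization.AtPrime p.asIdeal) (LocalizedModule p.asIdeal.primeCompl M) = d →
        (d : ℤ) = n p + δ := by
    intro p hp d hd
    obtain ⟨d', hd', -, Q, hQ, -, hQd, hQm⟩ := exists_supportDim_localized h M p hp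
    rw [hd] at hd'
    have h1 : d = d' := by exact_mod_cast hd'
    have := hmin Q hQ hQm
    omega
  have key : LocCoh.HasSk k A M ↔ ∀ j : ℤ, j ≠ -(δ : ℤ) →
      ∀ p ∈ Module.support A (Dual.inD A M ⟶ ω⟦j⟧), j + k ≤ n p := by
    rw [hasSk_iff_support M k]
    refine ⟨fun H j hj p hpj => ?_, fun H p hp => ?_⟩
    · have hp := support_hom_subset M (ω⟦j⟧) hpj
      obtain ⟨d, t, hdd, ht, -, hle, -, -⟩ := local_facts h M p hp
      have h1 := (skOne_iff M p k d t hdd ht).1 (H p hp)
      have := hle j hpj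
      have := hd p hp d hdd
      omega
    · obtain ⟨d, t, hdd, ht, -, hle, -, ht'⟩ := local_facts h M p hp
      rw [skOne_iff M p k d t hdd ht]
      by_contra hcon
      simp only [not_or, not_le] at hcon
      have := hd p hp d hdd
      have := H (n p - t) (by omega) p ht'
      omega
  rw [key]
  refine forall₂_congr fun j hj => ⟨fun H => ⟨fun hneg => ?_, fun hpos => ?_⟩, fun H p hp => ?_⟩
  · refine (subsingleton_iff_support (A := A) _).2 fun p hp => ?_
    obtain ⟨e, -, he⟩ := hdim p
    have := H p hp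
    omega
  · refine (supportDim_le_iff_degree h hdim _ _).2 fun p hp => ?_
    have := H p hp
    omega
  · rcases lt_or_ge (-j - (k : ℤ)) 0 with hneg | hpos
    · exact absurd hp ((subsingleton_iff_support (A := A) _).1 (H.1 hneg) p)
    · have := (supportDim_le_iff_degree h hdim _ _).1 (H.2 hpos) p hp
      omega

/-- The `(S_k)` locus is open. -/
theorem isOpen_hasSkAt (h : IsDegree ω n) (M : Type u) [AddCommGroup M] [Module A M] [Module.Finite A M]
    (k : ℕ) : IsOpen {p : PrimeSpectrum A | EGA4.HasSkAt k A M p.asIdeal} := by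
  let Bad (q : PrimeSpectrum A) : Prop := ¬ (min (k : WithBot ℕ∞)
        (Module.supportDim (Localization.AtPrime q.asIdeal) (LocalizedModule q.asIdeal.primeCompl M)) ≤
      ((LocCoh.depth (Localization.AtPrime q.asIdeal) (LocalizedModule q.asIdeal.primeCompl M) : ℕ∞) : WithBot ℕ∞))
  have hset : {p : PrimeSpectrum A | EGA4.HasSkAt k A M p.asIdeal}ᶜ = {p | ∃ q, q ≤ p ∧ Bad q} := by
    ext p
    simp only [Set.mem_compl_iff, Set.mem_ofPred_eq, EGA4.HasSkAt]
    rw [show LocCoh.HasSk k (Localization p.asIdeal.primeCompl) (LocalizedModule p.asIdeal.primeCompl M) ↔ _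
      from Alg6.hasSk_localization_iff p.asIdeal.primeCompl M k]
    simp only [not_forall]
    constructor
    · rintro ⟨q, hq, hd, hbad⟩
      exact ⟨⟨q, hq⟩, fun x hx => by_contra fun hxp => Set.disjoint_left.1 hd hxp hx, hbad⟩
    · rintro ⟨q, hle, hbad⟩
      exact ⟨q.asIdeal, q.isPrime, Set.disjoint_left.2 fun x hx hxq => hx (hle hxq), hbad⟩
  rw [← isClosed_compl_iff, hset]
  obtain ⟨a, ha⟩ := exists_isGE h.dualizing
  haveI : ∀ i : ℤ, Module.Finite A (Dual.inD A M ⟶ ω⟦i⟧) := fun i =>
    finite_hom_module ω a h.dualizing.finite_cohomology M i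
  obtain ⟨lo, hi, hbd⟩ := h.dualizing.finite_injective_dimension
  let I (ij : ℤ × ℤ) : Ideal A :=
    Module.annihilator A (Dual.inD A M ⟶ ω⟦ij.1⟧) ⊔ Module.annihilator A (Dual.inD A M ⟶ ω⟦ij.2⟧)
  let S : Set (PrimeSpectrum A) := {q | ∃ ij ∈ (Set.Icc lo hi ×ˢ Set.Icc lo hi), q.asIdeal ∈ (I ij).minimalPrimes ∧ Bad q}
  have hfin : S.Finite := by
    refine Set.Finite.subset (Set.Finite.biUnion ((Set.finite_Icc lo hi).prod (Set.finite_Icc lo hi))
      (fun ij _ => ((Ideal.finite_minimalPrimes_of_isNoetherianRing A (I ij)).preimage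
        (f := PrimeSpectrum.asIdeal) (fun x _ y _ hxy => PrimeSpectrum.ext hxy)))) ?_
    rintro q ⟨ij, hij, hq, -⟩
    exact Set.mem_biUnion hij hq
  have hrange : ∀ (i : ℤ) (q : PrimeSpectrum A), q ∈ Module.support A (Dual.inD A M ⟶ ω⟦i⟧) → i ∈ Set.Icc lo hi := by
    intro i q hq
    by_contra hnot
    haveI := hbd M i (by simp only [Set.mem_Icc, not_and_or, not_le] at hnot; omega)
    exact ((subsingleton_iff_support (A := A) _).1 inferInstance q) hq
  have hmem : ∀ (ij : ℤ × ℤ) (q : PrimeSpectrum A), I ij ≤ q.asIdeal →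
      q ∈ Module.support A (Dual.inD A M ⟶ ω⟦ij.1⟧) ∧ q ∈ Module.support A (Dual.inD A M ⟶ ω⟦ij.2⟧) := by
    intro ij q hq
    rw [Module.support_eq_zeroLocus, Module.support_eq_zeroLocus]
    exact ⟨le_sup_left.trans hq, le_sup_right.trans hq⟩
  have heq : {p | ∃ q, q ≤ p ∧ Bad q} = ⋃ q ∈ S, closure {q} := by
    ext p
    simp only [Set.mem_ofPred_eq, Set.mem_iUnion, exists_prop, ← specializes_iff_mem_closure,
      ← PrimeSpectrum.le_iff_specializes]
    constructor
    case mpr =>
      rintro ⟨q, hqS, hqp⟩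
      obtain ⟨_, _, _, hbad⟩ := hqS
      exact ⟨q, hqp, hbad⟩
    rintro ⟨q, hqp, hbad⟩
    have hq : q ∈ Module.support A M := by
      by_contra hq
      haveI : Subsingleton (LocalizedModule q.asIdeal.primeCompl M) :=
        not_nontrivial_iff_subsingleton.1 fun hnt => hq (Module.mem_support_iff.2 hnt)
      exact hbad ((min_le_right _ _).trans ((Module.supportDim_eq_bot_of_subsingleton _ _).le.trans bot_le))
    obtain ⟨d, t, hd, ht, -, hle, hd', ht'⟩ := local_facts h M q hq
    have hIq : I (n q - t, n q - d) ≤ q.asIdeal := by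
      rw [Module.support_eq_zeroLocus] at hd' ht'
      exact sup_le ht' hd'
    obtain ⟨P, hP, hPq⟩ := Ideal.exists_minimalPrimes_le hIq
    haveI := hP.1.1
    let P' : PrimeSpectrum A := ⟨P, hP.1.1⟩
    refine ⟨P', ⟨(n q - t, n q - d), Set.mk_mem_prod (hrange _ q ht') (hrange _ q hd'), hP, ?_⟩,
      (show P' ≤ q from hPq).trans hqp⟩
    obtain ⟨hPt, hPd⟩ := hmem _ P' hP.1.2
    have hPs := support_hom_subset M _ hPt
    obtain ⟨d', t', hd2, ht2, -, hle', -, -⟩ := local_facts h M P' hPs
    have hbad' : ¬ (k ≤ t ∨ d ≤ t) := fun h' => hbad ((skOne_iff M q k d t hd ht).2 h')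
    intro hgood
    have h' := (skOne_iff M P' k d' t' hd2 ht2).1 hgood
    obtain ⟨d'', hd3, -, Q, hQ, hQP, hQd, -⟩ := exists_supportDim_localized h M P' hPs
    obtain ⟨d0, hd4, hup, -⟩ := exists_supportDim_localized h M q hq
    rw [hd] at hd4
    rw [hd2] at hd3
    have e1 : d = d0 := by exact_mod_cast hd4
    have e2 : d' = d'' := by exact_mod_cast hd3
    have := hle' _ hPt
    have := hle' _ hPd
    have := hup Q hQ (hQP.trans (show P' ≤ q from hPq))
    have := h.strictMono.monotone (show P' ≤ q from hPq)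
    omega
  rw [heq]
  exact hfin.isClosed_biUnion fun q _ => isClosed_closure

end Groth.Agent.QGorRing
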