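import Groth.Prelude.Def_Wider
import Groth.Agent.H9Misc.Split
import Groth.Agent.H9Misc.TFactor
import Mathlib.Algebra.Homology.DerivedCategory.Linear

/-!
# Vanishing of maps out of a bounded complex from vanishing on its cohomology
-/

set_option autoImplicit false
set_option linter.style.haveILetI false
set_option linter.unusedSectionVars false
set_option backward.isDefEq.respectTransparency false

universe u

open CategoryTheory CategoryTheory.Limits Pretriangulated

attribute [local instance] HasDerivedCategory.standard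

namespace Groth.Agent.QGorRing

variable {A : Type u} [CommRing A]

/-- A complex with cohomology in one degree, as a shifted module. -/
theorem nonempty_iso_shift_homology (c : ℤ) (X : Dual.D A) [X.IsLE c] [X.IsGE c] :
    Nonempty (X ≅ (Dual.inD A (Dual.HD A X c))⟦-c⟧) := by
  obtain ⟨e₁⟩ := Groth.Agent.H9Misc.nonempty_iso_single_homology c X
  exact ⟨e₁ ≪≫ (((DerivedCategory.singleFunctors (ModuleCat.{u} A)).shiftIso (-c) c 0 (by omega)).app
    ((DerivedCategory.homologyFunctor (ModuleCat.{u} A) c).obj X)).symm⟩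

/-- Maps vanish when they vanish on every cohomology module. -/
theorem subsingleton_hom_of_cohomology (Y : Dual.D A) :
    ∀ (m : ℕ) (lo : ℤ) (X : Dual.D A), X.IsGE lo → X.IsLE (lo + m - 1) →
      (∀ j : ℤ, lo ≤ j → j < lo + m → ∀ (H : Type u) [AddCommGroup H] [Module A H],
        Nonempty (H ≃ₗ[A] Dual.HD A X j) → Subsingleton (Dual.inD A H ⟶ Y⟦j⟧)) →
      Subsingleton (X ⟶ Y) := by
  intro m
  induction m with
  | zero =>
    intro lo X h0 h1 _
    haveI := h0
    haveI : DerivedCategory.IsLE X (lo - 1) := by simpa using h1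
    have hz : IsZero X := DerivedCategory.TStructure.t.isZero X (lo - 1) lo (by omega)
    exact ⟨fun f g => hz.eq_of_src f g⟩
  | succ m ih =>
    intro lo X h0 h1 hv
    haveI := h0
    let t := DerivedCategory.TStructure.t (C := ModuleCat.{u} A)
    let c : ℤ := lo + m
    haveI : DerivedCategory.IsLE X c := by
      rw [show c = lo + ((m + 1 : ℕ) : ℤ) - 1 by simp [c]; omega]
      exact h1
    have hT := t.triangleLTGE_distinguished c X
    let X₁ := (t.truncLT c).obj X
    let X₃ := (t.truncGE c).obj X
    haveI : X₁.IsLE (c - 1) := t.isLE_truncLT_obj ..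
    haveI : X₁.IsGE lo := inferInstanceAs (t.IsGE ((t.truncLT c).obj X) lo)
    haveI : X₃.IsGE c := t.isGE_truncGE_obj ..
    haveI : X₃.IsLE c := inferInstanceAs (t.IsLE ((t.truncGE c).obj X) c)
    haveI : IsIso ((DerivedCategory.homologyFunctor (ModuleCat.{u} A) c).map ((t.truncGEπ c).app X)) :=
      Groth.Agent.H9Misc.isIso_map_truncGEπ c c le_rfl X
    haveI : Subsingleton (X₃ ⟶ Y) := by
      obtain ⟨e₂⟩ := nonempty_iso_shift_homology c X₃
      have hc := hv c (by omega) (by simp [c]) (Dual.HD A X₃ c)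
        ⟨(asIso ((DerivedCategory.homologyFunctor (ModuleCat.{u} A) c).map
          ((t.truncGEπ c).app X))).symm.toLinearEquiv⟩
      let a := (shiftEquiv' (Dual.D A) (-c) c (by omega)).toAdjunction.homEquiv
        (Dual.inD A (Dual.HD A X₃ c)) Y
      haveI hs : Subsingleton (((Dual.inD A (Dual.HD A X₃ c))⟦-c⟧) ⟶ Y) := @Equiv.subsingleton _ _ a hc
      exact @Equiv.subsingleton _ _ (CategoryTheory.Iso.homCongr e₂ (CategoryTheory.Iso.refl _)) hs
    haveI : Subsingleton (X₁ ⟶ Y) := by
      refine ih lo X₁ inferInstance (inferInstanceAs (X₁.IsLE (c - 1))) fun j hj hj' H _ _ ⟨e⟩ => ?_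
      haveI : IsIso ((DerivedCategory.homologyFunctor (ModuleCat.{u} A) j).map ((t.truncLTι c).app X)) :=
        Groth.Agent.H9Misc.isIso_map_truncLTι c j (by omega) X
      exact hv j hj (by push_cast; omega) H ⟨e.trans (asIso ((DerivedCategory.homologyFunctor (ModuleCat.{u} A) j).map
        ((t.truncLTι c).app X))).toLinearEquiv⟩
    refine subsingleton_of_forall_eq 0 fun φ => ?_
    obtain ⟨ψ, hψ⟩ := Pretriangulated.Triangle.yoneda_exact₂ _ hT φ (Subsingleton.elim (α := X₁ ⟶ Y) _ _)
    rw [hψ]
    exact (congrArg (_ ≫ ·) (Subsingleton.elim (α := X₃ ⟶ Y) ψ 0)).trans Limits.comp_zero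

end Groth.Agent.QGorRing
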