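import Groth.Agent.QGorRing.Facts
import Groth.Agent.FlatLoc6.SerreNormal
import Groth.Agent.LC.PuncturedConn

/-!
# `(S₂)` with a dualizing complex forces constant degree at the minimal primes
-/

set_option autoImplicit false
set_option linter.style.haveILetI false
set_option linter.unusedSectionVars false
set_option backward.isDefEq.respectTransparency false

universe u

open CategoryTheory

attribute [local instance] HasDerivedCategory.standard

namespace Groth.Agent.QGorRing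

open Groth.Agent.KFlatLib

variable {A : Type u} [CommRing A] [IsNoetherianRing A] {ω : Dual.D A} {n : PrimeSpectrum A → ℤ}

/-- All minimal primes below a prime have the same degree. -/
theorem degree_minimal_eq (h : IsDegree ω n) (hS : LocCoh.HasSk 2 A A) :
    ∀ (q : PrimeSpectrum A) (P₁ P₂ : PrimeSpectrum A), P₁.asIdeal ∈ minimalPrimes A →
      P₂.asIdeal ∈ minimalPrimes A → P₁ ≤ q → P₂ ≤ q → n P₁ = n P₂ := by
  suffices key : ∀ (k : ℕ∞) (q : PrimeSpectrum A), q.asIdeal.height = k → ∀ P₁ P₂ : PrimeSpectrum A,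
      P₁.asIdeal ∈ minimalPrimes A → P₂.asIdeal ∈ minimalPrimes A → P₁ ≤ q → P₂ ≤ q → n P₁ = n P₂ from
    fun q => key _ q rfl
  intro k
  induction k using WellFoundedLT.induction with
  | _ k ih =>
    intro q hk P₁ P₂ h1 h2 h1q h2q
    have hqA : q ∈ Module.support A A := Module.mem_support_iff_of_finite.2 (by
      rw [Module.annihilator_eq_bot.2 inferInstance]
      exact bot_le)
    obtain ⟨d, hd, hup, -⟩ := exists_supportDim_localized h A q hqA
    rw [FlatLoc6.supportDim_self_atPrime] at hd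
    have hP : ∀ P : PrimeSpectrum A, P ≤ q → P ∈ Module.support A A ∧ n q - n P ≤ d := fun P hPq => by
      have hm : P ∈ Module.support A A := Module.mem_support_iff_of_finite.2 (by
        rw [Module.annihilator_eq_bot.2 inferInstance]
        exact bot_le)
      exact ⟨hm, hup P hm hPq⟩
    rcases Nat.lt_or_ge d 2 with hd2 | hd2
    · rcases h1q.eq_or_lt with rfl | hlt1
      · rw [le_antisymm h2q (h1.2 ⟨P₂.isPrime, bot_le⟩ h2q)]
      rcases h2q.eq_or_lt with rfl | hlt2
      · rw [le_antisymm h1q (h2.2 ⟨P₁.isPrime, bot_le⟩ h1q)]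
      have := (hP P₁ h1q).2
      have := (hP P₂ h2q).2
      have := h.strictMono hlt1
      have := h.strictMono hlt2
      omega
    by_contra hne
    let B := Localization.AtPrime q.asIdeal
    haveI : IsNoetherianRing B := IsLocalization.isNoetherianRing q.asIdeal.primeCompl B inferInstance
    have hdep : 2 ≤ LocCoh.depth B B := by
      have h0 := (FlatLoc6.hasSk_self_iff 2).1 hS q.asIdeal
      rw [WithBot.coe_inj.1 hd, min_eq_left (Nat.cast_le.2 hd2)] at h0
      exact h0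
    let S₁ : Set (PrimeSpectrum A) := {P | P.asIdeal ∈ minimalPrimes A ∧ n P = n P₁}
    let S₂ : Set (PrimeSpectrum A) := {P | P.asIdeal ∈ minimalPrimes A ∧ n P ≠ n P₁}
    have hfin : ∀ S : Set (PrimeSpectrum A), (∀ P ∈ S, P.asIdeal ∈ minimalPrimes A) → S.Finite := fun S hS' =>
      Set.Finite.subset ((Ideal.finite_minimalPrimes_of_isNoetherianRing A ⊥).preimage
        (f := PrimeSpectrum.asIdeal) (fun x _ y _ hxy => PrimeSpectrum.ext hxy)) hS'
    let c := PrimeSpectrum.comap (algebraMap A B)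
    let T : Set (PrimeSpectrum A) → Set (PrimeSpectrum B) := fun S => c ⁻¹' (⋃ P ∈ S, closure {P})
    have hT : ∀ S : Set (PrimeSpectrum A), (∀ P ∈ S, P.asIdeal ∈ minimalPrimes A) → IsClosed (T S) := fun S hS' =>
      ((hfin S hS').isClosed_biUnion fun P _ => isClosed_closure).preimage (PrimeSpectrum.continuous_comap _)
    have hmem : ∀ (S : Set (PrimeSpectrum A)) (x : PrimeSpectrum B), x ∈ T S ↔ ∃ P ∈ S, P ≤ c x := fun S x => by
      simp only [T, Set.mem_preimage, Set.mem_iUnion, exists_prop, ← specializes_iff_mem_closure,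
        ← PrimeSpectrum.le_iff_specializes]
    have hlift : ∀ P : PrimeSpectrum A, P ≤ q → P.asIdeal ∈ minimalPrimes A → P ≠ q →
        ∃ x : PrimeSpectrum B, x.asIdeal ≠ IsLocalRing.maximalIdeal B ∧ c x = P := by
      intro P hPq _ hPne
      have hdisj : Disjoint (q.asIdeal.primeCompl : Set A) (P.asIdeal : Set A) :=
        Set.disjoint_left.2 fun a ha haP => ha (hPq haP)
      haveI := IsLocalization.isPrime_of_isPrime_disjoint q.asIdeal.primeCompl B P.asIdeal P.isPrime hdisj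
      have hc : (P.asIdeal.map (algebraMap A B)).comap (algebraMap A B) = P.asIdeal :=
        IsLocalization.comap_map_of_isPrime_disjoint q.asIdeal.primeCompl B P.isPrime hdisj
      refine ⟨⟨P.asIdeal.map (algebraMap A B), inferInstance⟩, fun hm => hPne (PrimeSpectrum.ext ?_),
        PrimeSpectrum.ext hc⟩
      rw [← hc, show P.asIdeal.map (algebraMap A B) = IsLocalRing.maximalIdeal B from hm]
      exact IsLocalization.AtPrime.comap_maximalIdeal B q.asIdeal
    have hne1 : P₁ ≠ q := fun e => by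
      have h21 : P₂ ≤ P₁ := e.symm ▸ h2q
      exact hne (congrArg n (le_antisymm (h1.2 ⟨P₂.isPrime, bot_le⟩ h21) h21))
    have hne2 : P₂ ≠ q := fun e => by
      have h12 : P₁ ≤ P₂ := e.symm ▸ h1q
      exact hne (congrArg n (le_antisymm h12 (h2.2 ⟨P₁.isPrime, bot_le⟩ h12)))
    obtain ⟨x₁, hx₁, hcx₁⟩ := hlift P₁ h1q h1 hne1
    obtain ⟨x₂, hx₂, hcx₂⟩ := hlift P₂ h2q h2 hne2
    have hconn := (Groth.Agent.LC.isConnected_punctured hdep).2
    rw [isPreconnected_closed_iff] at hconn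
    obtain ⟨x, hxne, hxT1, hxT2⟩ := hconn (T S₁) (T S₂) (hT S₁ fun P hP => hP.1) (hT S₂ fun P hP => hP.1)
      (fun x _ => by
        obtain ⟨Q, hQ, hQx⟩ := Ideal.exists_minimalPrimes_le (I := (⊥ : Ideal A)) (J := (c x).asIdeal) bot_le
        by_cases hn : n ⟨Q, hQ.1.1⟩ = n P₁
        · exact Or.inl ((hmem S₁ x).2 ⟨⟨Q, hQ.1.1⟩, ⟨hQ, hn⟩, hQx⟩)
        · exact Or.inr ((hmem S₂ x).2 ⟨⟨Q, hQ.1.1⟩, ⟨hQ, hn⟩, hQx⟩))
      ⟨x₁, hx₁, (hmem S₁ x₁).2 ⟨P₁, ⟨h1, rfl⟩, hcx₁.ge⟩⟩
      ⟨x₂, hx₂, (hmem S₂ x₂).2 ⟨P₂, ⟨h2, fun e => hne e.symm⟩, hcx₂.ge⟩⟩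
    obtain ⟨Q₁, ⟨hQ₁, hn₁⟩, hQ₁x⟩ := (hmem S₁ x).1 hxT1
    obtain ⟨Q₂, ⟨hQ₂, hn₂⟩, hQ₂x⟩ := (hmem S₂ x).1 hxT2
    have hlt : c x < q := by
      refine lt_of_le_of_ne ((Ideal.comap_mono (IsLocalRing.le_maximalIdeal x.isPrime.ne_top)).trans
        (IsLocalization.AtPrime.comap_maximalIdeal B q.asIdeal).le) fun e => hxne ?_
      have h0 : c x = c (IsLocalRing.closedPoint B) := e.trans (PrimeSpectrum.ext
        (IsLocalization.AtPrime.comap_maximalIdeal B q.asIdeal).symm)
      exact congrArg PrimeSpectrum.asIdeal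
        (PrimeSpectrum.localization_comap_injective B q.asIdeal.primeCompl h0)
    have := ih _ (hk ▸ Ideal.height_strict_mono_of_isPrime (I := (c x).asIdeal) hlt) (c x) rfl Q₁ Q₂ hQ₁ hQ₂
      hQ₁x hQ₂x
    exact hn₂ (this ▸ hn₁)

end Groth.Agent.QGorRing
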