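import Groth.Agent.QGorRing.Criteria

/-!
# Dimensions of quotients from a normalization at the maximal ideals
-/

set_option autoImplicit false
set_option linter.style.haveILetI false
set_option linter.unusedSectionVars false
set_option backward.isDefEq.respectTransparency false

universe u

open CategoryTheory CategoryTheory.Limits Pretriangulated

attribute [local instance] HasDerivedCategory.standard

namespace Groth.Agent.QGorRing

open Groth.Agent.KFlatLib

variable {A : Type u} [CommRing A] [IsNoetherianRing A] {ω : Dual.D A} {n : PrimeSpectrum A → ℤ}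

/-- Where the residue field has no Ext outside degree zero the degree is zero. -/
theorem degree_eq_zero_of_normalized_at (h : IsDegree ω n) (m : PrimeSpectrum A)
    (hm : ∀ i : ℤ, i ≠ 0 → Subsingleton (Dual.inD A (A ⧸ m.asIdeal) ⟶ ω⟦i⟧)) : n m = 0 := by
  by_contra hne
  haveI := (h.ext m _).2 rfl
  haveI := hm _ hne
  exact not_subsingleton _ (LocalizedModule.subsingleton_iff.2 fun f => ⟨1, one_mem _, Subsingleton.elim _ _⟩ :
    Subsingleton (LocalizedModule m.asIdeal.primeCompl (Dual.inD A (A ⧸ m.asIdeal) ⟶ ω⟦n m⟧)))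

/-- If the degree vanishes at all maximal ideals it computes all dimensions of quotients. -/
theorem ringKrullDim_quotient_of_maximal (h : IsDegree ω n)
    (hmax : ∀ m : PrimeSpectrum A, m.asIdeal.IsMaximal → n m = 0) (p : PrimeSpectrum A) :
    ∃ e : ℕ, ringKrullDim (A ⧸ p.asIdeal) = e ∧ (e : ℤ) = -n p := by
  have hle0 : ∀ q : PrimeSpectrum A, n q ≤ 0 := fun q => by
    obtain ⟨m, hm, hqm⟩ := Ideal.exists_le_maximal q.asIdeal q.isPrime.ne_top
    have h1 := h.strictMono.monotone (show q ≤ (⟨m, hm.isPrime⟩ : PrimeSpectrum A) from hqm)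
    rw [hmax ⟨m, hm.isPrime⟩ hm] at h1
    exact h1
  obtain ⟨m, hm, hpm⟩ := Ideal.exists_le_maximal p.asIdeal p.isPrime.ne_top
  obtain ⟨l, hl1, hl2, hl3⟩ := exists_chain_of_le h.covBy _ ⟨m, hm.isPrime⟩ rfl p hpm
  rw [hmax ⟨m, hm.isPrime⟩ hm] at hl3
  refine ⟨l.length, le_antisymm ?_ ?_, by omega⟩
  · rw [ringKrullDim_quotient]
    refine iSup_le fun s => ?_
    have h1 : ∀ k : ℕ, ∀ hk : k < s.length + 1, n p + k ≤ n (s ⟨k, hk⟩).1 := by
      intro k
      induction k with
      | zero =>
        intro hk
        have := h.strictMono.monotone (show p ≤ (s ⟨0, hk⟩).1 from (s ⟨0, hk⟩).2)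
        simpa using this
      | succ k ih =>
        intro hk
        have h2 := ih (by omega)
        have h3 := h.strictMono (s.step ⟨k, by omega⟩)
        simp only [Fin.castSucc_mk, Fin.succ_mk] at h3
        push_cast
        omega
    have h2 := h1 s.length (by omega)
    have h3 := hle0 (s ⟨s.length, by omega⟩).1
    exact_mod_cast (show s.length ≤ l.length by omega)
  · rw [ringKrullDim_quotient]
    let s : LTSeries (PrimeSpectrum.zeroLocus (R := A) (p.asIdeal : Set A)) :=
      { length := l.length
        toFun := fun k => ⟨l k, show p.asIdeal ≤ (l k).asIdeal from hl1.trans (l.monotone (Fin.zero_le k))⟩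
        step := fun k => l.step k }
    exact le_iSup (fun t : LTSeries _ => ((t.length : ℕ∞) : WithBot ℕ∞)) s

/-- In a local ring a normalized complex computes all dimensions of quotients. -/
theorem ringKrullDim_quotient_of_isNormalized [IsLocalRing A] (h : IsDegree ω n) (hN : Dual.IsNormalized A ω)
    (p : PrimeSpectrum A) : ∃ e : ℕ, ringKrullDim (A ⧸ p.asIdeal) = e ∧ (e : ℤ) = -n p := by
  obtain ⟨e, he, he'⟩ := ringKrullDim_quotient_eq h.covBy h.strictMono p
  exact ⟨e, he, by rw [he', extDegree_closedPoint hN h.ext]; omega⟩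

end Groth.Agent.QGorRing
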