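import Groth.Agent.QGorRing.Devissage
import Groth.Agent.QGorRing.EquidimS2
import Groth.Agent.QGorRing.NormDim

/-!
# Endomorphisms and self extensions of the dualizing module
-/

set_option autoImplicit false
set_option linter.style.haveILetI false
set_option linter.unusedSectionVars false
set_option backward.isDefEq.respectTransparency false

universe u

open CategoryTheory CategoryTheory.Limits Pretriangulated

attribute [local instance] HasDerivedCategory.standard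

namespace Groth.Agent.QGorRing

open Groth.Agent.KFlatLib

variable {A : Type u} [CommRing A] [IsNoetherianRing A]

/-- Scalar endomorphisms are transported along isomorphisms. -/
theorem bijective_smul_id_of_iso {C : Type*} [Category C] [Preadditive C] [Linear A C] {X Y : C} (e : X ≅ Y)
    (h : Function.Bijective (fun r : A => r • 𝟙 X)) : Function.Bijective (fun r : A => r • 𝟙 Y) := by
  let c := Linear.homCongr A e e
  have hc : ∀ r : A, c (r • 𝟙 X) = r • 𝟙 Y := fun r => by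
    rw [map_smul, Linear.homCongr_apply, Category.comp_id, e.inv_hom_id]
  have := c.bijective.comp h
  rwa [show (c : (X ⟶ X) → (Y ⟶ Y)) ∘ (fun r : A => r • 𝟙 X) = fun r : A => r • 𝟙 Y from funext hc] at this

/-- Scalar endomorphisms descend along fully faithful linear functors. -/
theorem bijective_smul_id_of_map {C D : Type*} [Category C] [Preadditive C] [Linear A C] [Category D]
    [Preadditive D] [Linear A D] (G : C ⥤ D) [G.Full] [G.Faithful] [G.Additive] [G.Linear A] (X : C)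
    (h : Function.Bijective (fun r : A => r • 𝟙 (G.obj X))) : Function.Bijective (fun r : A => r • 𝟙 X) := by
  have hG : ∀ r : A, G.map (r • 𝟙 X) = r • 𝟙 (G.obj X) := fun r => by
    rw [Functor.map_smul, G.map_id]
  refine ⟨fun r s hrs => h.1 ?_, fun f => ?_⟩
  · show r • 𝟙 (G.obj X) = s • 𝟙 (G.obj X)
    rw [← hG, ← hG]
    exact congrArg G.map hrs
  · obtain ⟨r, hr⟩ := h.2 (G.map f)
    exact ⟨r, G.map_injective ((hG r).trans hr)⟩

variable [IsLocalRing A] {ω : Dual.D A}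

/-- The dualizing module: endomorphisms, and vanishing of self extensions. -/
theorem dualizingModule_hom (hω : Dual.IsDualizing A ω) (hn : Dual.IsNormalized A ω) (N : ℕ)
    (hd : ringKrullDim A = N) (hS : LocCoh.HasSk 2 A A) :
    Function.Bijective (fun r : A => r • (LinearMap.id : Dual.HD A ω (-(N : ℤ)) →ₗ[A] Dual.HD A ω (-(N : ℤ)))) ∧
    (LocCoh.HasSk 3 A A →
      Subsingleton (Dual.inD A (Dual.HD A ω (-(N : ℤ))) ⟶ (Dual.inD A (Dual.HD A ω (-(N : ℤ))))⟦(1 : ℤ)⟧)) := by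
  obtain ⟨d, h⟩ := exists_isDegree hω
  have hdim := ringKrullDim_quotient_of_isNormalized h hn
  have hlow : ∀ P : PrimeSpectrum A, -(N : ℤ) ≤ d P ∧ d P ≤ 0 := fun P => by
    obtain ⟨e, he, he'⟩ := hdim P
    have h1 : ringKrullDim (A ⧸ P.asIdeal) ≤ ringKrullDim A :=
      ringKrullDim_le_of_surjective _ Ideal.Quotient.mk_surjective
    rw [he, hd] at h1
    have : e ≤ N := by exact_mod_cast h1
    omega
  have hall : ∀ P : PrimeSpectrum A, P ∈ Module.support A A := fun P => Module.mem_support_iff_of_finite.2 (by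
    rw [Module.annihilator_eq_bot.2 inferInstance]
    exact bot_le)
  have hmin : ∀ Q ∈ Module.support A A, (∀ R ∈ Module.support A A, R ≤ Q → R = Q) → d Q = -(N : ℤ) := by
    intro Q _ hQm
    obtain ⟨P, -, hPm, hP⟩ := exists_mem_support_dim A N ((Module.supportDim_self_eq_ringKrullDim A).trans hd)
    obtain ⟨e, he, he'⟩ := hdim P
    rw [he] at hP
    have : N ≤ e := by exact_mod_cast hP
    have h2 := degree_minimal_eq h hS (IsLocalRing.closedPoint A) Q P
      ⟨⟨Q.isPrime, bot_le⟩, fun J hJ hJQ => (congrArg PrimeSpectrum.asIdeal (hQm ⟨J, hJ.1⟩ (hall _) hJQ)).ge⟩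
      ⟨⟨P.isPrime, bot_le⟩, fun J hJ hJP => (congrArg PrimeSpectrum.asIdeal (hPm ⟨J, hJ.1⟩ (hall _) hJP)).ge⟩
      (IsLocalRing.le_maximalIdeal Q.isPrime.ne_top) (IsLocalRing.le_maximalIdeal P.isPrime.ne_top)
    have := (hlow P).1
    omega
  obtain ⟨a, ha⟩ := exists_isGE hω
  have hHD : ∀ j : ℤ, Subsingleton (Dual.inD A A ⟶ ω⟦j⟧) → IsZero
      ((DerivedCategory.homologyFunctor (ModuleCat.{u} A) j).obj ω) := fun j hj => by
    obtain ⟨e⟩ := exists_homRingLEquiv ω j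
    exact @ModuleCat.isZero_of_subsingleton _ _ _ e.symm.injective.subsingleton
  haveI : ω.IsGE (-(N : ℤ)) := (DerivedCategory.isGE_iff _ _).2 fun j hj =>
    hHD j (subsingleton_hom_module_of_lt h.ext A j fun P _ => by have := hlow P; omega)
  haveI : ω.IsLE 0 := (DerivedCategory.isLE_iff _ _).2 fun j hj =>
    hHD j (subsingleton_hom_module_of_pos hω hn A j hj)
  let t := DerivedCategory.TStructure.t (C := ModuleCat.{u} A)
  let c : ℤ := -(N : ℤ) + 1
  let X₁ := (t.truncLT c).obj ω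
  let X₃ := (t.truncGE c).obj ω
  have hT := t.triangleLTGE_distinguished c ω
  let ι : X₁ ⟶ ω := (t.truncLTι c).app ω
  haveI : X₁.IsLE (-(N : ℤ)) := by
    rw [show (-(N : ℤ)) = c - 1 by simp [c]]
    exact t.isLE_truncLT_obj ..
  haveI : X₁.IsGE (-(N : ℤ)) := inferInstanceAs (t.IsGE ((t.truncLT c).obj ω) (-(N : ℤ)))
  haveI : X₃.IsGE c := t.isGE_truncGE_obj ..
  haveI : X₃.IsLE 0 := inferInstanceAs (t.IsLE ((t.truncGE c).obj ω) 0)
  have hvan : ∀ k : ℕ, 1 ≤ k → LocCoh.HasSk k A A → ∀ i : ℤ, i < k → Subsingleton (X₃ ⟶ ω⟦i⟧) := by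
    intro k hk hSk i hi
    refine subsingleton_hom_of_cohomology (ω⟦i⟧) N c X₃ inferInstance
      (by rw [show c + (N : ℤ) - 1 = 0 by simp [c]]; infer_instance) fun j hj hj' H _ _ ⟨eH⟩ => ?_
    haveI : IsIso ((DerivedCategory.homologyFunctor (ModuleCat.{u} A) j).map ((t.truncGEπ c).app ω)) :=
      Groth.Agent.H9Misc.isIso_map_truncGEπ c j hj ω
    obtain ⟨e⟩ := exists_homRingLEquiv ω j
    let e' : H ≃ₗ[A] (Dual.inD A A ⟶ ω⟦j⟧) := eH.trans ((asIso ((DerivedCategory.homologyFunctor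
      (ModuleCat.{u} A) j).map ((t.truncGEπ c).app ω))).symm.toLinearEquiv.trans e.symm)
    haveI : Module.Finite A (Dual.inD A A ⟶ ω⟦j⟧) := finite_hom_module ω a hω.finite_cohomology A j
    haveI : Module.Finite A H := Module.Finite.equiv e'.symm
    obtain ⟨h1, h2⟩ := (hasSk_iff_supportDim h hdim A N hmin k hk).1 hSk j (by simp [c] at hj; omega)
    haveI : Subsingleton (Dual.inD A H ⟶ ω⟦i + j⟧) := by
      refine subsingleton_hom_module_of_lt h.ext H (i + j) fun P hP => ?_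
      rw [e'.support_eq] at hP
      rcases lt_or_ge (-j - (k : ℤ)) 0 with hneg | hpos
      · exact absurd hP ((subsingleton_iff_support (A := A) _).1 (h1 hneg) P)
      · have := (supportDim_le_iff_degree h hdim _ _).1 (h2 hpos) P hP
        omega
    exact (((shiftFunctorAdd' (Dual.D A) i j (i + j) rfl).app ω).homToEquiv (Z := Dual.inD A H)).symm.subsingleton
  have hz : ∀ (Z : Dual.D A), Z.IsGE c → ∀ g : X₁ ⟶ Z, g = 0 := fun Z hZ g => by
    haveI := hZ
    exact t.zero g (-(N : ℤ)) c (by simp [c])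
  have hι : ∀ g : X₁ ⟶ X₁, g ≫ ι = 0 → g = 0 := by
    intro g hg
    obtain ⟨b, hb⟩ := Triangle.coyoneda_exact₂ _ (inv_rot_of_distTriang _ hT) g hg
    haveI : (X₃⟦(-1 : ℤ)⟧).IsGE (c + 1) := t.isGE_shift X₃ c (-1) (c + 1) (by omega)
    haveI : (X₃⟦(-1 : ℤ)⟧).IsGE c := t.isGE_of_ge (X₃⟦(-1 : ℤ)⟧) c (c + 1) (by omega)
    rw [hb, show b = 0 from hz _ ‹_› b]
    exact zero_comp
  have h0 : Subsingleton (X₃ ⟶ ω⟦(0 : ℤ)⟧) := hvan 2 (by omega) hS 0 (by omega)
  have h0' : Subsingleton (X₃ ⟶ ω) :=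
    @Equiv.subsingleton _ _ (((shiftFunctorZero (Dual.D A) ℤ).app ω).homToEquiv (Z := X₃)).symm h0
  have h1 : Subsingleton (X₃ ⟶ ω⟦(1 : ℤ)⟧) := hvan 2 (by omega) hS 1 (by omega)
  have hbij : Function.Bijective (fun r : A => r • 𝟙 X₁) := by
    refine ⟨fun r s hrs => hω.toEnd_bijective.1 (sub_eq_zero.1 ?_), fun g => ?_⟩
    · show r • 𝟙 ω - s • 𝟙 ω = 0
      obtain ⟨b, hb⟩ := Triangle.yoneda_exact₂ _ hT (r • 𝟙 ω - s • 𝟙 ω) (by
        show ι ≫ (r • 𝟙 ω - s • 𝟙 ω) = 0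
        have : r • 𝟙 X₁ = s • 𝟙 X₁ := hrs
        rw [Preadditive.comp_sub, Linear.comp_smul, Linear.comp_smul, Category.comp_id, ← Category.id_comp ι,
          ← Linear.smul_comp, ← Linear.smul_comp, this, sub_self])
      rw [hb, show b = 0 from Subsingleton.elim (α := X₃ ⟶ ω) _ _]
      exact comp_zero
    · obtain ⟨f, hf⟩ : ∃ f : ω ⟶ ω, g ≫ ι = ι ≫ f := by
        refine Triangle.yoneda_exact₂ _ (inv_rot_of_distTriang _ hT) (g ≫ ι) ?_
        have hs : Subsingleton (X₃⟦(-1 : ℤ)⟧ ⟶ ω) := by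
          obtain ⟨e⟩ := exists_shiftHomLEquiv X₃ ω 1
          exact @Equiv.subsingleton _ _ e.toEquiv.symm h1
        exact hs.elim _ _
      obtain ⟨r, hr⟩ := hω.toEnd_bijective.2 f
      refine ⟨r, sub_eq_zero.1 (hι _ ?_)⟩
      rw [Preadditive.sub_comp, hf, ← hr, Linear.smul_comp, Linear.comp_smul, Category.id_comp, Category.comp_id,
        sub_self]
  haveI : IsIso ((DerivedCategory.homologyFunctor (ModuleCat.{u} A) (-(N : ℤ))).map ι) :=
    Groth.Agent.H9Misc.isIso_map_truncLTι c _ (by simp [c]) ω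
  obtain ⟨eX⟩ := nonempty_iso_shift_homology (-(N : ℤ)) X₁
  let K := (DerivedCategory.homologyFunctor (ModuleCat.{u} A) (-(N : ℤ))).obj ω
  let eK : X₁ ≅ (Dual.inD A (Dual.HD A ω (-(N : ℤ))))⟦-(-(N : ℤ))⟧ := eX ≪≫
    (shiftFunctor (Dual.D A) (-(-(N : ℤ)))).mapIso ((DerivedCategory.singleFunctor (ModuleCat.{u} A) 0).mapIso
      (asIso ((DerivedCategory.homologyFunctor (ModuleCat.{u} A) (-(N : ℤ))).map ι) :
        ModuleCat.of A (Dual.HD A X₁ (-(N : ℤ))) ≅ ModuleCat.of A (Dual.HD A ω (-(N : ℤ)))))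
  refine ⟨?_, fun hS3 => ?_⟩
  · have h3 : Function.Bijective (fun r : A => r • 𝟙 (ModuleCat.of A K)) :=
      bijective_smul_id_of_map (DerivedCategory.singleFunctor (ModuleCat.{u} A) 0) _
        (bijective_smul_id_of_map (shiftFunctor (Dual.D A) (-(-(N : ℤ)))) _ (bijective_smul_id_of_iso eK hbij))
    refine ⟨fun r s hrs => h3.1 (ModuleCat.hom_ext hrs), fun f => ?_⟩
    obtain ⟨r, hr⟩ := h3.2 (ModuleCat.ofHom f)
    exact ⟨r, congrArg ModuleCat.Hom.hom hr⟩
  · have h2 : Subsingleton (X₃ ⟶ ω⟦(2 : ℤ)⟧) := hvan 3 (by omega) hS3 2 (by omega)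
    have hs : Subsingleton (X₁ ⟶ X₁⟦(1 : ℤ)⟧) := by
      refine subsingleton_of_forall_eq 0 fun g => ?_
      have hg : g ≫ ι⟦(1 : ℤ)⟧' = 0 := by
        have hs2 : Subsingleton (X₃⟦(-1 : ℤ)⟧ ⟶ ω⟦(1 : ℤ)⟧) := by
          obtain ⟨e⟩ := exists_shiftHomLEquiv X₃ (ω⟦(1 : ℤ)⟧) 1
          exact @Equiv.subsingleton _ _ (e.toEquiv.symm.trans
            (((shiftFunctorAdd' (Dual.D A) (1 : ℤ) 1 2 (by omega)).app ω).homToEquiv (Z := X₃)).symm) h2
        obtain ⟨f, hf⟩ := Triangle.yoneda_exact₂ _ (inv_rot_of_distTriang _ hT) (g ≫ ι⟦(1 : ℤ)⟧') (hs2.elim _ _)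
        rw [hf, (hω.ext_self_subsingleton 1 one_ne_zero).elim f 0]
        exact comp_zero
      obtain ⟨b, hb⟩ := Triangle.coyoneda_exact₁ _ hT g hg
      rw [hb, show b = 0 from hz _ inferInstance b]
      exact zero_comp
    let sc := (shiftFunctorComm (Dual.D A) (-(-(N : ℤ))) (1 : ℤ)).app (Dual.inD A (Dual.HD A ω (-(N : ℤ))))
    let e1 := (Functor.FullyFaithful.ofFullyFaithful (shiftFunctor (Dual.D A) (-(-(N : ℤ))))).homEquiv
      (X := Dual.inD A (Dual.HD A ω (-(N : ℤ)))) (Y := (Dual.inD A (Dual.HD A ω (-(N : ℤ))))⟦(1 : ℤ)⟧)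
    exact @Equiv.subsingleton _ _ (e1.trans (Iso.homCongr eK.symm
      (sc.symm ≪≫ (shiftFunctor (Dual.D A) (1 : ℤ)).mapIso eK.symm))) hs

end Groth.Agent.QGorRing
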