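import Groth.Agent.KFlatLib.Ring.FreeUpTo
import Groth.Agent.KFlatLib.Ring.KerDepth

/-!
# The dual of a finite module over an `(S₂)` ring satisfies `(S₂)`
-/

set_option autoImplicit false

universe u

namespace Groth.Agent.QGorRing

open Groth.Agent.KFlatLib

variable {A : Type u} [CommRing A] [IsNoetherianRing A]

/-- The dual of a finite module satisfies `(S₂)` when the ring does. -/
theorem hasSk_two_dual (h : LocCoh.HasSk 2 A A) (M : Type u) [AddCommGroup M] [Module A M] [Module.Finite A M] :
    LocCoh.HasSk 2 A (Module.Dual A M) := by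
  obtain ⟨b, π, hπ⟩ := Module.Finite.exists_fin' A M
  obtain ⟨a, τ, hτ⟩ := Module.Finite.exists_fin' A (LinearMap.ker π)
  let e0 : Module.Dual A (Fin b → A) ≃ₗ[A] (Fin b → A) := (Pi.basisFun A (Fin b)).toDualEquiv.symm
  let e1 : Module.Dual A (Fin (a + 1) → A) ≃ₗ[A] (Fin (a + 1) → A) :=
    (Pi.basisFun A (Fin (a + 1))).toDualEquiv.symm
  let τ' := τ ∘ₗ LinearMap.funLeft A A Fin.castSucc
  have hτ' : Function.Surjective τ' :=
    hτ.comp (LinearMap.funLeft_surjective_of_injective A A Fin.castSucc (Fin.castSucc_injective a))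
  let w : (Fin (a + 1) → A) →ₗ[A] (Fin b → A) := (LinearMap.ker π).subtype ∘ₗ τ'
  let f : Module.Dual A M →ₗ[A] (Fin b → A) := e0.toLinearMap ∘ₗ π.dualMap
  let g : (Fin b → A) →ₗ[A] (Fin (a + 1) → A) := e1.toLinearMap ∘ₗ w.dualMap ∘ₗ e0.symm.toLinearMap
  have hf : Function.Injective f := e0.injective.comp (LinearMap.dualMap_injective_of_surjective hπ)
  have hfg : Function.Exact f g := fun x => by
    constructor
    · intro hx
      have hφ : w.dualMap (e0.symm x) = 0 := e1.injective (by rw [map_zero]; exact hx)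
      have hle : LinearMap.ker π ≤ LinearMap.ker (e0.symm x) := fun z hz => by
        obtain ⟨v, hv⟩ := hτ' ⟨z, hz⟩
        rw [LinearMap.mem_ker, show z = w v from (congrArg Subtype.val hv).symm]
        exact LinearMap.congr_fun hφ v
      refine ⟨(LinearMap.ker π).liftQ (e0.symm x) hle ∘ₗ (π.quotKerEquivOfSurjective hπ).symm.toLinearMap, ?_⟩
      apply e0.symm.injective
      show e0.symm (e0 _) = _
      rw [e0.symm_apply_apply]
      refine LinearMap.ext fun z => ?_
      show (LinearMap.ker π).liftQ (e0.symm x) hle ((π.quotKerEquivOfSurjective hπ).symm (π z)) = e0.symm x z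
      rw [show (π.quotKerEquivOfSurjective hπ).symm (π z) = Submodule.Quotient.mk z from
        (π.quotKerEquivOfSurjective hπ).symm_apply_eq.2 rfl]
      rfl
    · rintro ⟨ψ, rfl⟩
      show e1 (w.dualMap (e0.symm (e0 (π.dualMap ψ)))) = 0
      rw [e0.symm_apply_apply, LinearEquiv.map_eq_zero_iff]
      refine LinearMap.ext fun z => ?_
      show ψ (π (w z)) = 0
      rw [show π (w z) = 0 from (τ' z).2, map_zero]
  have hsupp : Module.support A (Module.Dual A M) ⊆ Module.support A (Fin (a + 1) → A) := fun q _ =>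
    Module.mem_support_iff'.2 ⟨1, fun r hr h0 => hr (by
      have h1 : r * 1 = 0 := congrFun h0 0
      rw [mul_one] at h1; rw [h1]; exact q.asIdeal.zero_mem)⟩
  have h1 : LocCoh.HasSk 1 A A := fun p hp =>
    haveI := hp
    (min_le_min (Nat.cast_le.2 one_le_two) le_rfl).trans (h p)
  exact hasSk_two_of_exact f g hf hfg hsupp (hasSk_pi 1 h1 _) (hasSk_pi 2 h _)

end Groth.Agent.QGorRing
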