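import Groth.Agent.Codepth5.Sk

/-!
# Equidimensionality of `(S₁)` fibres is open
-/

set_option autoImplicit false
set_option linter.style.haveILetI false
set_option backward.isDefEq.respectTransparency false
set_option backward.isDefEq.respectTransparency.types false

universe u

open IsLocalRing TensorProduct Groth.Agent.RegLoc6

namespace Groth.Agent.QGorRing

open Groth.Agent.Codepth5
open FibDim (fib)

section Poly

variable {R : Type u} [CommRing R] {N : ℕ} (M : Type u) [AddCommGroup M] [Module (MvPolynomial (Fin N) R) M]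
  [Module.Finite (MvPolynomial (Fin N) R) M]

local notation "P" => MvPolynomial (Fin N) R
local notation "O" q:max => EGA4.FibLocRing R (MvPolynomial (Fin N) R) (PrimeSpectrum.asIdeal q)

/-- All components through `q` of the support in the fibre have codimension `cc`. -/
def EquiAt (cc : ℕ) (q : PrimeSpectrum P) : Prop :=
  ∀ t : ↥(fib (B := P) (PrimeSpectrum.comap (algebraMap R P) q)), t.1 ≤ q →
    t.1 ∈ Module.support P M → (∀ s, s < t → s.1 ∉ Module.support P M) → Order.height t = cc

omit [Module.Finite P M] in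
theorem height_lt_top (y : PrimeSpectrum R) (t : ↥(fib (B := P) y)) : Order.height t < ⊤ := by
  have h := height_add_coheight_fib y t
  refine lt_of_le_of_lt le_self_add ?_ (b := Order.height t + Order.coheight t)
  rw [h]
  exact ENat.natCast_lt_top N

theorem le_height_of_equiAt {cc : ℕ} {q : PrimeSpectrum P} (h : EquiAt M cc q) :
    ∀ t : ↥(fib (B := P) (PrimeSpectrum.comap (algebraMap R P) q)), t.1 ≤ q →
      t.1 ∈ Module.support P M → (cc : ℕ∞) ≤ Order.height t + (0 : ℕ) := by
  suffices ∀ (k : ℕ∞) (t : ↥(fib (B := P) (PrimeSpectrum.comap (algebraMap R P) q))), Order.height t = k →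
      t.1 ≤ q → t.1 ∈ Module.support P M → (cc : ℕ∞) ≤ k from fun t ht htM => by
    rw [Nat.cast_zero, add_zero]
    exact this _ t rfl ht htM
  intro k
  induction k using WellFoundedLT.induction with
  | _ k ih =>
    intro t hk ht htM
    by_cases hmin : ∀ s, s < t → s.1 ∉ Module.support P M
    · exact (h t ht htM hmin).ge.trans hk.le
    · push_neg at hmin
      obtain ⟨s, hst, hsM⟩ := hmin
      have hlt : Order.height s < k := hk ▸ Order.height_strictMono hst (height_lt_top _ s)
      exact (ih _ hlt s rfl ((show s.1 ≤ t.1 from hst.le).trans ht) hsM).trans hlt.le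

variable [Module R M] [IsScalarTower R (MvPolynomial (Fin N) R) M]
  [Module.FinitePresentation (MvPolynomial (Fin N) R) M] [Module.Flat R M]

/-- Under `(S₁)` the equidimensionality of the fibre of the support is an open condition. -/
theorem exists_open_equiAt {k : ℕ} (hk : 1 ≤ k) {cc : ℕ} {q₀ : PrimeSpectrum P} (hS : SkGen R M k q₀)
    (hq₀ : q₀ ∈ Module.support P M) (hE : EquiAt M cc q₀) :
    ∃ W : Set (PrimeSpectrum P), IsOpen W ∧ q₀ ∈ W ∧ ∀ q ∈ W, EquiAt M cc q := by
  let Wj : ℕ → Set (PrimeSpectrum P) := fun j => {q | PdLE (O q) j ((O q) ⊗[P] M)}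
  choose I hI using fun j => (PrimeSpectrum.isClosed_iff_zeroLocus_ideal (Wj j)ᶜ).1
    (isOpen_pdLE (A := R) (B := P) j M).isClosed_compl
  have hbad : ∀ j, Module.support P (P ⧸ I j) = (Wj j)ᶜ := fun j => by
    rw [Module.support_eq_zeroLocus, Ideal.annihilator_quotient, ← hI j]
  let G : Set (PrimeSpectrum P) := {q | ∀ t : ↥(fib (B := P) (PrimeSpectrum.comap (algebraMap R P) q)),
    t.1 ≤ q → t.1 ∈ Module.support P M → (cc : ℕ∞) ≤ Order.height t + (0 : ℕ)}
  let H : ℕ → Set (PrimeSpectrum P) := fun j => {q | ∀ t : ↥(fib (B := P) (PrimeSpectrum.comap (algebraMap R P) q)),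
    t.1 ≤ q → t.1 ∈ Module.support P (P ⧸ I j) → ((j + 2 : ℕ) : ℕ∞) ≤ Order.height t + (0 : ℕ)}
  refine ⟨G ∩ ⋂ j ∈ Finset.Ico cc N, H j, (isOpen_codim M cc 0).inter
    (isOpen_biInter_finset fun j _ => isOpen_codim _ _ 0), ⟨le_height_of_equiAt M hE, ?_⟩, ?_⟩
  · simp only [Set.mem_iInter, Finset.mem_Ico]
    intro j hj t ht htB
    rw [hbad] at htB
    rcases exists_invariants M t.1 with ⟨-, -, hW⟩ | ⟨d, D, a, haD, hDd, hdN, hts, hdd, hh, hW, hG⟩
    · exact absurd (hW j) htB
    have h1 : ¬ d ≤ a + j := fun h' => htB ((hW j).2 h')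
    rw [Nat.cast_zero, add_zero, height_congr_fib t.2.symm t ⟨t.1, rfl⟩ rfl, hh]
    by_cases ha : a = 0
    · exfalso
      have hS1 := hS t ht
      rw [SkOne, hdd] at hS1
      have hD0 : D = 0 := by
        by_contra hne
        have h2 : min (k : WithBot ℕ∞) ((D : ℕ) : WithBot ℕ∞) ≤ (((0 : ℕ) : ℕ∞) : WithBot ℕ∞) := ha ▸ hS1
        rw [min_le_iff] at h2
        rcases h2 with h2 | h2
        · exact absurd (by exact_mod_cast h2 : k ≤ 0) (by omega)
        · exact hne (Nat.le_zero.1 (by exact_mod_cast h2))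
      have hmin : ∀ s, s < t → s.1 ∉ Module.support P M := fun s hst hsM => by
        have hs' : PrimeSpectrum.comap (algebraMap R P) s.1 = PrimeSpectrum.comap (algebraMap R P) t.1 :=
          s.2.trans t.2.symm
        have h3 := (hG d).2 (by omega) ⟨s.1, hs'⟩ hst.le hsM
        rw [Nat.cast_zero, add_zero, height_congr_fib t.2 ⟨s.1, hs'⟩ s rfl] at h3
        have h4 := Order.height_strictMono hst (height_lt_top _ s)
        rw [height_congr_fib t.2.symm t ⟨t.1, rfl⟩ rfl, hh] at h4
        exact absurd h3 (not_le.2 h4)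
      have h5 := hE t ht hts hmin
      rw [height_congr_fib t.2.symm t ⟨t.1, rfl⟩ rfl, hh] at h5
      have : d = cc := by exact_mod_cast h5
      omega
    · exact_mod_cast (show j + 2 ≤ d by omega)
  · rintro q ⟨hqG, hqH⟩ t ht htM hmin
    have hge : (cc : ℕ∞) ≤ Order.height t := by simpa using hqG t ht htM
    rcases exists_invariants M t.1 with ⟨hns, -, -⟩ | ⟨d, D, a, haD, hDd, hdN, hts, hdd, hh, hW, hG⟩
    · exact absurd htM hns
    rw [height_congr_fib t.2.symm t ⟨t.1, rfl⟩ rfl, hh] at hge ⊢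
    have hge' : cc ≤ d := by exact_mod_cast hge
    have hD : D + d ≤ d := (hG d).1 fun s hs hsM => by
      have hs' : PrimeSpectrum.comap (algebraMap R P) s.1 = PrimeSpectrum.comap (algebraMap R P) q := s.2.trans t.2
      have heq : (⟨s.1, hs'⟩ : ↥(fib (B := P) (PrimeSpectrum.comap (algebraMap R P) q))) = t := by
        rcases (show (⟨s.1, hs'⟩ : ↥(fib (B := P) (PrimeSpectrum.comap (algebraMap R P) q))) ≤ t from hs).eq_or_lt with h | h
        · exact h
        · exact absurd hsM (hmin _ h)
      rw [Nat.cast_zero, add_zero, show s = ⟨t.1, rfl⟩ from Subtype.ext (congrArg Subtype.val heq :), hh]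
    by_contra hne
    have hlt : cc < d := lt_of_le_of_ne hge' fun e => hne (by rw [e])
    simp only [Set.mem_iInter, Finset.mem_Ico] at hqH
    have := hqH (d - 1) ⟨by omega, by omega⟩ t ht (by
      rw [hbad]
      exact fun h' => absurd ((hW (d - 1)).1 h') (by omega))
    rw [Nat.cast_zero, add_zero, height_congr_fib t.2.symm t ⟨t.1, rfl⟩ rfl, hh] at this
    have : d - 1 + 2 ≤ d := by exact_mod_cast this
    omega

end Poly

section Affine

variable {A B : Type u} [CommRing A] [CommRing B] [Algebra A B] [Algebra.FinitePresentation A B] [Module.Flat A B]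

/-- `(S₁)` and one dimension for the components of the fibre through a point spread to a neighbourhood. -/
theorem exists_open_coheight_eq {k : ℕ} (hk : 1 ≤ k) {e : ℕ} {q₀ : PrimeSpectrum B} (hS : SkGen A B k q₀)
    (hE : ∀ t : ↥(fib (B := B) (PrimeSpectrum.comap (algebraMap A B) q₀)), t.1 ≤ q₀ →
      IsMin t → Order.coheight t = e) :
    ∃ W : Set (PrimeSpectrum B), IsOpen W ∧ q₀ ∈ W ∧ ∀ q ∈ W,
      ∀ t : ↥(fib (B := B) (PrimeSpectrum.comap (algebraMap A B) q)), t.1 ≤ q → IsMin t → Order.coheight t = e := by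
  obtain ⟨N, f, hf, hker⟩ := Algebra.FinitePresentation.out (R := A) (A := B)
  let P := MvPolynomial (Fin N) A
  letI : Algebra P B := f.toRingHom.toAlgebra
  haveI h1 : IsScalarTower A P B := IsScalarTower.of_algebraMap_eq fun a => (f.commutes a).symm
  haveI hfp : Module.FinitePresentation P B :=
    Module.finitePresentation_of_surjective (Algebra.linearMap P B) hf (by
      rwa [show LinearMap.ker (Algebra.linearMap P B) = RingHom.ker f.toRingHom from
        Submodule.ext fun _ => Iff.rfl])
  replace hf : Function.Surjective (algebraMap P B) := hf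
  let ι := PrimeSpectrum.comap (algebraMap P B)
  have hι : Topology.IsClosedEmbedding ι := PrimeSpectrum.isClosedEmbedding_comap_of_surjective _ _ hf
  have hy : ∀ t : PrimeSpectrum B, PrimeSpectrum.comap (algebraMap A P) (ι t) =
      PrimeSpectrum.comap (algebraMap A B) t := fun t => by
    show PrimeSpectrum.comap _ (PrimeSpectrum.comap _ t) = _
    rw [← PrimeSpectrum.comap_comp_apply, ← IsScalarTower.algebraMap_eq]
  have hle : ∀ a b, ι a ≤ ι b ↔ a ≤ b := fun a b => by
    rw [PrimeSpectrum.le_iff_specializes, PrimeSpectrum.le_iff_specializes]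
    exact hι.isInducing.specializes_iff
  have hlt : ∀ a b, ι a < ι b ↔ a < b := fun a b => lt_iff_lt_of_le_iff_le' (hle _ _) (hle _ _)
  have hsupp : Module.support P B = Set.range ι := by
    refine Set.Subset.antisymm (fun x hx => ?_) ?_
    · rw [_root_.range_comap_of_surjective _ _ hf]
      intro r hr
      refine (Module.support_eq_zeroLocus (R := P) (M := B)).le hx (Module.mem_annihilator.2 fun m => ?_)
      refine (IsScalarTower.algebraMap_smul B r m).symm.trans ?_
      rw [RingHom.mem_ker.1 hr, zero_smul]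
    · rintro _ ⟨b, rfl⟩
      refine Module.mem_support_iff_of_finite.2 fun r hr => ?_
      show algebraMap P B r ∈ b.asIdeal
      have h0 := Module.mem_annihilator.1 hr (1 : B)
      have h0' : algebraMap P B r = 0 :=
        (mul_one _).symm.trans ((IsScalarTower.algebraMap_smul B r (1 : B)).trans h0)
      rw [h0']; exact zero_mem _
  have hcoh : ∀ t : PrimeSpectrum B,
      Order.coheight (⟨t, rfl⟩ : ↥(fib (B := B) (PrimeSpectrum.comap (algebraMap A B) t))) =
      Order.coheight (⟨ι t, rfl⟩ : ↥(fib (B := P) (PrimeSpectrum.comap (algebraMap A P) (ι t)))) := fun t =>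
    transfer (A := A) (P := P) hf t
  have key : ∀ (q : PrimeSpectrum B) (cc : ℕ), cc + e = N → (EquiAt B cc (ι q) ↔
      ∀ t : ↥(fib (B := B) (PrimeSpectrum.comap (algebraMap A B) q)), t.1 ≤ q → IsMin t → Order.coheight t = e) := by
    intro q cc hcc
    constructor
    · intro h t ht hmin
      let t' : ↥(fib (B := P) (PrimeSpectrum.comap (algebraMap A P) (ι q))) :=
        ⟨ι t.1, ((hy t.1).trans t.2).trans (hy q).symm⟩
      have h4 := h t' ((hle _ _).2 ht) (hsupp ▸ Set.mem_range_self t.1) fun s hs hsM => by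
        obtain ⟨b, hb⟩ := hsupp ▸ hsM
        let s' : ↥(fib (B := B) (PrimeSpectrum.comap (algebraMap A B) q)) :=
          ⟨b, ((hy b).symm.trans ((congrArg _ hb).trans s.2)).trans (hy q)⟩
        refine hmin.not_lt (b := s') ((hlt b t.1).1 ?_)
        show ι b < ι t.1
        rw [hb]
        exact hs
      have h5 := height_add_coheight_fib _ t'
      rw [h4, coheight_congr_fib t'.2.symm t' ⟨ι t.1, rfl⟩ rfl, ← hcoh] at h5
      replace h5 := h5.trans (show ((N : ℕ) : ℕ∞) = (cc : ℕ∞) + e by exact_mod_cast hcc.symm)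
      rw [coheight_congr_fib t.2.symm t ⟨t.1, rfl⟩ rfl]
      exact (ENat.add_right_injective_of_ne_top (ENat.natCast_ne_top cc)) h5
    · intro h t ht htM hmin
      obtain ⟨b, hb⟩ := hsupp ▸ htM
      let b' : ↥(fib (B := B) (PrimeSpectrum.comap (algebraMap A B) q)) :=
        ⟨b, ((hy b).symm.trans ((congrArg _ hb).trans t.2)).trans (hy q)⟩
      have hbmin : IsMin b' := fun s hs => by
        by_contra hns
        have hlt' : s.1 < b := lt_of_le_not_ge hs hns
        refine hmin ⟨ι s.1, ((hy s.1).trans s.2).trans (hy q).symm⟩ ?_ (hsupp ▸ Set.mem_range_self s.1)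
        show ι s.1 < t.1
        rw [← hb]
        exact (hlt _ _).2 hlt'
      have h4 := h b' ((hle _ _).1 (show ι b ≤ ι q by rw [hb]; exact ht)) hbmin
      rw [coheight_congr_fib b'.2.symm b' ⟨b, rfl⟩ rfl, hcoh,
        coheight_congr_fib ((congrArg _ hb).trans t.2) _ t hb] at h4
      have h5 := height_add_coheight_fib _ t
      rw [h4] at h5
      replace h5 := h5.trans (show ((N : ℕ) : ℕ∞) = (cc : ℕ∞) + e by exact_mod_cast hcc.symm)
      exact (ENat.add_left_injective_of_ne_top (ENat.natCast_ne_top e)) h5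
  have hout : ∀ t : PrimeSpectrum P, t ∉ Set.range ι → SkOne A B k t.asIdeal := fun t ht => by
    rw [SkOne]
    rcases exists_invariants B t with ⟨-, hdd, -⟩ | ⟨d, D, a, -, -, -, hts, -⟩
    · rw [hdd]
      exact le_trans (min_le_right _ _) bot_le
    · exact absurd (hsupp ▸ hts) ht
  have hSP : SkGen A B k (ι q₀) := (skGen_iff_of_surjective (A := A) (P := P) hf B k hout q₀).2 hS
  -- the dimension of the components is at most `N`
  obtain ⟨t₀, ht₀, hmin₀⟩ : ∃ t : ↥(fib (B := B) (PrimeSpectrum.comap (algebraMap A B) q₀)), t.1 ≤ q₀ ∧ IsMin t := by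
    obtain ⟨p, hp, hpq⟩ := Ideal.exists_minimalPrimes_le
      (I := (PrimeSpectrum.comap (algebraMap A B) q₀).asIdeal.map (algebraMap A B)) (J := q₀.asIdeal)
      Ideal.map_comap_le
    have hpc : PrimeSpectrum.comap (algebraMap A B) ⟨p, hp.1.1⟩ = PrimeSpectrum.comap (algebraMap A B) q₀ :=
      le_antisymm (Ideal.comap_mono hpq) (Ideal.map_le_iff_le_comap.1 hp.1.2)
    refine ⟨⟨⟨p, hp.1.1⟩, hpc⟩, hpq, fun s hs => ?_⟩
    exact hp.2 ⟨s.1.isPrime, Ideal.map_le_iff_le_comap.2 (congrArg PrimeSpectrum.asIdeal s.2).ge⟩ hs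
  have he := hE t₀ ht₀ hmin₀
  rw [coheight_congr_fib t₀.2.symm t₀ ⟨t₀.1, rfl⟩ rfl, hcoh] at he
  have hN := height_add_coheight_fib _ (⟨ι t₀.1, rfl⟩ : ↥(fib (B := P) (PrimeSpectrum.comap (algebraMap A P) (ι t₀.1))))
  rw [he] at hN
  have heN : e ≤ N := by exact_mod_cast le_add_self.trans hN.le
  obtain ⟨W, hW, hqW, hWE⟩ := exists_open_equiAt B hk (cc := N - e) hSP (hsupp ▸ Set.mem_range_self q₀)
    ((key q₀ (N - e) (by omega)).2 hE)
  exact ⟨ι ⁻¹' W, hW.preimage hι.continuous, hqW, fun q hq => (key q (N - e) (by omega)).1 (hWE _ hq)⟩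

end Affine

end Groth.Agent.QGorRing
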