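import Groth.Agent.QGorRing.EquidimS2
import Groth.Agent.KFlatLib.Ring.DualizingFibreRows
import Groth.Agent.VarDim.Basic

/-!
# `(S₂)` local rings with a dualizing complex are equidimensional
-/

set_option autoImplicit false
set_option linter.style.haveILetI false
set_option backward.isDefEq.respectTransparency false

universe u

open CategoryTheory IsLocalRing

attribute [local instance] HasDerivedCategory.standard

namespace Groth.Agent.QGorRing

open Groth.Agent.KFlatLib

variable {A : Type u} [CommRing A] [IsNoetherianRing A] {ω : Dual.D A} {n : PrimeSpectrum A → ℤ}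

/-- A maximal chain between two primes: its length, and covering steps. -/
theorem exists_covBy_series (h : IsDegree ω n) :
    ∀ (k : ℕ) (p q : PrimeSpectrum A), p ≤ q → n q - n p = k →
      ∃ l : RelSeries {ab : PrimeSpectrum A × PrimeSpectrum A | ab.1 ⋖ ab.2},
        l.head = p ∧ l.last = q ∧ l.length = k := by
  intro k
  induction k with
  | zero =>
    intro p q hpq hk
    rcases hpq.eq_or_lt with rfl | hlt
    · exact ⟨RelSeries.singleton _ p, rfl, rfl, rfl⟩
    · have := h.strictMono hlt
      omega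
  | succ k ih =>
    intro p q hpq hk
    have hlt : p < q := hpq.lt_of_ne fun e => by subst e; omega
    obtain ⟨r, ⟨hr, hpr, hrq⟩, hmax⟩ := set_has_maximal_iff_noetherian.2 (‹IsNoetherianRing A› : IsNoetherian A A)
      {r : Ideal A | r.IsPrime ∧ p.asIdeal ≤ r ∧ r < q.asIdeal} ⟨p.asIdeal, p.isPrime, le_rfl, hlt⟩
    have hcov : (⟨r, hr⟩ : PrimeSpectrum A) ⋖ q := by
      refine ⟨hrq, fun s hrs hsq => hmax s.asIdeal ⟨s.isPrime, hpr.trans (le_of_lt hrs), hsq⟩ hrs⟩
    have hn := h.covBy _ _ hcov
    obtain ⟨l, hl1, hl2, hl3⟩ := ih p ⟨r, hr⟩ hpr (by omega)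
    refine ⟨l.snoc q (hl2 ▸ hcov), ?_, ?_, ?_⟩
    · rw [RelSeries.head_snoc, hl1]
    · exact RelSeries.last_snoc ..
    · simp [hl3]

/-- A local ring with `(S₂)` and a dualizing complex is equidimensional. -/
theorem isEquidim_of_hasSk_two {R : Type u} [CommRing R] [IsLocalRing R] {ω : Dual.D R}
    (hω : Dual.IsDualizing R ω) (hS : LocCoh.HasSk 2 R R) : EGA4.IsEquidim R := by
  haveI := hω.isNoetherianRing
  obtain ⟨n, h⟩ := exists_isDegree hω
  let m := closedPoint R
  have hle : ∀ P : PrimeSpectrum R, P ≤ m := fun P => le_maximalIdeal P.isPrime.ne_top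
  have hlen : ∀ l : LTSeries (PrimeSpectrum R), n l.head + l.length ≤ n l.last := by
    intro l
    suffices ∀ k : ℕ, ∀ hk : k < l.length + 1, n l.head + k ≤ n (l ⟨k, hk⟩) from this l.length (by omega)
    intro k
    induction k with
    | zero => intro hk; simp [RelSeries.head]
    | succ k ih =>
      intro hk
      have h2 := ih (by omega)
      have h3 : l ⟨k, by omega⟩ < l ⟨k + 1, hk⟩ := l.step ⟨k, by omega⟩
      have := h.strictMono h3
      push_cast
      omega
  intro p hp
  let P : PrimeSpectrum R := ⟨p, hp.1.1⟩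
  obtain ⟨d, hd⟩ := Int.eq_ofNat_of_zero_le (show 0 ≤ n m - n P by
    have := h.strictMono.monotone (hle P); omega)
  have hdim : ringKrullDim R ≤ (d : WithBot ℕ∞) := by
    refine iSup_le fun l => ?_
    obtain ⟨Q, hQ, hQl⟩ := Ideal.exists_minimalPrimes_le (I := (⊥ : Ideal R)) (J := l.head.asIdeal) bot_le
    have h1 := degree_minimal_eq h hS m P ⟨Q, hQ.1.1⟩ hp hQ (hle _) (hle _)
    have h2 : n ⟨Q, hQ.1.1⟩ ≤ n l.head := h.strictMono.monotone hQl
    have h3 := hlen l
    have h4 := h.strictMono.monotone (hle l.last)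
    exact_mod_cast (show l.length ≤ d by omega)
  obtain ⟨l, hl1, hl2, hl3⟩ := exists_covBy_series h d P m (hle P) hd
  let s : LTSeries (PrimeSpectrum R) :=
    LTSeries.mk l.length (fun i => l i) (Fin.strictMono_iff_lt_succ.2 fun i => (l.step i).lt)
  have hco : (d : ℕ∞) ≤ Order.coheight P := by
    rw [← hl3]
    exact Order.length_le_coheight (p := s) (show P ≤ s.head from hl1.ge)
  refine le_antisymm (ringKrullDim_quotient_le p) (hdim.trans ?_)
  show _ ≤ ringKrullDim (R ⧸ P.asIdeal)
  rw [← VarDim.coheight_eq_ringKrullDim_quotient]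
  exact_mod_cast hco

end Groth.Agent.QGorRing
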