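import Groth.Agent.QGorRing.LocExt
import Groth.Agent.LC.DualCM
import Mathlib.RingTheory.Ideal.AssociatedPrime.Finiteness

/-!
# Depth and dimension of localizations through a dualizing complex; Serre's conditions
-/

set_option autoImplicit false
set_option linter.style.haveILetI false
set_option linter.unusedSectionVars false
set_option backward.isDefEq.respectTransparency false

universe u

open CategoryTheory CategoryTheory.Limits Pretriangulated

attribute [local instance] HasDerivedCategory.standard

namespace Groth.Agent.QGorRing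

open Groth.Agent.KFlatLib

/-- The degree function of a dualizing complex. -/
structure IsDegree {A : Type u} [CommRing A] [IsNoetherianRing A] (ω : Dual.D A)
    (n : PrimeSpectrum A → ℤ) : Prop where
  dualizing : Dual.IsDualizing A ω
  ext : IsExtDegree ω n
  covBy : ∀ p q : PrimeSpectrum A, p ⋖ q → n q = n p + 1
  strictMono : StrictMono n
  bounded : ∃ a b : ℤ, ∀ p, a ≤ n p ∧ n p ≤ b

variable {A : Type u} [CommRing A] [IsNoetherianRing A] {ω : Dual.D A} {n : PrimeSpectrum A → ℤ}

/-- Every dualizing complex has a degree function. -/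
theorem exists_isDegree (hω : Dual.IsDualizing A ω) : ∃ n, IsDegree ω n := by
  obtain ⟨n, h1, h2, h3, h4⟩ := exists_extDegree hω
  exact ⟨n, hω, h1, h2, h3, h4⟩

/-- The dimension of a localization of a module, read off from the degree. -/
theorem exists_supportDim_localized (h : IsDegree ω n) (M : Type u) [AddCommGroup M] [Module A M]
    [Module.Finite A M] (p : PrimeSpectrum A) (hp : p ∈ Module.support A M) :
    ∃ d : ℕ, Module.supportDim (Localization.AtPrime p.asIdeal) (LocalizedModule p.asIdeal.primeCompl M) = d ∧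
      (∀ Q ∈ Module.support A M, Q ≤ p → n p - n Q ≤ d) ∧
      ∃ Q ∈ Module.support A M, Q ≤ p ∧ n p - n Q = d ∧
        ∀ R ∈ Module.support A M, R ≤ Q → R = Q := by
  obtain ⟨a, b, hab⟩ := h.bounded
  obtain ⟨z, ⟨Q, hQ, hQp, rfl⟩, hmax⟩ := Int.exists_greatest_of_bdd
    (P := fun z : ℤ => ∃ Q ∈ Module.support A M, Q ≤ p ∧ n p - n Q = z)
    ⟨n p - a, fun z ⟨Q, _, _, hz⟩ => by have := hab Q; omega⟩ ⟨_, p, hp, le_rfl, rfl⟩
  have h0 : 0 ≤ n p - n Q := by have := h.strictMono.monotone hQp; omega
  obtain ⟨d, hd⟩ := Int.eq_ofNat_of_zero_le h0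
  refine ⟨d, le_antisymm ?_ ?_, fun R hR hRp => ?_, Q, hQ, hQp, by omega, fun R hR hRQ => ?_⟩
  · let B := Localization.AtPrime p.asIdeal
    let Mp := LocalizedModule p.asIdeal.primeCompl M
    have hle : ∀ y : PrimeSpectrum B, PrimeSpectrum.comap (algebraMap A B) y ≤ p := by
      intro y x hx
      by_contra hxp
      exact y.isPrime.ne_top (Ideal.eq_top_of_isUnit_mem _ hx
        (IsLocalization.map_units B (⟨x, hxp⟩ : p.asIdeal.primeCompl)))
    have hsupp : ∀ y ∈ Module.support B Mp, PrimeSpectrum.comap (algebraMap A B) y ∈ Module.support A M := by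
      intro y hy
      refine (Set.ext_iff.1 Module.support_eq_zeroLocus _).2 fun x hx => ?_
      show algebraMap A B x ∈ y.asIdeal
      haveI : Module.Finite B Mp :=
        Module.Finite.of_isLocalizedModule p.asIdeal.primeCompl (LocalizedModule.mkLinearMap _ M)
      refine ((Set.ext_iff.1 Module.support_eq_zeroLocus _).1 hy) (Module.mem_annihilator.2 fun w => ?_)
      induction w using LocalizedModule.induction_on with
      | h w s => rw [algebraMap_smul, LocalizedModule.smul'_mk, Module.mem_annihilator.1 hx w, LocalizedModule.zero_mk]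
    refine iSup_le fun l => ?_
    have hstep : ∀ k : ℕ, ∀ hk : k < l.length + 1,
        n (PrimeSpectrum.comap (algebraMap A B) l.head.1) + k ≤
          n (PrimeSpectrum.comap (algebraMap A B) (l ⟨k, hk⟩).1) := by
      intro k
      induction k with
      | zero => intro hk; simp [RelSeries.head]
      | succ k ih =>
        intro hk
        have h2 := ih (by omega)
        have h3 : PrimeSpectrum.comap (algebraMap A B) (l ⟨k, by omega⟩).1 <
            PrimeSpectrum.comap (algebraMap A B) (l ⟨k + 1, hk⟩).1 := by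
          have hlt : (l ⟨k, by omega⟩).1 < (l ⟨k + 1, hk⟩).1 := by
            have := l.step ⟨k, by omega⟩
            simpa using this
          exact lt_of_le_of_ne (Ideal.comap_mono hlt.le) fun he =>
            hlt.ne (PrimeSpectrum.localization_comap_injective B p.asIdeal.primeCompl he)
        have h4 := h.strictMono h3
        push_cast
        omega
    have h1 := hstep l.length (by omega)
    have h2 := h.strictMono.monotone (hle (l ⟨l.length, by omega⟩).1)
    have h3 := hmax _ ⟨_, hsupp _ l.head.2, hle _, rfl⟩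
    exact_mod_cast (show l.length ≤ d by omega)
  · obtain ⟨l, hl1, hl2, hl3⟩ := exists_chain_of_le h.covBy _ p rfl Q hQp
    have hls : l.head ∈ Module.support A M := Module.mem_support_mono hl1 hQ
    have hlp : l.head ≤ p := hl2 ▸ l.head_le_last
    have h1 := Groth.Agent.LC.height_map_mk_le_supportDim_localized M l.head p hlp hls
    rw [← Groth.Agent.LC.height_Ici_eq l.head p hlp] at h1
    refine le_trans ?_ h1
    let s : LTSeries (Set.Ici l.head) := LTSeries.mk l.length (fun j => ⟨l j, LTSeries.head_le l j⟩)
      fun j j' hjj => l.strictMono hjj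
    have hlen := Order.length_le_height (p := s) (x := ⟨p, hlp⟩) (show l.last ≤ p from hl2.le)
    have hsl : s.length = d := show l.length = d by omega
    rw [hsl] at hlen
    exact_mod_cast hlen
  · have := hmax _ ⟨R, hR, hRp, rfl⟩
    omega
  · refine hRQ.eq_or_lt.resolve_right fun hlt => ?_
    have := hmax _ ⟨R, hR, hRQ.trans hQp, rfl⟩
    have := h.strictMono hlt
    omega

/-- The localized Ext vanishes below the smallest degree below the prime. -/
theorem subsingleton_localized_module_of_lt (h : IsDegree ω n) (q : PrimeSpectrum A) (M : Type u)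
    [AddCommGroup M] [Module A M] [Module.Finite A M] (i : ℤ)
    (hi : ∀ P ∈ Module.support A M, P ≤ q → i < n P) :
    Subsingleton (LocalizedModule q.asIdeal.primeCompl (Dual.inD A M ⟶ ω⟦i⟧)) := by
  revert hi
  refine IsNoetherianRing.induction_on_isQuotientEquivQuotientPrime A (M := M) inferInstance
    (motive := fun N _ _ _ => (∀ P ∈ Module.support A N, P ≤ q → i < n P) →
      Subsingleton (LocalizedModule q.asIdeal.primeCompl (Dual.inD A N ⟶ ω⟦i⟧))) ?_ ?_ ?_
  · intro N _ _ _ _ _
    exact LocalizedModule.subsingleton_iff.2 fun f => ⟨1, one_mem _, by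
      rw [((DerivedCategory.singleFunctor (ModuleCat.{u} A) 0).map_isZero
        (ModuleCat.isZero_of_subsingleton (ModuleCat.of A N))).eq_of_src f 0, smul_zero]⟩
  · intro N _ _ _ P e hN
    have hPN : P ∈ Module.support A N := by
      rw [e.support_eq, Module.support_eq_zeroLocus, Ideal.annihilator_quotient]
      exact le_refl P.1
    by_cases hPq : P ≤ q
    · refine LocalizedModule.subsingleton_iff.2 fun f => ⟨1, one_mem _, ?_⟩
      haveI := subsingleton_hom_quotient_of_lt h.ext P.1 i fun R hR =>
        lt_of_lt_of_le (hN P hPN hPq) (h.strictMono.monotone hR)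
      let z := Linear.homCongr A ((DerivedCategory.singleFunctor (ModuleCat.{u} A) 0).mapIso e.toModuleIso)
        (Iso.refl (ω⟦i⟧))
      rw [one_smul]
      exact z.injective (Subsingleton.elim _ _)
    · by_contra hne
      rw [not_subsingleton_iff_nontrivial, ← Module.mem_support_iff] at hne
      have := support_hom_subset N (ω⟦i⟧) hne
      rw [e.support_eq, Module.support_eq_zeroLocus, Ideal.annihilator_quotient] at this
      exact hPq this
  · intro N₁ _ _ _ N₂ _ _ _ N₃ _ _ _ f g hf hg hfg h₁ h₃ hN
    refine LocalizedModule.subsingleton_iff.2 fun φ => ?_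
    obtain ⟨s, hs, hsφ⟩ := LocalizedModule.subsingleton_iff.1
      (h₁ fun P hP => hN P (Module.support_subset_of_injective f hf hP)) (inDMap f ≫ φ)
    obtain ⟨ψ, hψ⟩ := exists_factor_inD hf hg hfg _ (s • φ) (by rw [Linear.comp_smul]; exact hsφ)
    obtain ⟨t, ht, htψ⟩ := LocalizedModule.subsingleton_iff.1
      (h₃ fun P hP => hN P (Module.support_subset_of_surjective g hg hP)) ψ
    exact ⟨t * s, mul_mem ht hs, by rw [mul_smul, hψ, ← Linear.comp_smul, htψ, comp_zero]⟩

/-- A minimal prime of the support, and all above it, carry the Ext in its degree. -/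
theorem mem_support_ext_of_minimal (h : IsDegree ω n) (M : Type u) [AddCommGroup M] [Module A M]
    [Module.Finite A M] (Q p : PrimeSpectrum A) (hQ : Q ∈ Module.support A M) (hQp : Q ≤ p)
    (hmin : ∀ R ∈ Module.support A M, R ≤ Q → R = Q) :
    p ∈ Module.support A (Dual.inD A M ⟶ ω⟦n Q⟧) := by
  obtain ⟨a, ha⟩ := exists_isGE h.dualizing
  rw [Module.support_eq_zeroLocus] at hQ hmin
  have hass : Q.asIdeal ∈ associatedPrimes A M := by
    refine Module.associatedPrimes.minimalPrimes_annihilator_subset_associatedPrimes A M ⟨⟨Q.isPrime, hQ⟩, ?_⟩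
    intro J hJ hJQ
    exact (congrArg PrimeSpectrum.asIdeal (hmin ⟨J, hJ.1⟩ hJ.2 hJQ)).ge
  obtain ⟨-, f, hf⟩ := (isAssociatedPrime_iff_exists_injective_linearMap _ _).1 hass
  exact Module.mem_support_mono hQp (Module.mem_support_iff.2
    (nontrivial_localized_of_injective h.ext a h.dualizing.finite_cohomology M Q f hf))

/-- Everything about depth and dimension at a prime. -/
theorem local_facts (h : IsDegree ω n) (M : Type u) [AddCommGroup M] [Module A M] [Module.Finite A M]
    (p : PrimeSpectrum A) (hp : p ∈ Module.support A M) :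
    ∃ d t : ℕ,
      Module.supportDim (Localization.AtPrime p.asIdeal) (LocalizedModule p.asIdeal.primeCompl M) = d ∧
      LocCoh.depth (Localization.AtPrime p.asIdeal) (LocalizedModule p.asIdeal.primeCompl M) = t ∧
      t ≤ d ∧
      (∀ i : ℤ, p ∈ Module.support A (Dual.inD A M ⟶ ω⟦i⟧) → n p - d ≤ i ∧ i ≤ n p - t) ∧
      p ∈ Module.support A (Dual.inD A M ⟶ ω⟦n p - d⟧) ∧
      p ∈ Module.support A (Dual.inD A M ⟶ ω⟦n p - t⟧) := by
  obtain ⟨d, hd, hup, Q, hQ, hQp, hQd, hQmin⟩ := exists_supportDim_localized h M p hp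
  obtain ⟨t, ht, hvan, hnt⟩ := depth_localized_ext h.dualizing h.ext M p hp
  have hd' : p ∈ Module.support A (Dual.inD A M ⟶ ω⟦n p - d⟧) := by
    rw [show n p - d = n Q by omega]
    exact mem_support_ext_of_minimal h M Q p hQ hQp hQmin
  have hle : ∀ i : ℤ, p ∈ Module.support A (Dual.inD A M ⟶ ω⟦i⟧) → n p - d ≤ i ∧ i ≤ n p - t := by
    intro i hi
    refine ⟨?_, not_lt.1 fun hlt => hvan i hlt hi⟩
    by_contra hlt
    haveI := Module.mem_support_iff.1 hi
    refine not_subsingleton (LocalizedModule p.asIdeal.primeCompl (Dual.inD A M ⟶ ω⟦i⟧))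
      (subsingleton_localized_module_of_lt h p M i fun P hP hPp => ?_)
    have := hup P hP hPp
    omega
  have := hle _ hnt
  exact ⟨d, t, hd, ht, by omega, hle, hd', hnt⟩

/-- Serre's condition at a prime is a numerical condition. -/
theorem skOne_iff (M : Type u) [AddCommGroup M] [Module A M] (p : PrimeSpectrum A) (k d t : ℕ)
    (hd : Module.supportDim (Localization.AtPrime p.asIdeal) (LocalizedModule p.asIdeal.primeCompl M) = d)
    (ht : LocCoh.depth (Localization.AtPrime p.asIdeal) (LocalizedModule p.asIdeal.primeCompl M) = t) :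
    min (k : WithBot ℕ∞)
        (Module.supportDim (Localization.AtPrime p.asIdeal) (LocalizedModule p.asIdeal.primeCompl M)) ≤
      ((LocCoh.depth (Localization.AtPrime p.asIdeal) (LocalizedModule p.asIdeal.primeCompl M) : ℕ∞) : WithBot ℕ∞)
      ↔ k ≤ t ∨ d ≤ t := by
  rw [hd, ht, min_le_iff]
  exact or_congr (WithBot.coe_le_coe.trans Nat.cast_le) (WithBot.coe_le_coe.trans Nat.cast_le)

/-- Serre's condition, prime by prime of the support. -/
theorem hasSk_iff_support (M : Type u) [AddCommGroup M] [Module A M] (k : ℕ) :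
    LocCoh.HasSk k A M ↔ ∀ p ∈ Module.support A M,
      min (k : WithBot ℕ∞)
        (Module.supportDim (Localization.AtPrime p.asIdeal) (LocalizedModule p.asIdeal.primeCompl M)) ≤
      ((LocCoh.depth (Localization.AtPrime p.asIdeal) (LocalizedModule p.asIdeal.primeCompl M) : ℕ∞) : WithBot ℕ∞) := by
  refine ⟨fun hk p _ => hk p.asIdeal, fun hk p hp => ?_⟩
  by_cases hm : (⟨p, hp⟩ : PrimeSpectrum A) ∈ Module.support A M
  · have h1 := hk ⟨p, hp⟩ hm
    exact h1
  · haveI : Subsingleton (LocalizedModule p.primeCompl M) :=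
      not_nontrivial_iff_subsingleton.1 fun hnt => hm (Module.mem_support_iff.2 hnt)
    exact (min_le_right _ _).trans ((Module.supportDim_eq_bot_of_subsingleton _ _).le.trans bot_le)

end Groth.Agent.QGorRing
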