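import Groth.Agent.QGorRing.EquiOpen
import Groth.Agent.QGorRing.EquidimQuot
import Groth.Agent.DimFormula.Fibre

/-!
# Fibres with `(S₂)`: equidimensionality, and its openness
-/

set_option autoImplicit false
set_option linter.style.haveILetI false
set_option backward.isDefEq.respectTransparency false
set_option backward.isDefEq.respectTransparency.types false

universe u

open CategoryTheory AlgebraicGeometry

attribute [local instance] HasDerivedCategory.standard

namespace Groth.Agent.QGorRing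

open FibDim (fib)

theorem exists_isDualizing_field (k : Type u) [Field k] : ∃ ω : Dual.D k, Dual.IsDualizing k ω := by
  haveI : HasInjectiveDimensionLT (ModuleCat.of k k) 1 :=
    injective_iff_hasInjectiveDimensionLT_one.1
      ((Module.injective_iff_injective_object k k).1 (Module.injective_of_isSemisimpleRing k k))
  exact ⟨DTen.unit k, KFlatLib.isDualizing_of_iso
    ((DerivedCategory.singleFunctorIsoCompQ (ModuleCat.{u} k) 0).app (ModuleCat.of k k))
    (LC.isDualizing_self_of_injDim k (n := 1))⟩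

theorem hasSk_mono {k k' : ℕ} (hk : k' ≤ k) {R : Type u} [CommRing R] {M : Type u} [AddCommGroup M] [Module R M]
    (h : LocCoh.HasSk k R M) : LocCoh.HasSk k' R M :=
  fun p _ => (min_le_min_right _ (by exact_mod_cast hk)).trans (h p)

variable {X Y : Scheme.{u}} (f : X ⟶ Y)

/-- The local rings of the fibres have dualizing complexes. -/
theorem exists_isDualizing_fibre_stalk [LocallyOfFiniteType f] (y : Y) (w : ↥(f.fiber y)) :
    ∃ ω : Dual.D ((f.fiber y).presheaf.stalk w), Dual.IsDualizing ((f.fiber y).presheaf.stalk w) ω := by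
  let S : Scheme.{u} := Spec (CommRingCat.of (Y.residueField y))
  let g : f.fiber y ⟶ S := f.fiberToSpecResidueField y
  haveI : LocallyOfFiniteType g := inferInstance
  let R : Type u := S.presheaf.stalk (g w)
  letI : Algebra (Y.residueField y) R := StructureSheaf.stalkAlgebra (Y.residueField y) (g w)
  haveI : IsLocalization.AtPrime R (g w).asIdeal :=
    StructureSheaf.IsLocalization.to_stalk (CommRingCat.of (Y.residueField y)) (g w)
  haveI : Algebra.EssFiniteType (Y.residueField y) R :=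
    Algebra.EssFiniteType.of_isLocalization R (g w).asIdeal.primeCompl
  obtain ⟨ω₀, h₀⟩ := exists_isDualizing_field (Y.residueField y)
  obtain ⟨ω₁, h₁⟩ := KFlatLib.exists_isDualizing_of_essFiniteType h₀ R
  letI : Algebra R ((f.fiber y).presheaf.stalk w) := (g.stalkMap w).hom.toAlgebra
  haveI : Algebra.EssFiniteType R ((f.fiber y).presheaf.stalk w) := LocallyOfFiniteType.stalkMap g w
  exact KFlatLib.exists_isDualizing_of_essFiniteType h₁ _

/-- Under `(S₂)` of the fibre at `x`, the components of the fibre through `x` have one dimension. -/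
theorem rd_fibMax_eq [LocallyOfFiniteType f] (x : X)
    (hS : LocCoh.HasSk 2 ((f.fiber (f x)).presheaf.stalk (f.asFiber x))
      ((f.fiber (f x)).presheaf.stalk (f.asFiber x)))
    {z : X} (hz : z ⤳ x) (he : f z = f x) (hm : FibDim.FibMax f z) :
    FibDim.rd f z = FibDim.rd f x + DimFormula.fb f x := by
  obtain ⟨ω, hω⟩ := exists_isDualizing_fibre_stalk f (f x) (f.asFiber x)
  haveI := DimFormula.isLocallyNoetherian_fiber f (f x)
  obtain ⟨a, rfl⟩ : z ∈ Set.range (f.fiberι (f x)) := by rw [Scheme.Hom.range_fiberι]; exact he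
  have ha : a ⤳ f.asFiber x := by
    rw [← FibDim.fiberι_specializes_iff, Scheme.Hom.fiberι_asFiber]; exact hz
  have h1 := (DimFormula.isEquidim_stalk_iff (f.asFiber x)).1 (isEquidim_of_hasSk_two hω hS) a ha
    ((FibDim.fibMax_fiberι_iff f a).1 hm)
  have h2 := DimFormula.cd_add_rd_of_fibre f hz he
  have h3 : DimFormula.cd (f.fiberι (f x) a) x = DimFormula.fb f x := by
    rw [DimFormula.fb, ← h1, ← DimFormula.cd_fiberι, Scheme.Hom.fiberι_asFiber]
  omega

/-- `(S_k)` of the fibres and one dimension for their components through a point are open. -/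
theorem exists_open_rd_eq [LocallyOfFinitePresentation f] [Flat f] {k : ℕ} (hk : 1 ≤ k) {x : X}
    (hS : LocCoh.HasSk k ((f.fiber (f x)).presheaf.stalk (f.asFiber x))
      ((f.fiber (f x)).presheaf.stalk (f.asFiber x))) {e : ℕ}
    (hE : ∀ z, z ⤳ x → f z = f x → FibDim.FibMax f z → FibDim.rd f z = e) :
    ∃ U : X.Opens, x ∈ U ∧ ∀ z ∈ U, LocCoh.HasSk k ((f.fiber (f z)).presheaf.stalk (f.asFiber z))
      ((f.fiber (f z)).presheaf.stalk (f.asFiber z)) ∧ (FibDim.FibMax f z → FibDim.rd f z = e) := by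
  obtain ⟨V, hV, hxV, -⟩ := exists_isAffineOpen_mem_and_subset (U := (⊤ : Y.Opens)) (x := f x) trivial
  obtain ⟨U, hU, hxU, hUV⟩ := exists_isAffineOpen_mem_and_subset (U := f ⁻¹ᵁ V) (x := x) hxV
  replace hUV : U ≤ f ⁻¹ᵁ V := hUV
  letI : Algebra Γ(Y, V) Γ(X, U) := (f.appLE V U hUV).hom.toAlgebra
  haveI : Algebra.FinitePresentation Γ(Y, V) Γ(X, U) := f.finitePresentation_appLE hV hU hUV
  haveI : Module.Flat Γ(Y, V) Γ(X, U) := CMOpen5.flat_of_flat_stalks f hV hU
    (hV.SpecMap_appLE_fromSpec f hU hUV).symm fun z _ => Flat.stalkMap f z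
  let q₀ := hU.primeIdealOf ⟨x, hxU⟩
  have hq₀ : hU.fromSpec q₀ = x := hU.fromSpec_primeIdealOf ⟨x, hxU⟩
  have hfs : ∀ q : PrimeSpectrum Γ(X, U),
      f (hU.fromSpec q) = hV.fromSpec (PrimeSpectrum.comap (algebraMap Γ(Y, V) Γ(X, U)) q) := fun q =>
    (congrArg (fun m : Spec Γ(X, U) ⟶ Y => m q) (hV.SpecMap_appLE_fromSpec f hU hUV)).symm
  have hsp : ∀ a b : PrimeSpectrum Γ(X, U), hU.fromSpec a ⤳ hU.fromSpec b ↔ a ≤ b := fun a b =>
    hU.fromSpec.isOpenEmbedding.isInducing.specializes_iff.trans (PrimeSpectrum.le_iff_specializes a b).symm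
  -- minimal primes of the fibres are maximal points of the fibres
  have hmax : ∀ (q : PrimeSpectrum Γ(X, U))
      (t : ↥(fib (B := Γ(X, U)) (PrimeSpectrum.comap (algebraMap Γ(Y, V) Γ(X, U)) q))),
      IsMin t ↔ FibDim.FibMax f (hU.fromSpec t.1) := fun q t => by
    constructor
    · intro h z hz hfz
      have hzU : z ∈ U := hz.mem_open U.isOpen
        ((Set.ext_iff.1 hU.range_fromSpec _).1 (Set.mem_range_self t.1))
      obtain ⟨s, rfl⟩ : ∃ s, hU.fromSpec s = z := (Set.ext_iff.1 hU.range_fromSpec z).2 hzU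
      rw [hfs, hfs] at hfz
      have hs : PrimeSpectrum.comap (algebraMap Γ(Y, V) Γ(X, U)) s =
          PrimeSpectrum.comap (algebraMap Γ(Y, V) Γ(X, U)) q :=
        (hV.fromSpec.isOpenEmbedding.injective hfz).trans t.2
      have hle := (hsp s t.1).1 hz
      have := le_antisymm hle (h (b := (⟨s, hs⟩ : ↥(fib (B := Γ(X, U)) (PrimeSpectrum.comap (algebraMap Γ(Y, V) Γ(X, U)) q)))) hle)
      rw [this]
    · intro h s hs
      have := h (hU.fromSpec s.1) ((hsp _ _).2 hs) (by rw [hfs, hfs, s.2, t.2])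
      exact (show t.1 ≤ s.1 from by
        have h' : (s.1 : PrimeSpectrum Γ(X, U)) = t.1 := hU.fromSpec.isOpenEmbedding.injective this
        exact h'.symm.le)
  have key : ∀ z (hz : z ∈ U),
      LocCoh.HasSk k ((f.fiber (f z)).presheaf.stalk (f.asFiber z))
        ((f.fiber (f z)).presheaf.stalk (f.asFiber z)) ↔
      Codepth5.SkGen Γ(Y, V) Γ(X, U) k (hU.primeIdealOf ⟨z, hz⟩) := fun z hz => by
    rw [← Codepth5.hasSk_fibLocRing_iff]
    obtain ⟨e⟩ := Codepth5.exists_fibre_stalk_equiv f hU hV hUV hz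
    haveI : IsLocallyNoetherian (f.fiber (f z)) := DimFormula.isLocallyNoetherian_fiber f (f z)
    haveI := isNoetherianRing_of_ringEquiv _ e.symm
    exact ⟨FlatLoc6.hasSk_of_ringEquiv e.symm k, FlatLoc6.hasSk_of_ringEquiv e k⟩
  have hrd : ∀ (q : PrimeSpectrum Γ(X, U))
      (t : ↥(fib (B := Γ(X, U)) (PrimeSpectrum.comap (algebraMap Γ(Y, V) Γ(X, U)) q))),
      Order.coheight t = FibDim.rd f (hU.fromSpec t.1) := fun q t => by
    rw [Codepth5.coheight_congr_fib t.2.symm t ⟨t.1, rfl⟩ rfl]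
    exact Codepth5.coheight_eq_rd f hU hV hUV t.1
  obtain ⟨W, hW, hqW, hWE⟩ := exists_open_coheight_eq (A := Γ(Y, V)) (B := Γ(X, U)) hk (q₀ := q₀)
    ((key x hxU).1 hS) (e := e) fun t ht htm => by
      rw [hrd q₀ t]
      exact_mod_cast hE _ (hq₀ ▸ (hsp _ _).2 ht)
        ((hfs t.1).trans ((congrArg _ t.2).trans ((hfs q₀).symm.trans (congrArg _ hq₀)))) ((hmax q₀ t).1 htm)
  let W' : X.Opens := ⟨hU.fromSpec '' (W ∩ {q | Codepth5.SkGen Γ(Y, V) Γ(X, U) k q}),
    hU.fromSpec.isOpenEmbedding.isOpenMap _ (hW.inter (Codepth5.isOpen_skGen_affine Γ(X, U) k))⟩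
  refine ⟨W', ⟨q₀, ⟨hqW, (key x hxU).1 hS⟩, hq₀⟩, ?_⟩
  rintro _ ⟨q, ⟨hqE, hqS⟩, rfl⟩
  have hz : hU.fromSpec q ∈ U := (Set.ext_iff.1 hU.range_fromSpec _).1 (Set.mem_range_self q)
  have he : hU.primeIdealOf ⟨hU.fromSpec q, hz⟩ = q :=
    hU.fromSpec.isOpenEmbedding.injective (hU.fromSpec_primeIdealOf ⟨_, hz⟩)
  refine ⟨(key _ hz).2 (he.symm ▸ hqS), fun hm => ?_⟩
  have h := hWE q hqE ⟨q, rfl⟩ le_rfl ((hmax q ⟨q, rfl⟩).2 hm)
  rw [hrd q ⟨q, rfl⟩] at h
  exact_mod_cast h

end Groth.Agent.QGorRing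

namespace Groth.Agent.QGorRing

open Topology

variable {X Y : Scheme.{u}} (f : X ⟶ Y)

/-- Near `x`, every point of a closed subset of the fibre of `x` has a generization in it which specializes to `x`. -/
theorem exists_open_generization [LocallyOfFiniteType f] {Z : Set X} (hZ : IsClosed Z) (x : X) :
    ∃ W : X.Opens, x ∈ W ∧ ∀ z ∈ W, z ∈ Z → f z = f x →
      ∃ w, w ∈ Z ∧ f w = f x ∧ w ⤳ z ∧ w ⤳ x := by
  let F := f.fiber (f x)
  haveI : IsLocallyNoetherian F := DimFormula.isLocallyNoetherian_fiber f (f x)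
  obtain ⟨O, hO, hxO, -⟩ := exists_isAffineOpen_mem_and_subset (U := (⊤ : F.Opens)) (x := f.asFiber x) trivial
  haveI : IsNoetherianRing Γ(f.fiber (f x), O) := IsLocallyNoetherian.component_noetherian (X := F) ⟨O, hO⟩
  haveI : TopologicalSpace.NoetherianSpace ↥O := noetherianSpace_of_isAffineOpen O hO
  haveI : QuasiSober ↥O := O.2.isOpenEmbedding_subtypeVal.quasiSober
  let S : Set ↥O := Subtype.val ⁻¹' (f.fiberι (f x) ⁻¹' Z)
  have hS : IsClosed S := (hZ.preimage (f.fiberι (f x)).continuous).preimage continuous_subtype_val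
  obtain ⟨C, hCfin, hCcl, hCirr, hCeq⟩ :=
    TopologicalSpace.NoetherianSpace.exists_finite_set_isClosed_irreducible hS
  let N : Set ↥O := ⋃₀ {t ∈ C | (⟨f.asFiber x, hxO⟩ : ↥O) ∉ t}
  have hN : IsClosed N := by
    show IsClosed (⋃₀ _)
    rw [Set.sUnion_eq_biUnion]
    exact (hCfin.subset (Set.sep_subset _ _)).isClosed_biUnion fun t ht => hCcl t ht.1
  have hxN : (⟨f.asFiber x, hxO⟩ : ↥O) ∉ N := fun ⟨t, ht, hxt⟩ => ht.2 hxt
  have hopen : IsOpen (Subtype.val '' Nᶜ : Set F) := O.2.isOpenMap_subtype_val _ hN.isOpen_compl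
  obtain ⟨W, hW, hWeq⟩ := (f.fiberι (f x)).isEmbedding.isInducing.isOpen_iff.1 hopen
  have hxW : x ∈ W := by
    have : f.asFiber x ∈ f.fiberι (f x) ⁻¹' W := hWeq ▸ ⟨_, hxN, rfl⟩
    rwa [Set.mem_preimage, Scheme.Hom.fiberι_asFiber] at this
  refine ⟨⟨W, hW⟩, hxW, fun z hzW hzZ hz => ?_⟩
  obtain ⟨a, rfl⟩ : z ∈ Set.range (f.fiberι (f x)) := by rw [Scheme.Hom.range_fiberι]; exact hz
  obtain ⟨a', haN, rfl⟩ := hWeq.le hzW
  have haS : a' ∈ ⋃₀ C := hCeq ▸ hzZ
  obtain ⟨t, htC, hat⟩ := haS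
  have hxt : (⟨f.asFiber x, hxO⟩ : ↥O) ∈ t := by
    by_contra hne
    exact haN ⟨t, ⟨htC, hne⟩, hat⟩
  obtain ⟨η, hη⟩ := QuasiSober.sober (hCirr t htC) (hCcl t htC)
  have hsp : ∀ b ∈ t, f.fiberι (f x) η.1 ⤳ f.fiberι (f x) b.1 := fun b hb =>
    ((hη.specializes hb).map continuous_subtype_val).map (f.fiberι (f x)).continuous
  refine ⟨f.fiberι (f x) η.1, ?_, FibDim.fiber_apply_fiberι f _, hsp a' hat, ?_⟩
  · have : η ∈ S := hCeq.symm ▸ ⟨t, htC, hη.mem⟩
    exact this
  · have := hsp _ hxt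
    rwa [Scheme.Hom.fiberι_asFiber] at this

/-- The local rings of the fibres of an open restriction. -/
theorem exists_fibre_stalk_equiv_opens (U : X.Opens) (u : (U : Scheme.{u})) :
    Nonempty ((f.fiber (f (U.ι u))).presheaf.stalk (f.asFiber (U.ι u)) ≃+*
      ((U.ι ≫ f).fiber ((U.ι ≫ f) u)).presheaf.stalk ((U.ι ≫ f).asFiber u)) := by
  obtain ⟨E⟩ := Triage.CMMor.exists_equiv_fibre_stalk f (U.ι u)
  obtain ⟨E'⟩ := Triage.CMMor.exists_equiv_fibre_stalk (U.ι ≫ f) u
  let σ := (asIso (U.ι.stalkMap u)).commRingCatIsoToRingEquiv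
  refine ⟨(E.symm.trans (Ideal.quotientEquiv _ _ σ ?_)).trans E'⟩
  rw [Ideal.map_map, Scheme.Hom.stalkMap_comp]
  rfl

end Groth.Agent.QGorRing
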