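import Groth.Agent.AffStrat.Bounds
import Groth.Agent.AffStrat.Vanishing
import Groth.Agent.AmpleVan.ThickPush
import Groth.Agent.FFun.Main
import Groth.Agent.QCoh.RpushStalk
import Groth.Agent.QCoh.RpushAbGod
import Groth.Agent.QCoh.RpushGod
import Groth.Agent.KFlatLib.Scheme.RpushQCoh
import Groth.Agent.S0002

/-!
# Vanishing of cohomology above the dimension of the closed fibre
-/

set_option linter.style.haveILetI false
set_option backward.isDefEq.respectTransparency false
set_option backward.isDefEq.respectTransparency.types false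
set_option maxHeartbeats 1000000

universe u

open CategoryTheory CategoryTheory.Limits AlgebraicGeometry TopologicalSpace Opposite

noncomputable section

namespace Groth.Agent.QGorRing

open Groth.Agent

/-- Vanishing on a Noetherian scheme whose space embeds in a space of dimension at most `d`. -/
theorem subsingleton_HH_of_inducing {Z : Scheme.{u}} [IsNoetherian Z] {T : Type*} [TopologicalSpace T]
    {h : Z → T} (hh : Topology.IsInducing h) {d : ℕ} (hd : topologicalKrullDim T ≤ d)
    {F : Z.Modules} (hF : Coh.IsQCoh F) {p : ℕ} (hp : d < p) : Subsingleton (Coh.HH Z F p) :=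
  AffStrat.vanishes d Z (AffStrat.of_noChain d Z
    (AffStrat.not_hasChain_of_dim (hh.topologicalKrullDim_le.trans hd))) F hF p hp

section Local

variable {A : Type u} [CommRing A] [IsNoetherianRing A] [IsLocalRing A] {X : Scheme.{u}}
  [X.Over (Spec (CommRingCat.of A))] [IsProper (X ↘ Spec (CommRingCat.of A))]

theorem subsingleton_HH_of_killed_pow {M : X.Modules} (hM : Coh.IsQCoh M) (n : ℕ)
    (hk : ∀ a ∈ IsLocalRing.maximalIdeal A ^ (n + 1), Formal.smulMod A M a = 0) {d : ℕ}
    (hd : topologicalKrullDim ↥((X ↘ Spec (CommRingCat.of A)).base ⁻¹' {IsLocalRing.closedPoint A}) ≤ d)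
    {p : ℕ} (hp : d < p) : Subsingleton (Coh.HH X M p) := by
  let J := IsLocalRing.maximalIdeal A ^ (n + 1)
  let π := X ↘ Spec (CommRingCat.of A)
  let t := Spec.map (CommRingCat.ofHom (Ideal.Quotient.mk J))
  haveI : IsClosedImmersion t := IsClosedImmersion.spec_of_surjective _ Ideal.Quotient.mk_surjective
  let i := pullback.fst π t
  haveI : IsClosedImmersion i := inferInstance
  obtain ⟨e⟩ := AmpleVan.exists_eq_push_of_killed (IsPullback.of_hasPullback π t) hM hk
  haveI : CompactSpace X := QuasiCompact.compactSpace_of_compactSpace π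
  haveI : IsLocallyNoetherian X := LocallyOfFiniteType.isLocallyNoetherian π
  haveI : IsLocallyNoetherian (pullback π t) := LocallyOfFiniteType.isLocallyNoetherian i
  haveI : CompactSpace ↥(pullback π t) := QuasiCompact.compactSpace_of_compactSpace i
  haveI : IsNoetherian (pullback π t) := ⟨⟩
  have hrange : ∀ z, i z ∈ π.base ⁻¹' {IsLocalRing.closedPoint A} := by
    intro z
    have hw : π (i z) = t (pullback.snd π t z) := congr($(pullback.condition (f := π) (g := t)) z)
    show π (i z) = _
    rw [hw]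
    have hmem : J ≤ (t (pullback.snd π t z) : PrimeSpectrum A).asIdeal := by
      intro a ha
      have hker : (CommRingCat.ofHom (Ideal.Quotient.mk J)).hom a = 0 := Ideal.Quotient.eq_zero_iff_mem.2 ha
      show (CommRingCat.ofHom (Ideal.Quotient.mk J)).hom a ∈ (pullback.snd π t z : PrimeSpectrum (A ⧸ J)).asIdeal
      rw [hker]; exact zero_mem _
    refine PrimeSpectrum.ext ?_
    refine le_antisymm (IsLocalRing.le_maximalIdeal (PrimeSpectrum.isPrime _).ne_top) ?_
    exact (PrimeSpectrum.isPrime _).le_of_pow_le hmem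
  have hind : Topology.IsInducing (Set.codRestrict (fun z => i z) _ hrange) :=
    i.isClosedEmbedding.isInducing.codRestrict hrange
  have hpull := QCoh.isQCoh_pullback i hM
  haveI := subsingleton_HH_of_inducing hind hd hpull hp
  obtain ⟨e'⟩ := QCoh.HH_push_of_isAffineHom i hpull p
  haveI : Subsingleton (Coh.HH X ((Coh.push i).obj ((Scheme.Modules.pullback i).obj M)) p) :=
    e'.symm.toEquiv.subsingleton
  exact QCoh.subsingleton_HH_of_iso e.symm p
    ‹Subsingleton (Coh.HH X ((Coh.push i).obj ((Scheme.Modules.pullback i).obj M)) p)›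

/-- Above the dimension of the closed fibre the cohomology vanishes. -/
theorem subsingleton_HH_of_closedFibre {M : X.Modules} (hM : Coh.IsCoh M) {d : ℕ}
    (hd : topologicalKrullDim ↥((X ↘ Spec (CommRingCat.of A)).base ⁻¹' {IsLocalRing.closedPoint A}) ≤ d)
    {p : ℕ} (hp : d < p) : Subsingleton (Coh.HH X M p) := by
  let π := X ↘ Spec (CommRingCat.of A)
  haveI : CompactSpace X := QuasiCompact.compactSpace_of_compactSpace π
  haveI : IsLocallyNoetherian X := LocallyOfFiniteType.isLocallyNoetherian π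
  haveI : IsNoetherian X := { __ := ‹IsLocallyNoetherian X›, __ := ‹CompactSpace X› }
  let I := IsLocalRing.maximalIdeal A
  have hG := FFun.good_of_finite (X := X) (Z := Set.univ) (fun N hN q => S0002.result A X N hN.1 q) I
  haveI := S0002.result A X M hM p
  have hz : ∀ n, Subsingleton (Formal.HHmodPow I M p n) := fun n => by
    have hq : Coh.IsQCoh (Formal.modPow I (n + 1) M) := (FFun.isCoh_modJ (I ^ (n + 1)) hM).1
    exact subsingleton_HH_of_killed_pow hq n
      (fun a ha => FFun.le_killIdeal_modJ (I ^ (n + 1)) M ha) hd hp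
  haveI := hz
  haveI : Subsingleton (AdicCompletion I (Coh.HH X M p)) := by
    refine ⟨fun a b => (FFun.compΦ_bijective (p := p) hG (FFun.inCls_univ hM)).1 ?_⟩
    exact Subtype.ext (funext fun n => Subsingleton.elim _ _)
  haveI : IsHausdorff I (Coh.HH X M p) :=
    IsHausdorff.of_le_jacobson _ _ (IsLocalRing.maximalIdeal_le_jacobson _)
  exact ⟨fun x y => AdicCompletion.of_injective I (Coh.HH X M p) (Subsingleton.elim _ _)⟩

end Local

section Stalk

variable {X Y : Scheme.{u}} (f : X ⟶ Y) [IsProper f] [IsLocallyNoetherian Y]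

/-- The stalks of higher direct images vanish above the dimension of the fibre. -/
theorem isZero_stalk_RpushAb (y : Y) (d : ℕ) (hd : topologicalKrullDim ↥(f.fiber y) ≤ d)
    {M : X.Modules} (hM : Coh.IsCoh M) {p : ℕ} (hp : d < p) :
    IsZero (TopCat.Presheaf.stalk ((Coh.RpushAb f p).obj (Coh.toAb M)).obj y) := by
  obtain ⟨q, rfl⟩ : ∃ q, p = q + 1 := Nat.exists_eq_succ_of_ne_zero (by omega)
  haveI := KFlatLib.hasInjectiveResolutions_modules (X := X)
  obtain ⟨e₁⟩ := QCoh.nonempty_RpushAb_iso f M q
  obtain ⟨e₂⟩ := QCoh.nonempty_Rpush_iso f M q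
  let A := Y.presheaf.stalk y
  let X₁ := pullback f (Y.fromSpecStalk y)
  letI : X₁.Over (Spec (CommRingCat.of A)) := ⟨pullback.snd f (Y.fromSpecStalk y)⟩
  let g : X₁ ⟶ X := pullback.fst f (Y.fromSpecStalk y)
  haveI : IsProper (X₁ ↘ Spec (CommRingCat.of A)) :=
    MorphismProperty.pullback_snd (P := @IsProper) f (Y.fromSpecStalk y) inferInstance
  have hsq : IsPullback g (X₁ ↘ Spec (CommRingCat.of A)) f (Y.fromSpecStalk y) := IsPullback.of_hasPullback _ _
  haveI : IsPreimmersion g :=
    MorphismProperty.pullback_fst (P := @IsPreimmersion) f (Y.fromSpecStalk y) inferInstance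
  haveI : IsLocallyNoetherian X₁ := LocallyOfFiniteType.isLocallyNoetherian (X₁ ↘ Spec (CommRingCat.of A))
  have hM₁ : Coh.IsCoh ((Scheme.Modules.pullback g).obj M) :=
    ⟨QCoh.isQCoh_pullback g hM.1, QCoh.isFT_pullback g hM.1 hM.2⟩
  have hrange : ∀ z : ↥((X₁ ↘ Spec (CommRingCat.of A)).base ⁻¹' {IsLocalRing.closedPoint A}),
      g z.1 ∈ f.base ⁻¹' {y} := by
    intro z
    have hw : f (g z.1) = Y.fromSpecStalk y ((X₁ ↘ Spec (CommRingCat.of A)) z.1) := congr($(hsq.w) z.1)
    show f (g z.1) = y
    rw [hw, show (X₁ ↘ Spec (CommRingCat.of A)) z.1 = IsLocalRing.closedPoint A from z.2]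
    exact Scheme.fromSpecStalk_closedPoint
  have hind : Topology.IsInducing (Set.codRestrict
      (fun z : ↥((X₁ ↘ Spec (CommRingCat.of A)).base ⁻¹' {IsLocalRing.closedPoint A}) => g z.1) _ hrange) :=
    (g.isEmbedding.isInducing.comp Topology.IsInducing.subtypeVal).codRestrict hrange
  have hdim := (hind.topologicalKrullDim_le.trans (f.fiberHomeo y).symm.isInducing.topologicalKrullDim_le).trans hd
  haveI := subsingleton_HH_of_closedFibre hM₁ hdim hp
  obtain ⟨e₃⟩ := QCoh.nonempty_stalk_HH f hM.1 y (q + 1) X₁ g hsq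
  have hsub : Subsingleton ↑(((Coh.Rpush f (q + 1)).obj M).presheaf.stalk y) := e₃.toEquiv.subsingleton
  let eF : (Coh.RpushAb f (q + 1)).obj (Coh.toAb M) ≅ Coh.toAb ((Coh.Rpush f (q + 1)).obj M) :=
    e₁ ≪≫ (QCoh.toAbFunctor Y).mapIso e₂.symm
  refine IsZero.of_iso ?_ ((TopCat.Presheaf.stalkFunctor AddCommGrpCat y).mapIso ((sheafToPresheaf _ _).mapIso eF))
  exact @AddCommGrpCat.isZero_of_subsingleton _ hsub

end Stalk

end Groth.Agent.QGorRing
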