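import Groth.Agent.KFlatLib.Ring.BaseChangeFibre
import Groth.Agent.KFlatLib.Ring.FreeUpTo
import Groth.Agent.KFlatLib.Ring.ReflexiveDepth
import Mathlib.RingTheory.LocalProperties.Projective

/-!
# Base change of a four term sequence that is split off a closed subset
-/

set_option autoImplicit false
set_option linter.style.haveILetI false

universe u

open TensorProduct

namespace Groth.Agent.QGorRing

/-- A finite projective module over a ring of depth `≥ k` along an ideal has depth `≥ k` there. -/
theorem le_idealDepth_projective {R : Type u} [CommRing R] [IsNoetherianRing R] (I : Ideal R) (k : ℕ)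
    (h : (k : ℕ∞) ≤ LocCoh.idealDepth I R) (E : Type u) [AddCommGroup E] [Module R E] [Module.Finite R E]
    [Module.Projective R E] : (k : ℕ∞) ≤ LocCoh.idealDepth I E := by
  obtain ⟨n, π, hπ⟩ := Module.Finite.exists_fin' R E
  obtain ⟨s, hs⟩ := Module.projective_lifting_property π LinearMap.id hπ
  exact KFlatLib.le_idealDepth_of_retract I s π (LinearMap.congr_fun hs) (KFlatLib.le_idealDepth_pi I k h n)

/-- In an exact sequence ending in a projective module, kernels of maps of projectives are projective. -/
theorem projective_of_fourTerm {R : Type u} [CommRing R] {F E0 E1 G : Type u}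
    [AddCommGroup F] [Module R F] [AddCommGroup E0] [Module R E0] [Module.Projective R E0]
    [AddCommGroup E1] [Module R E1] [Module.Projective R E1]
    [AddCommGroup G] [Module R G] [Module.Projective R G]
    {f : F →ₗ[R] E0} {u : E0 →ₗ[R] E1} {v : E1 →ₗ[R] G}
    (hf : Function.Injective f) (hfu : Function.Exact f u) (huv : Function.Exact u v)
    (hv : Function.Surjective v) : Module.Projective R F := by
  obtain ⟨s, hs⟩ := Module.projective_lifting_property v LinearMap.id hv
  let r1 : E1 →ₗ[R] LinearMap.range u :=
    (LinearMap.id - s ∘ₗ v).codRestrict _ fun x => (huv _).1 (by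
      show v (x - s (v x)) = 0
      rw [map_sub, show v (s (v x)) = v x from LinearMap.congr_fun hs (v x), sub_self])
  haveI : Module.Projective R (LinearMap.range u) := Module.Projective.of_split (LinearMap.range u).subtype r1
    (LinearMap.ext fun x => Subtype.ext (by
      show (x : E1) - s (v x) = x
      rw [(huv _).2 x.2, map_zero, sub_zero]))
  obtain ⟨t, ht⟩ := Module.projective_lifting_property u.rangeRestrict LinearMap.id u.surjective_rangeRestrict
  let r0 : E0 →ₗ[R] LinearMap.range f :=
    (LinearMap.id - t ∘ₗ u.rangeRestrict).codRestrict _ fun x => (hfu _).1 (by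
      show u (x - t (u.rangeRestrict x)) = 0
      rw [map_sub, show u (t (u.rangeRestrict x)) = u x from
        congrArg Subtype.val (LinearMap.congr_fun ht (u.rangeRestrict x)), sub_self])
  refine Module.Projective.of_split f ((LinearEquiv.ofInjective f hf).symm.toLinearMap ∘ₗ r0)
    (LinearMap.ext fun x => ?_)
  apply (LinearEquiv.ofInjective f hf).injective
  show (LinearEquiv.ofInjective f hf) ((LinearEquiv.ofInjective f hf).symm (r0 (f x))) = _
  rw [LinearEquiv.apply_symm_apply]
  refine Subtype.ext ?_
  show f x - t (u.rangeRestrict (f x)) = f x
  rw [show u.rangeRestrict (f x) = 0 from Subtype.ext ((hfu _).2 ⟨x, rfl⟩), map_zero, sub_zero]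

variable {B B' : Type u} [CommRing B] [CommRing B'] [Algebra B B']

/-- The localization of a base change of a module free at the prime below is projective. -/
theorem projective_localized_baseChange [IsNoetherianRing B] (G : Type u) [AddCommGroup G] [Module B G]
    [Module.Finite B G] (q' : Ideal B') [q'.IsPrime] (q : Ideal B) [q.IsPrime]
    (hq : q = q'.comap (algebraMap B B'))
    [Module.Free (Localization.AtPrime q) (LocalizedModule q.primeCompl G)] :
    Module.Projective (Localization.AtPrime q') (LocalizedModule q'.primeCompl (B' ⊗[B] G)) := by
  obtain ⟨r, c, α, β, hc, h1, -⟩ := KFlatLib.exists_free_up_to G q.primeCompl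
  let S := q'.primeCompl
  let L := Localization.AtPrime q'
  let c' := algebraMap B B' c
  have hu : IsUnit (algebraMap B' L c') :=
    IsLocalization.map_units L (⟨c', fun h => hc (hq ▸ h)⟩ : S)
  haveI : Module.Projective B' (B' ⊗[B] (Fin r → B)) := inferInstance
  haveI : Module.Projective L (LocalizedModule S (B' ⊗[B] (Fin r → B))) :=
    Module.projective_of_isLocalizedModule S (LocalizedModule.mkLinearMap S _)
  refine Module.Projective.of_split ((↑(hu.unit⁻¹) : L) • LocalizedModule.map S (α.baseChange B'))
    (LocalizedModule.map S (β.baseChange B')) (LinearMap.ext fun z => ?_)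
  induction z using LocalizedModule.induction_on with
  | h z s =>
    show LocalizedModule.map S (β.baseChange B')
      ((↑(hu.unit⁻¹) : L) • LocalizedModule.map S (α.baseChange B') (LocalizedModule.mk z s)) = LocalizedModule.mk z s
    have hz : β.baseChange B' (α.baseChange B' z) = c' • z := by
      rw [← LinearMap.comp_apply, ← LinearMap.baseChange_comp,
        show β ∘ₗ α = c • LinearMap.id from LinearMap.ext h1, LinearMap.baseChange_smul, LinearMap.baseChange_id]
      show c • z = c' • z
      rw [algebraMap_smul]
    rw [LocalizedModule.map_mk, map_smul, LocalizedModule.map_mk, hz, ← LocalizedModule.smul'_mk,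
      ← algebraMap_smul L c', smul_smul, IsUnit.val_inv_mul, one_smul]

/-- Right exactness of base change. -/
theorem exact_baseChange {X Y Z : Type u} [AddCommGroup X] [Module B X] [AddCommGroup Y] [Module B Y]
    [AddCommGroup Z] [Module B Z] {u : X →ₗ[B] Y} {v : Y →ₗ[B] Z} (huv : Function.Exact u v)
    (hv : Function.Surjective v) :
    Function.Exact (u.baseChange B') (v.baseChange B') ∧ Function.Surjective (v.baseChange B') :=
  ⟨fun x => lTensor_exact B' huv hv x, LinearMap.lTensor_surjective B' hv⟩

/-- The localization of a kernel is projective when the cokernel is, the middle terms being projective. -/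
theorem projective_localized_of_fourTerm {R : Type u} [CommRing R] (S : Submonoid R) {F E0 E1 G : Type u}
    [AddCommGroup F] [Module R F] [AddCommGroup E0] [Module R E0] [Module.Projective R E0]
    [AddCommGroup E1] [Module R E1] [Module.Projective R E1] [AddCommGroup G] [Module R G]
    [Module.Projective (Localization S) (LocalizedModule S G)]
    (f : F →ₗ[R] E0) (u : E0 →ₗ[R] E1) (v : E1 →ₗ[R] G)
    (hf : Function.Injective f) (hfu : Function.Exact f u) (huv : Function.Exact u v)
    (hv : Function.Surjective v) : Module.Projective (Localization S) (LocalizedModule S F) := by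
  haveI : Module.Projective (Localization S) (LocalizedModule S E0) :=
    Module.projective_of_isLocalizedModule S (LocalizedModule.mkLinearMap S _)
  haveI : Module.Projective (Localization S) (LocalizedModule S E1) :=
    Module.projective_of_isLocalizedModule S (LocalizedModule.mkLinearMap S _)
  exact projective_of_fourTerm (f := LocalizedModule.map S f) (u := LocalizedModule.map S u)
    (v := LocalizedModule.map S v) (LocalizedModule.map_injective S f hf) (LocalizedModule.map_exact S f u hfu)
    (LocalizedModule.map_exact S u v huv) (LocalizedModule.map_surjective S v hv)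

end Groth.Agent.QGorRing
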