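import Groth.Agent.QGorRing.FourTermBC

/-!
# Reflexive kernels and flat cokernels after a base change
-/

set_option autoImplicit false
set_option linter.style.haveILetI false

universe u

open TensorProduct

namespace Groth.Agent.QGorRing

variable {A' B' : Type u} [CommRing A'] [CommRing B'] [IsNoetherianRing A'] [IsNoetherianRing B'] [Algebra A' B']
  (J : Ideal B')

omit [IsNoetherianRing A'] [IsNoetherianRing B'] in
/-- A flat localized module from a projective one over a flat algebra. -/
theorem flatAt_of_projective [Module.Flat A' B'] (q : Ideal B') [q.IsPrime] (G : Type u) [AddCommGroup G]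
    [Module B' G] [Module A' G] [IsScalarTower A' B' G]
    [Module.Projective (Localization.AtPrime q) (LocalizedModule q.primeCompl G)] :
    FlatCA.FlatAt A' q G := by
  haveI : Module.Flat B' (Localization.AtPrime q) := IsLocalization.flat _ q.primeCompl
  haveI : Module.Flat A' (Localization.AtPrime q) := Module.Flat.trans A' B' _
  exact Module.Flat.trans A' (Localization.AtPrime q) _

variable {K E0 E1 G : Type u}
  [AddCommGroup K] [Module B' K] [Module A' K] [IsScalarTower A' B' K] [Module.Finite B' K]
  [AddCommGroup E0] [Module B' E0] [Module A' E0] [IsScalarTower A' B' E0] [Module.Finite B' E0]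
  [AddCommGroup E1] [Module B' E1] [Module A' E1] [IsScalarTower A' B' E1] [Module.Finite B' E1]
  [AddCommGroup G] [Module B' G] [Module A' G] [IsScalarTower A' B' G] [Module.Finite B' G]
  {f : K →ₗ[B'] E0} {u : E0 →ₗ[B'] E1} {v : E1 →ₗ[B'] G}

omit [IsNoetherianRing A'] [Module.Finite B' G] in
theorem isReflexive_of_fourTerm (hf : Function.Injective f) (hfu : Function.Exact f u)
    (huv : Function.Exact u v) (hv : Function.Surjective v) [Module.Projective B' E0] [Module.Projective B' E1]
    (hB : 2 ≤ LocCoh.idealDepth J B')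
    (hGU : ∀ q : PrimeSpectrum B', ¬ J ≤ q.asIdeal →
      Module.Projective (Localization.AtPrime q.asIdeal) (LocalizedModule q.asIdeal.primeCompl G)) :
    Module.IsReflexive B' K ∧ 2 ≤ LocCoh.idealDepth J K := by
  have h2 : 2 ≤ LocCoh.idealDepth J K := KFlatLib.two_le_idealDepth_of_exact J f u hf hfu
    (le_idealDepth_projective J 2 hB E0)
    (by simpa using le_idealDepth_projective J 1 (by simpa using le_trans one_le_two hB) E1)
  refine ⟨KFlatLib.isReflexive_of_off J (le_trans one_le_two hB) K (fun p hp => ?_) h2, h2⟩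
  haveI := hGU p hp
  haveI : Module.Projective (Localization.AtPrime p.asIdeal) (LocalizedModule p.asIdeal.primeCompl K) :=
    projective_localized_of_fourTerm p.asIdeal.primeCompl f u v hf hfu huv hv
  haveI : Module.Finite (Localization.AtPrime p.asIdeal) (LocalizedModule p.asIdeal.primeCompl K) :=
    Module.Finite.of_isLocalizedModule p.asIdeal.primeCompl (LocalizedModule.mkLinearMap _ _)
  infer_instance

/-- Flatness of the cokernel is flatness with fibrewise depth two of the kernel. -/
theorem flat_iff_of_fourTerm (hf : Function.Injective f) (hfu : Function.Exact f u)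
    (huv : Function.Exact u v) (hv : Function.Surjective v) [Module.Flat A' B'] [Module.Flat A' E0] [Module.Flat A' E1]
    (h0 : ∀ q : PrimeSpectrum B', J ≤ q.asIdeal →
      2 ≤ LocCoh.idealDepth (q.asIdeal.map (algebraMap B' (EGA4.FibLocRing A' B' q.asIdeal))) (EGA4.FibLocMod A' B' q.asIdeal E0))
    (h1 : ∀ q : PrimeSpectrum B', J ≤ q.asIdeal →
      1 ≤ LocCoh.idealDepth (q.asIdeal.map (algebraMap B' (EGA4.FibLocRing A' B' q.asIdeal))) (EGA4.FibLocMod A' B' q.asIdeal E1))
    (hGU : ∀ q : PrimeSpectrum B', ¬ J ≤ q.asIdeal →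
      Module.Projective (Localization.AtPrime q.asIdeal) (LocalizedModule q.asIdeal.primeCompl G)) :
    (∀ q' : PrimeSpectrum B', FlatCA.FlatAt A' q'.asIdeal K ∧
        2 ≤ LocCoh.idealDepth (J.map (algebraMap B' (EGA4.FibLocRing A' B' q'.asIdeal)))
          (EGA4.FibLocMod A' B' q'.asIdeal K)) ↔
      Module.Flat A' G := by
  constructor
  · intro h
    refine Module.flat_of_isLocalized_maximal B' G (fun P => LocalizedModule P.primeCompl G)
      (fun P => LocalizedModule.mkLinearMap P.primeCompl G) fun P _ => ?_
    refine (KFlatLib.fourTerm_atPrime J hf hfu huv hv P (fun q hq _ => h0 q hq) (fun q hq _ => h1 q hq)).2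
      (fun q hq => ?_) fun q hq _ => ?_
    · haveI := hGU q hq
      exact flatAt_of_projective q.asIdeal G
    · refine le_trans (h q).2 (LC.idealDepth_le_of_le _ _ ?_)
      exact Ideal.map_mono hq
  · intro hG q'
    have hflat : ∀ n : PrimeSpectrum B', FlatCA.FlatAt A' n.asIdeal G := fun n =>
      KFlatLib.flat_localized n.asIdeal.primeCompl G
    refine ⟨((KFlatLib.fourTerm_atPrime J hf hfu huv hv q'.asIdeal (fun q hq _ => h0 q hq)
      (fun q hq _ => h1 q hq)).1 (hflat q')).1, ?_⟩
    have hpt : ∀ q : PrimeSpectrum B', J ≤ q.asIdeal → q.asIdeal ≤ q'.asIdeal →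
        2 ≤ LocCoh.idealDepth (q.asIdeal.map (algebraMap B' (EGA4.FibLocRing A' B' q.asIdeal)))
          (EGA4.FibLocMod A' B' q.asIdeal K) := by
      intro q hq _
      exact ((KFlatLib.fourTerm_atPrime q.asIdeal hf hfu huv hv q.asIdeal
        (fun r hr _ => h0 r (hq.trans hr)) (fun r hr _ => h1 r (hq.trans hr))).1 (hflat q)).2 rfl
    let p := q'.asIdeal.comap (algebraMap A' B')
    haveI : q'.asIdeal.LiesOver p := ⟨rfl⟩
    letI := Localization.AtPrime.algebraOfLiesOver p q'.asIdeal
    haveI := FlatLoc6.isLocalHom_atPrime p q'.asIdeal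
    have := KFlatLib.le_idealDepth_fibMod_atPrime J p q'.asIdeal rfl K 2 hpt
    rw [KFlatLib.idealDepth_fibLocMod_eq]
    refine this.trans (le_of_eq ?_)
    exact LC.idealDepth_congr _ (Submodule.quotEquivOfEq _ _ (KFlatLib.fibMod_eq p q'.asIdeal rfl K))

end Groth.Agent.QGorRing
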