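import Groth.Agent.QGorRing.InfCritQuot
import Groth.Agent.LC.DepthFlatFibre
import Mathlib.RingTheory.DiscreteValuationRing.Basic

/-!
# Flat cokernels over a discrete valuation ring from `(S₂)` of the closed fibre of the kernel
-/

set_option autoImplicit false
set_option linter.style.haveILetI false

universe u

open TensorProduct IsLocalRing

namespace Groth.Agent.QGorRing

/-- The fibre depths at the points of the closed fibre from the depth of the closed fibre. -/
theorem le_idealDepth_fibLocRing_closed {A L : Type u} [CommRing A] [IsLocalRing A] [CommRing L] [IsNoetherianRing L]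
    [Algebra A L] (J : Ideal L) (hd : 2 ≤ LocCoh.idealDepth J (EGA4.FibMod A L L))
    (q : PrimeSpectrum L) (hq : J ≤ q.asIdeal) (hc : q.asIdeal.comap (algebraMap A L) = maximalIdeal A) :
    2 ≤ LocCoh.idealDepth (q.asIdeal.map (algebraMap L (EGA4.FibLocRing A L q.asIdeal))) (EGA4.FibLocRing A L q.asIdeal) := by
  haveI := FlatLoc6.isLocalRing_fibLocRing (A := A) q.asIdeal
  rw [KFlatLib.map_eq_maximalIdeal_fibLocRing q.asIdeal]
  show 2 ≤ LocCoh.depth _ _
  rw [← FlatLoc6.fibDepth_self]
  obtain ⟨e⟩ := KFlatLib.exists_localizedQuotSMul q.asIdeal.primeCompl (EGA4.mB A L) L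
  refine (hd.trans (LC.idealDepth_le_depth_localized J _ q.asIdeal hq)).trans (le_of_eq ?_)
  refine FlatLoc6.depth_congr' (e.trans (Submodule.quotEquivOfEq _ _ ?_))
  rw [hc, EGA4.mB, Ideal.map_map, ← IsScalarTower.algebraMap_eq]

/-- Over a discrete valuation ring the closed fibre of a saturated submodule injects. -/
theorem fibMap_injective_dvr {V L : Type u} [CommRing V] [IsDomain V] [IsDiscreteValuationRing V] [CommRing L]
    [Algebra V L] {K E0 E1 : Type u} [AddCommGroup K] [Module L K] [Module V K] [IsScalarTower V L K]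
    [AddCommGroup E0] [Module L E0] [Module V E0] [IsScalarTower V L E0]
    [AddCommGroup E1] [Module L E1] [Module V E1] [IsScalarTower V L E1] [Module.Flat V E1]
    {f : K →ₗ[L] E0} {u : E0 →ₗ[L] E1} (hf : Function.Injective f) (hfu : Function.Exact f u) :
    Function.Injective (KFlatLib.fibMap V f) := by
  obtain ⟨ϖ, hϖ⟩ := IsDiscreteValuationRing.exists_irreducible V
  have hm : EGA4.mB V L = Ideal.span {algebraMap V L ϖ} := by
    rw [EGA4.mB, hϖ.maximalIdeal_eq, Ideal.map_span, Set.image_singleton]
  rw [injective_iff_map_eq_zero]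
  intro x hx
  obtain ⟨x, rfl⟩ := Submodule.Quotient.mk_surjective _ x
  have h1 : f x ∈ (EGA4.mB V L • ⊤ : Submodule L E0) := (Submodule.Quotient.mk_eq_zero _).1 hx
  rw [hm, Submodule.ideal_span_singleton_smul, Submodule.mem_smul_pointwise_iff_exists] at h1
  obtain ⟨y, -, hy⟩ := h1
  have h2 : ϖ • u y = 0 := by
    rw [← algebraMap_smul L ϖ (u y), ← map_smul, hy, hfu.apply_apply_eq_zero]
  have h3 : u y = 0 := by
    haveI : Module.IsTorsionFree V E1 := inferInstance
    exact (smul_eq_zero.1 h2).resolve_left hϖ.ne_zero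
  obtain ⟨z, rfl⟩ := (hfu y).1 h3
  refine (Submodule.Quotient.mk_eq_zero _).2 ?_
  rw [show x = algebraMap V L ϖ • z from hf (by rw [map_smul, hy]), hm]
  exact Submodule.smul_mem_smul (Ideal.mem_span_singleton_self _) trivial

variable {V L : Type u} [CommRing V] [IsDomain V] [IsDiscreteValuationRing V] [CommRing L] [Algebra V L]
  [IsNoetherianRing L] [IsLocalRing L] [IsLocalHom (algebraMap V L)] [Module.Flat V L]

variable {K E0 E1 G : Type u}
  [AddCommGroup K] [Module L K] [Module V K] [IsScalarTower V L K] [Module.Finite L K]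
  [AddCommGroup E0] [Module L E0] [Module V E0] [IsScalarTower V L E0] [Module.Finite L E0]
  [Module.Projective L E0]
  [AddCommGroup E1] [Module L E1] [Module V E1] [IsScalarTower V L E1] [Module.Finite L E1]
  [Module.Projective L E1]
  [AddCommGroup G] [Module L G] [Module V G] [IsScalarTower V L G] [Module.Finite L G]
  {f : K →ₗ[L] E0} {u : E0 →ₗ[L] E1} {v : E1 →ₗ[L] G}

omit [IsLocalHom (algebraMap V L)] [Module.Flat V L] [IsNoetherianRing L] [IsLocalRing L] in
/-- The quotient of the tensor product is linear over the quotient ring. -/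
theorem nonempty_baseChange_quot (I : Ideal L) (M : Type u) [AddCommGroup M] [Module L M] :
    Nonempty ((L ⧸ I) ⊗[L] M ≃ₗ[L ⧸ I] (M ⧸ (I • ⊤ : Submodule L M))) := by
  let e := TensorProduct.quotTensorEquivQuotSMul M I
  exact ⟨{ e.toAddEquiv with
    map_smul' := fun a x => by
      obtain ⟨a, rfl⟩ := Ideal.Quotient.mk_surjective a
      show e (algebraMap L (L ⧸ I) a • x) = algebraMap L (L ⧸ I) a • e x
      rw [algebraMap_smul, algebraMap_smul, map_smul] }⟩

/-- `(S₂)` of the closed fibre of a flat kernel forces a flat cokernel over a discrete valuation ring. -/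
theorem flat_coker_of_hasSk_dvr (hf : Function.Injective f) (hfu : Function.Exact f u)
    (huv : Function.Exact u v) (hv : Function.Surjective v) (J : Ideal L)
    (hd : 2 ≤ LocCoh.idealDepth J (EGA4.FibMod V L L))
    (hGU : ∀ q : PrimeSpectrum L, ¬ J ≤ q.asIdeal →
      Module.Projective (Localization.AtPrime q.asIdeal) (LocalizedModule q.asIdeal.primeCompl G))
    (hS : LocCoh.HasSk 2 L (EGA4.FibMod V L K)) : Module.Flat V G := by
  haveI : Module.Flat V E0 := Module.Flat.trans V L E0
  haveI : Module.Flat V E1 := Module.Flat.trans V L E1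
  have hd0 : 2 ≤ LocCoh.idealDepth J (L ⧸ EGA4.mB V L) :=
    hd.trans (le_of_eq (LC.idealDepth_congr _ (Submodule.quotEquivOfEq _ _ (by rw [Ideal.smul_eq_mul, Ideal.mul_top]))))
  have hE0 := le_idealDepth_quot_projective J (EGA4.mB V L) 2 hd0 E0
  refine (KFlatLib.flat_coker_of_fibMod J hf hfu huv hv (fun q hq => ?_) hE0 ?_).1
  · haveI := hGU q hq
    exact flatAt_of_projective q.asIdeal G
  let Lb := L ⧸ EGA4.mB V L
  let Kb := EGA4.FibMod V L K
  haveI : IsNoetherianRing Lb := Ideal.Quotient.isNoetherianRing _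
  haveI : Module.Finite Lb Kb := Module.Finite.of_restrictScalars_finite L _ _
  let Jb := J.map (algebraMap L Lb)
  have hLb : 2 ≤ LocCoh.idealDepth Jb Lb := by
    rw [KFlatLib.idealDepth_restrict]; exact hd0
  have hKb1 : 1 ≤ LocCoh.idealDepth Jb Kb := by
    rw [KFlatLib.idealDepth_restrict]
    exact KFlatLib.le_idealDepth_of_injective J (KFlatLib.fibMap V f) (fibMap_injective_dvr hf hfu)
      (le_trans one_le_two hE0)
  have hU : ∀ P : PrimeSpectrum Lb, ¬ Jb ≤ P.asIdeal →
      Module.Projective (Localization.AtPrime P.asIdeal) (LocalizedModule P.asIdeal.primeCompl Kb) := by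
    intro P hP
    let p := P.asIdeal.comap (algebraMap L Lb)
    haveI := hGU ⟨p, inferInstance⟩ fun h => hP (Ideal.map_le_iff_le_comap.2 h)
    haveI := projective_localized_of_fourTerm p.primeCompl f u v hf hfu huv hv
    haveI : Module.Finite (Localization.AtPrime p) (LocalizedModule p.primeCompl K) :=
      Module.Finite.of_isLocalizedModule p.primeCompl (LocalizedModule.mkLinearMap _ _)
    haveI : IsNoetherianRing (Localization.AtPrime p) := IsLocalization.isNoetherianRing p.primeCompl _ inferInstance
    haveI : Module.Free (Localization.AtPrime p) (LocalizedModule p.primeCompl K) :=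
      Module.free_of_flat_of_isLocalRing
    haveI := projective_localized_baseChange (B' := Lb) K P.asIdeal p rfl
    obtain ⟨e⟩ := nonempty_baseChange_quot (EGA4.mB V L) K
    exact Module.Projective.of_equiv (IsLocalizedModule.mapEquiv P.asIdeal.primeCompl
      (LocalizedModule.mkLinearMap P.asIdeal.primeCompl (Lb ⊗[L] K)) (LocalizedModule.mkLinearMap P.asIdeal.primeCompl Kb)
      (Localization.AtPrime P.asIdeal) e)
  have hSb : LocCoh.HasSk 2 Lb Kb := hasSk_of_surjective' (P := L) Ideal.Quotient.mk_surjective _ 2 hS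
  rw [← KFlatLib.idealDepth_restrict (R := L) (R' := Lb) J Kb, LC.idealDepth_eq_iInf_depth]
  refine le_iInf₂ fun Q hQ => ?_
  rcases subsingleton_or_nontrivial (LocalizedModule Q.asIdeal.primeCompl Kb) with h0 | h0
  · rw [LocCoh.depth, LocCoh.idealDepth, if_pos (Subsingleton.elim _ _)]
    exact le_top
  have h2 := two_le_supportDim_localized Jb hLb Kb hKb1 hU Q.asIdeal hQ
  have h3 := hSb Q.asIdeal
  rw [min_eq_left (by exact_mod_cast h2)] at h3
  exact WithBot.coe_le_coe.1 h3

/-- The cokernel is flat over a discrete valuation ring where the double dual has `(S₂)` fibre. -/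
theorem flat_coker_of_ddual_dvr {C A' T : Type u} [CommRing C] [IsNoetherianRing C] [CommRing A'] [IsDomain A']
    [IsDiscreteValuationRing A'] [CommRing T] [IsNoetherianRing T] [Algebra C T] [Algebra A' T] [Module.Flat A' T]
    (q' : Ideal T) [q'.IsPrime] (hp' : q'.comap (algebraMap A' T) = maximalIdeal A') {F E0 E1 G : Type u}
    [AddCommGroup F] [Module C F] [Module.Finite C F]
    [AddCommGroup E0] [Module C E0] [Module.Finite C E0] [Module.Projective C E0]
    [AddCommGroup E1] [Module C E1] [Module.Finite C E1] [Module.Projective C E1]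
    [AddCommGroup G] [Module C G] [Module.Finite C G]
    {f : F →ₗ[C] E0} {u : E0 →ₗ[C] E1} {v : E1 →ₗ[C] G}
    (hf : Function.Injective f) (hfu : Function.Exact f u) (huv : Function.Exact u v) (hv : Function.Surjective v)
    (J : Ideal C)
    (hGU : ∀ q : PrimeSpectrum C, ¬ J ≤ q.asIdeal →
      Module.Free (Localization.AtPrime q.asIdeal) (LocalizedModule q.asIdeal.primeCompl G))
    (hd : 2 ≤ LocCoh.idealDepth (J.map (algebraMap C (Localization.AtPrime q')))
      (EGA4.FibMod A' (Localization.AtPrime q') (Localization.AtPrime q')))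
    (hSD : LocCoh.HasSk 2 (EGA4.FibLocRing A' T q')
      (EGA4.FibLocMod A' T q' (Module.Dual T (Module.Dual T (T ⊗[C] F))))) :
    Module.Flat A' (Localization.AtPrime q' ⊗[C] G) := by
  classical
  let L' := Localization.AtPrime q'
  haveI : IsNoetherianRing L' := IsLocalization.isNoetherianRing q'.primeCompl _ inferInstance
  haveI : Module.Flat T L' := IsLocalization.flat _ q'.primeCompl
  haveI : Module.Flat A' L' := Module.Flat.trans A' T L'
  haveI : IsLocalHom (algebraMap A' L') := ⟨fun a ha => by
    by_contra hna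
    have h1 : a ∈ maximalIdeal A' := hna
    rw [← hp'] at h1
    have h2 : algebraMap A' L' a ∈ maximalIdeal L' := by
      rw [IsScalarTower.algebraMap_apply A' T L']
      exact (IsLocalization.AtPrime.to_map_mem_maximal_iff L' q' _).2 h1
    exact h2 ha⟩
  obtain ⟨hx1, hx2⟩ := exact_baseChange (B' := L') huv hv
  have hGU' : ∀ Q : PrimeSpectrum L', ¬ J.map (algebraMap C L') ≤ Q.asIdeal →
      Module.Projective (Localization.AtPrime Q.asIdeal) (LocalizedModule Q.asIdeal.primeCompl (L' ⊗[C] G)) := by
    intro Q hQ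
    haveI := hGU ⟨Q.asIdeal.comap (algebraMap C L'), Ideal.IsPrime.comap _⟩
      (fun h => hQ (Ideal.map_le_iff_le_comap.2 h))
    exact projective_localized_baseChange G Q.asIdeal _ rfl
  have hL' : 2 ≤ LocCoh.idealDepth (R := L') (J.map (algebraMap C L')) L' := by
    by_cases hJ : J.map (algebraMap C L') = ⊤
    · rw [LocCoh.idealDepth, if_pos (by rw [hJ, Submodule.top_smul])]
      exact le_top
    · refine LC.le_idealDepth_of_fibre (A := A') _ hJ 2 L' ?_
      exact hd
  obtain ⟨eK⟩ := exists_ddual_equiv_ker hf hfu huv hv J hGU hL'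
    (K := ↥(LinearMap.ker (u.baseChange L'))) (LinearMap.ker (u.baseChange L')).subtype Subtype.val_injective
    (LinearMap.exact_subtype_ker_map _)
  obtain ⟨eD⟩ := exists_ddual_localized q'.primeCompl (T ⊗[C] F)
  let eFT : LocalizedModule q'.primeCompl (T ⊗[C] F) ≃ₗ[L'] L' ⊗[C] F :=
    (LocalizedModule.equivTensorProduct q'.primeCompl (T ⊗[C] F)).trans
      (AlgebraTensorModule.cancelBaseChange C T L' L' F)
  let e : LocalizedModule q'.primeCompl (Module.Dual T (Module.Dual T (T ⊗[C] F))) ≃ₗ[L']
      ↥(LinearMap.ker (u.baseChange L')) :=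
    (eD.trans (eFT.dualMap.dualMap)).trans eK
  have hS : LocCoh.HasSk 2 L' (EGA4.FibMod A' L' ↥(LinearMap.ker (u.baseChange L'))) := by
    have h1 : LocCoh.HasSk 2 L' (EGA4.FibLocMod A' T q' (Module.Dual T (Module.Dual T (T ⊗[C] F)))) :=
      hasSk_of_surjective (P := L') (B := EGA4.FibLocRing A' T q') Ideal.Quotient.mk_surjective _ 2 hSD
    refine hasSk_congr (Submodule.Quotient.equiv _ _ e ?_) 2 h1
    rw [Submodule.map_smul'', Submodule.map_top, LinearMap.range_eq_top.mpr e.surjective, hp']
  exact flat_coker_of_hasSk_dvr (K := ↥(LinearMap.ker (u.baseChange L')))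
    (f := (LinearMap.ker (u.baseChange L')).subtype) Subtype.val_injective (LinearMap.exact_subtype_ker_map _)
    hx1 hx2 _ hd hGU' hS

end Groth.Agent.QGorRing
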