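import Groth.Agent.QGorRing.InfCritDvr
import Groth.Agent.FlatDvrVC5.Affine
import Groth.Agent.KFlatLib.Ring.BaseChangeFibre

/-!
# The base change to a discrete valuation ring in the valuative criterion
-/

set_option autoImplicit false
set_option linter.style.haveILetI false

universe u

open TensorProduct IsLocalRing

namespace Groth.Agent.QGorRing

/-- Flatness at a prime of a localized base change from flatness of the base change. -/
theorem flatAway_of_localization {C V T TL : Type u} [CommRing C] [CommRing V] [CommRing T] [CommRing TL]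
    (S : Submonoid C) [Algebra C T] [Algebra C TL] [Algebra V T] [Algebra V TL] [Algebra T TL]
    [Algebra (Localization S) TL] [IsScalarTower C (Localization S) TL] [IsScalarTower C T TL]
    [IsScalarTower V T TL] (M0 : Submonoid T) [IsLocalization M0 TL] (P : Ideal TL) [P.IsPrime]
    (G : Type u) [AddCommGroup G] [Module C G]
    (hflat : Module.Flat V (Localization.AtPrime (P.comap (algebraMap T TL)) ⊗[C] G)) :
    FlatDvrVC5.FlatAway V P (TL ⊗[Localization S] LocalizedModule S G) := by
  let L := Localization S
  let LP := Localization.AtPrime P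
  let q' := P.comap (algebraMap T TL)
  let L' := Localization.AtPrime q'
  haveI : IsLocalization.AtPrime LP q' :=
    IsLocalization.isLocalization_isLocalization_atPrime_isLocalization M0 LP P
  let ε : L' ≃ₐ[T] LP := IsLocalization.algEquiv q'.primeCompl L' LP
  let e1 : LocalizedModule P.primeCompl (TL ⊗[L] LocalizedModule S G) ≃ₗ[LP] LP ⊗[L] LocalizedModule S G :=
    (LocalizedModule.equivTensorProduct P.primeCompl _).trans
      (AlgebraTensorModule.cancelBaseChange L TL LP LP (LocalizedModule S G))
  let e2 : LP ⊗[L] LocalizedModule S G ≃ₗ[LP] LP ⊗[C] G :=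
    (AlgebraTensorModule.congr (LinearEquiv.refl LP LP) (LocalizedModule.equivTensorProduct S G)).trans
      (AlgebraTensorModule.cancelBaseChange C L LP LP G)
  let e3 : LP ⊗[C] G ≃ₗ[T] L' ⊗[C] G :=
    AlgebraTensorModule.congr ε.symm.toLinearEquiv (LinearEquiv.refl C G)
  rw [FlatDvrVC5.flatAway_iff]
  exact Module.Flat.of_linearEquiv (((e1.trans e2).restrictScalars V).trans (e3.restrictScalars V))

/-- The depth of the closed fibre survives the base change to a local algebra. -/
theorem le_idealDepth_fibMod_baseChange {R L V TL : Type u} [CommRing R] [IsLocalRing R] [IsNoetherianRing R]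
    [CommRing L] [IsNoetherianRing L] [Algebra R L] [Module.Flat R L] [CommRing V] [IsLocalRing V]
    [Algebra R V] [IsLocalHom (algebraMap R V)] [CommRing TL] [IsNoetherianRing TL] [Algebra L TL] [Algebra V TL]
    [Algebra R TL] [IsScalarTower R L TL] [IsScalarTower R V TL] [Algebra.IsPushout R L V TL] (J : Ideal L)
    (hd : 2 ≤ LocCoh.idealDepth J (EGA4.FibMod R L L)) (P : Ideal TL) [P.IsPrime] :
    2 ≤ LocCoh.idealDepth ((J.map (algebraMap L TL)).map (algebraMap TL (Localization.AtPrime P)))
      (EGA4.FibMod V (Localization.AtPrime P) (Localization.AtPrime P)) := by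
  let Jp := J ⊔ EGA4.mB R L
  have h : ∀ q : PrimeSpectrum L, Jp ≤ q.asIdeal →
      (2 : ℕ∞) ≤ LocCoh.idealDepth (q.asIdeal.map (algebraMap L (EGA4.FibLocRing R L q.asIdeal))) (EGA4.FibLocRing R L q.asIdeal) :=
    fun q hq => le_idealDepth_fibLocRing_closed J hd q (le_sup_left.trans hq)
      ((IsLocalRing.maximalIdeal.isMaximal R).eq_of_le (Ideal.IsPrime.comap _).ne_top
        (Ideal.map_le_iff_le_comap.1 (le_sup_right.trans hq))).symm
  let W := TL ⧸ (maximalIdeal V).map (algebraMap V TL)
  have h0 : (2 : ℕ∞) ≤ LocCoh.idealDepth (Jp.map (algebraMap L TL)) W :=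
    KFlatLib.le_idealDepth_fibre_baseChange Jp 2 V h (maximalIdeal V)
  haveI : IsNoetherianRing W := Ideal.Quotient.isNoetherianRing _
  have hJp : (Jp.map (algebraMap L TL)).map (algebraMap TL W) = (J.map (algebraMap L TL)).map (algebraMap TL W) := by
    rw [Ideal.map_sup, Ideal.map_sup]
    refine sup_eq_left.2 ((le_of_eq ?_).trans bot_le)
    rw [EGA4.mB, Ideal.map_map (g := algebraMap L TL), ← IsScalarTower.algebraMap_eq, Ideal.map_eq_bot_iff_le_ker,
      show RingHom.ker (algebraMap TL W) = (maximalIdeal V).map (algebraMap V TL) from Ideal.mk_ker,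
      IsScalarTower.algebraMap_eq R V TL, ← Ideal.map_map]
    refine Ideal.map_mono (Ideal.map_le_iff_le_comap.2 fun r hr => ?_)
    exact map_nonunit (algebraMap R V) r hr
  rw [← KFlatLib.idealDepth_restrict (R := TL) (R' := W) _ W, hJp, KFlatLib.idealDepth_restrict] at h0
  refine (h0.trans (LC.idealDepth_le_idealDepth_map _ W P)).trans (le_of_eq ?_)
  haveI : IsNoetherianRing (Localization.AtPrime P) := IsLocalization.isNoetherianRing P.primeCompl _ inferInstance
  haveI : Module.Finite (Localization.AtPrime P) (LocalizedModule P.primeCompl W) :=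
    Module.Finite.of_isLocalizedModule P.primeCompl (LocalizedModule.mkLinearMap _ _)
  obtain ⟨e⟩ := KFlatLib.exists_localizedQuotSMul P.primeCompl ((maximalIdeal V).map (algebraMap V TL)) TL
  let eW : W ≃ₗ[TL] TL ⧸ ((maximalIdeal V).map (algebraMap V TL) • ⊤ : Submodule TL TL) :=
    Submodule.quotEquivOfEq _ _ (by rw [Ideal.smul_eq_mul, Ideal.mul_top])
  refine LC.idealDepth_congr _ ((((IsLocalizedModule.mapEquiv P.primeCompl
    (LocalizedModule.mkLinearMap P.primeCompl W)
    (LocalizedModule.mkLinearMap P.primeCompl (TL ⧸ ((maximalIdeal V).map (algebraMap V TL) • ⊤ : Submodule TL TL)))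
    (Localization.AtPrime P) eW).trans e)).trans (Submodule.Quotient.equiv _ _ (LC.selfLoc P.primeCompl) ?_))
  show Submodule.map ((LC.selfLoc P.primeCompl).toLinearMap) _ = _
  rw [Submodule.map_smul'', Submodule.map_top, LinearMap.range_eq_top.mpr (LC.selfLoc P.primeCompl).surjective,
    EGA4.mB, Ideal.map_map, ← IsScalarTower.algebraMap_eq]

end Groth.Agent.QGorRing
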