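import Groth.Agent.QGorRing.InfCritLocal
import Groth.Agent.QGorRing.HasSkRestrict
import Groth.Agent.Codepth5.Sk

/-!
# The closed fibre of a finite type algebra at a point with `(S₂)`
-/

set_option autoImplicit false
set_option linter.style.haveILetI false

universe u

open TensorProduct IsLocalRing

namespace Groth.Agent.QGorRing

theorem hasSk_congr {L : Type u} [CommRing L] {M N : Type u} [AddCommGroup M] [Module L M] [AddCommGroup N]
    [Module L N] (e : M ≃ₗ[L] N) (k : ℕ) (h : LocCoh.HasSk k L M) : LocCoh.HasSk k L N := fun p hp => by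
  haveI := hp
  let e' := IsLocalizedModule.mapEquiv p.primeCompl (LocalizedModule.mkLinearMap p.primeCompl M)
    (LocalizedModule.mkLinearMap p.primeCompl N) (Localization.AtPrime p) e
  rw [← Module.supportDim_eq_of_equiv e', ← FlatLoc6.depth_congr' e']
  exact h p

/-- Maps inverse up to a scalar that is a unit give an isomorphism of localizations. -/
theorem exists_equiv_localized_of_up_to {L : Type u} [CommRing L] {M N : Type u} [AddCommGroup M] [Module L M]
    [AddCommGroup N] [Module L N] (a : M →ₗ[L] N) (b : N →ₗ[L] M) (c : L) (S : Submonoid L) (hc : c ∈ S)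
    (hba : ∀ x, b (a x) = c • x) (hab : ∀ x, a (b x) = c • x) :
    Nonempty (LocalizedModule S M ≃ₗ[Localization S] LocalizedModule S N) := by
  have hu : IsUnit (algebraMap L (Localization S) c) := IsLocalization.map_units _ ⟨c, hc⟩
  refine ⟨LinearEquiv.ofLinearMap (LocalizedModule.map S a)
    ((↑(hu.unit⁻¹) : Localization S) • LocalizedModule.map S b) (LinearMap.ext fun z => ?_) (LinearMap.ext fun z => ?_)⟩
  · induction z using LocalizedModule.induction_on with
    | h z s =>
      show LocalizedModule.map S a ((↑(hu.unit⁻¹) : Localization S) • LocalizedModule.map S b (LocalizedModule.mk z s)) =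
        LocalizedModule.mk z s
      rw [LocalizedModule.map_mk, map_smul, LocalizedModule.map_mk, hab, ← LocalizedModule.smul'_mk,
        ← algebraMap_smul (Localization S) c, smul_smul, IsUnit.val_inv_mul, one_smul]
  · induction z using LocalizedModule.induction_on with
    | h z s =>
      show (↑(hu.unit⁻¹) : Localization S) • LocalizedModule.map S b (LocalizedModule.map S a (LocalizedModule.mk z s)) =
        LocalizedModule.mk z s
      rw [LocalizedModule.map_mk, LocalizedModule.map_mk, hba, ← LocalizedModule.smul'_mk,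
        ← algebraMap_smul (Localization S) c, smul_smul, IsUnit.val_inv_mul, one_smul]

variable {R C : Type u} [CommRing R] [CommRing C] [IsNoetherianRing R] [IsLocalRing R] [IsNoetherianRing C]
  [Algebra R C]
variable (n : PrimeSpectrum C) (hn : n.asIdeal.comap (algebraMap R C) = maximalIdeal R)

include hn in
omit [IsNoetherianRing R] [IsNoetherianRing C] in
theorem fibLocRing_ideal_eq :
    (n.asIdeal.comap (algebraMap R C)).map (algebraMap R (Localization.AtPrime n.asIdeal)) =
      EGA4.mB R (Localization.AtPrime n.asIdeal) := by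
  rw [hn]

include hn in
/-- The closed fibre at the point has depth two along `J`. -/
theorem two_le_idealDepth_fibMod_self (hft : Algebra.FiniteType R C)
    (hS2 : LocCoh.HasSk 2 (EGA4.FibLocRing R C n.asIdeal) (EGA4.FibLocRing R C n.asIdeal)) (J : Ideal C)
    (hcodim : ∀ q : PrimeSpectrum C, J ≤ q.asIdeal → (2 : WithBot ℕ∞) ≤ ringKrullDim (EGA4.FibLocRing R C q.asIdeal)) :
    2 ≤ LocCoh.idealDepth (J.map (algebraMap C (Localization.AtPrime n.asIdeal)))
      (EGA4.FibMod R (Localization.AtPrime n.asIdeal) (Localization.AtPrime n.asIdeal)) := by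
  haveI := hft
  let L := Localization.AtPrime n.asIdeal
  haveI : IsNoetherianRing L := IsLocalization.isNoetherianRing n.asIdeal.primeCompl _ inferInstance
  let P : Ideal C := (maximalIdeal R).map (algebraMap R C)
  let Cbar := C ⧸ (P • ⊤ : Submodule C C)
  obtain ⟨e⟩ := KFlatLib.exists_localizedQuotSMul n.asIdeal.primeCompl P C
  let e2 : LocalizedModule n.asIdeal.primeCompl Cbar ≃ₗ[L] EGA4.FibMod R L L :=
    e.trans (Submodule.Quotient.equiv _ _ (LC.selfLoc n.asIdeal.primeCompl) (by
      show Submodule.map ((LC.selfLoc n.asIdeal.primeCompl).toLinearMap) _ = _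
      rw [Submodule.map_smul'', Submodule.map_top, LinearMap.range_eq_top.mpr (LC.selfLoc n.asIdeal.primeCompl).surjective,
        EGA4.mB]
      simp only [P]
      rw [Ideal.map_map, ← IsScalarTower.algebraMap_eq]))
  haveI : Module.Finite L (LocalizedModule n.asIdeal.primeCompl Cbar) :=
    Module.Finite.of_isLocalizedModule n.asIdeal.primeCompl (LocalizedModule.mkLinearMap _ _)
  rw [← LC.idealDepth_congr _ e2, LC.idealDepth_eq_iInf_depth]
  refine le_iInf₂ fun Q hQ => ?_
  rw [Alg6.depth_locLoc]
  have hJ : J ≤ Q.asIdeal.comap (algebraMap C L) := Ideal.map_le_iff_le_comap.1 hQ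
  have hle : Q.asIdeal.comap (algebraMap C L) ≤ n.asIdeal := fun x hx => by
    by_contra hxn
    exact Q.isPrime.ne_top (Ideal.eq_top_of_isUnit_mem _ hx (IsLocalization.map_units L (⟨x, hxn⟩ : n.asIdeal.primeCompl)))
  suffices key : ∀ (q : Ideal C) [q.IsPrime], J ≤ q → q ≤ n.asIdeal →
      2 ≤ LocCoh.depth (Localization.AtPrime q) (LocalizedModule q.primeCompl Cbar) from key _ hJ hle
  clear! Q
  intro q _ hJ hle
  by_cases hs : (⟨q, inferInstance⟩ : PrimeSpectrum C) ∈ Module.support C Cbar
  · have hPq : P ≤ q := fun x hx => by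
      by_contra hxq
      obtain ⟨z, hz⟩ := Module.mem_support_iff'.1 hs
      obtain ⟨z, rfl⟩ := Submodule.Quotient.mk_surjective _ z
      exact hz x hxq ((Submodule.Quotient.mk_eq_zero _).2 (Submodule.smul_mem_smul hx trivial))
    have hpq : q.comap (algebraMap R C) = maximalIdeal R :=
      le_antisymm ((Ideal.comap_mono hle).trans hn.le) (Ideal.map_le_iff_le_comap.1 hPq)
    have h1 := (Codepth5.hasSk_fibLocRing_iff 2 n).1 hS2
      ⟨⟨q, inferInstance⟩, PrimeSpectrum.ext (hpq.trans hn.symm)⟩ hle
    have h2 : (2 : WithBot ℕ∞) ≤ FlatLoc6.fibDim R q C := by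
      rw [FlatLoc6.fibDim_self]; exact hcodim ⟨q, inferInstance⟩ hJ
    have h3 : (2 : ℕ∞) ≤ FlatLoc6.fibDepth R q C := by
      have h1' : min ((2 : ℕ) : WithBot ℕ∞) (FlatLoc6.fibDim R q C) ≤ ((FlatLoc6.fibDepth R q C : ℕ∞) : WithBot ℕ∞) := h1
      rw [min_eq_left (by exact_mod_cast h2)] at h1'
      exact WithBot.coe_le_coe.1 h1'
    obtain ⟨e'⟩ := KFlatLib.exists_localizedQuotSMul q.primeCompl P C
    refine h3.trans (le_of_eq (FlatLoc6.depth_congr' ?_).symm)
    exact e'.trans (Submodule.quotEquivOfEq _ _ (by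
      simp only [P]
      rw [Ideal.map_map, ← IsScalarTower.algebraMap_eq, hpq]))
  · haveI := Module.notMem_support_iff.1 hs
    rw [LocCoh.depth, LocCoh.idealDepth, if_pos (Subsingleton.elim _ _)]
    exact le_top

include hn in
/-- `(S₂)` of the closed fibre of a module free off `J` of depth two along `J`. -/
theorem hasSk_two_fibLocMod (hS2 : LocCoh.HasSk 2 (EGA4.FibLocRing R C n.asIdeal) (EGA4.FibLocRing R C n.asIdeal))
    (J : Ideal C) (F : Type u) [AddCommGroup F] [Module C F] [Module.Finite C F]
    (hFU : ∀ q : PrimeSpectrum C, ¬ J ≤ q.asIdeal → Module.Free (Localization.AtPrime q.asIdeal) (LocalizedModule q.asIdeal.primeCompl F))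
    (hd : 2 ≤ LocCoh.idealDepth (J.map (algebraMap C (Localization.AtPrime n.asIdeal)))
      (EGA4.FibMod R (Localization.AtPrime n.asIdeal) (LocalizedModule n.asIdeal.primeCompl F))) :
    LocCoh.HasSk 2 (EGA4.FibLocRing R C n.asIdeal) (EGA4.FibLocMod R C n.asIdeal F) := by
  let L := Localization.AtPrime n.asIdeal
  haveI : IsNoetherianRing L := IsLocalization.isNoetherianRing n.asIdeal.primeCompl _ inferInstance
  haveI : Module.Finite L (LocalizedModule n.asIdeal.primeCompl F) :=
    Module.Finite.of_isLocalizedModule n.asIdeal.primeCompl (LocalizedModule.mkLinearMap _ _)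
  suffices key : ∀ I : Ideal L, EGA4.mB R L = I → LocCoh.HasSk 2 (L ⧸ I) (L ⧸ I) →
      LocCoh.HasSk 2 (L ⧸ I) (LocalizedModule n.asIdeal.primeCompl F ⧸
        (I • ⊤ : Submodule L (LocalizedModule n.asIdeal.primeCompl F))) from
    key _ (fibLocRing_ideal_eq n hn).symm hS2
  rintro I rfl hS
  refine hasSk_of_surjective' Ideal.Quotient.mk_surjective _ 2 fun Q hQ => ?_
  haveI := hQ
  haveI : IsNoetherianRing (Localization.AtPrime Q) := IsLocalization.isNoetherianRing Q.primeCompl _ inferInstance
  by_cases hJ : J.map (algebraMap C L) ≤ Q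
  · exact le_trans (min_le_left _ _) (WithBot.coe_le_coe.2 (hd.trans (LC.idealDepth_le_depth_localized _ _ Q hJ)))
  let q := Q.comap (algebraMap C L)
  haveI := hFU ⟨q, inferInstance⟩ fun h => hJ (Ideal.map_le_iff_le_comap.2 h)
  obtain ⟨r, c, α, β, hc, h1, h2⟩ := KFlatLib.exists_free_up_to F q.primeCompl
  -- transport the maps to the closed fibre
  let a0 : LocalizedModule n.asIdeal.primeCompl F →ₗ[L] (Fin r → L) :=
    ((LocalizedModule.equivTensorProduct n.asIdeal.primeCompl (Fin r → C)).trans
      (TensorProduct.piScalarRight C L L (Fin r))).toLinearMap ∘ₗ LocalizedModule.map n.asIdeal.primeCompl α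
  let b0 : (Fin r → L) →ₗ[L] LocalizedModule n.asIdeal.primeCompl F :=
    LocalizedModule.map n.asIdeal.primeCompl β ∘ₗ
    ((LocalizedModule.equivTensorProduct n.asIdeal.primeCompl (Fin r → C)).trans
      (TensorProduct.piScalarRight C L L (Fin r))).symm.toLinearMap
  have hba : ∀ x, b0 (a0 x) = algebraMap C L c • x := fun x => by
    simp only [a0, b0, LinearMap.comp_apply, LinearEquiv.coe_coe, LinearEquiv.symm_apply_apply]
    induction x using LocalizedModule.induction_on with
    | h z s => rw [LocalizedModule.map_mk, LocalizedModule.map_mk, h1, ← LocalizedModule.smul'_mk, algebraMap_smul]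
  have hab : ∀ x, a0 (b0 x) = algebraMap C L c • x := fun x => by
    simp only [a0, b0, LinearMap.comp_apply, LinearEquiv.coe_coe]
    rw [← LinearEquiv.eq_symm_apply, map_smul]
    generalize ((LocalizedModule.equivTensorProduct n.asIdeal.primeCompl (Fin r → C)).trans
      (TensorProduct.piScalarRight C L L (Fin r))).symm x = y
    induction y using LocalizedModule.induction_on with
    | h z s => rw [LocalizedModule.map_mk, LocalizedModule.map_mk, h2, ← LocalizedModule.smul'_mk, algebraMap_smul]
  obtain ⟨e⟩ := exists_equiv_localized_of_up_to (KFlatLib.fibMap R a0) (KFlatLib.fibMap R b0) (algebraMap C L c)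
    Q.primeCompl hc
    (fun x => by
      obtain ⟨x, rfl⟩ := Submodule.Quotient.mk_surjective _ x
      show Submodule.Quotient.mk (b0 (a0 x)) = _
      rw [hba, Submodule.Quotient.mk_smul])
    (fun x => by
      obtain ⟨x, rfl⟩ := Submodule.Quotient.mk_surjective _ x
      show Submodule.Quotient.mk (a0 (b0 x)) = _
      rw [hab, Submodule.Quotient.mk_smul])
  rw [Module.supportDim_eq_of_equiv e, FlatLoc6.depth_congr' e]
  refine hasSk_congr (?_ : (Fin r → L ⧸ EGA4.mB R L) ≃ₗ[L] EGA4.FibMod R L (Fin r → L)) 2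
    (hasSk_of_surjective (P := L) (B := L ⧸ EGA4.mB R L) Ideal.Quotient.mk_surjective _ 2 ?_) Q
  · exact ((TensorProduct.piScalarRight L L (L ⧸ EGA4.mB R L) (Fin r)).restrictScalars L).symm.trans
      (TensorProduct.quotTensorEquivQuotSMul (Fin r → L) (EGA4.mB R L))
  · haveI : IsNoetherianRing (L ⧸ EGA4.mB R L) := Ideal.Quotient.isNoetherianRing _
    exact KFlatLib.hasSk_pi 2 hS r

end Groth.Agent.QGorRing
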