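import Groth.Agent.QGorRing.FourTermIff

/-!
# The double dual of a base change as the kernel of the base changed presentation
-/

set_option autoImplicit false
set_option linter.style.haveILetI false

universe u

open TensorProduct

namespace Groth.Agent.QGorRing

/-- A four term sequence splits up to an element where the cokernel is free. -/
theorem exists_split_up_to {C : Type u} [CommRing C] [IsNoetherianRing C] {F E0 E1 G : Type u}
    [AddCommGroup F] [Module C F] [AddCommGroup E0] [Module C E0]
    [AddCommGroup E1] [Module C E1] [Module.Projective C E1]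
    [AddCommGroup G] [Module C G] [Module.Finite C G]
    {f : F →ₗ[C] E0} {u : E0 →ₗ[C] E1} {v : E1 →ₗ[C] G}
    (hf : Function.Injective f) (hfu : Function.Exact f u) (huv : Function.Exact u v) (hv : Function.Surjective v)
    (S : Submonoid C) [Module.Free (Localization S) (LocalizedModule S G)] :
    ∃ c ∈ S, ∃ (g : E0 →ₗ[C] F) (t : E1 →ₗ[C] E0),
      (∀ x, g (f x) = c • x) ∧ ∀ x, f (g x) + t (u x) = c • x := by
  obtain ⟨r, c, α, β, hc, h1, -⟩ := KFlatLib.exists_free_up_to G S
  obtain ⟨s, hs⟩ := Module.projective_lifting_property v β hv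
  let r1 : E1 →ₗ[C] LinearMap.range u :=
    (c • LinearMap.id - s ∘ₗ α ∘ₗ v).codRestrict _ fun x => (huv _).1 (by
      show v (c • x - s (α (v x))) = 0
      rw [map_sub, map_smul, show v (s (α (v x))) = β (α (v x)) from LinearMap.congr_fun hs _, h1, sub_self])
  obtain ⟨t, ht⟩ := Module.projective_lifting_property u.rangeRestrict r1 u.surjective_rangeRestrict
  have hut : ∀ x, u (t (u x)) = c • u x := fun x => by
    rw [show u (t (u x)) = c • u x - s (α (v (u x))) from congrArg Subtype.val (LinearMap.congr_fun ht (u x)),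
      huv.apply_apply_eq_zero, map_zero, map_zero, sub_zero]
  let g : E0 →ₗ[C] F := (LinearEquiv.ofInjective f hf).symm.toLinearMap ∘ₗ
    ((c • LinearMap.id - t ∘ₗ u).codRestrict (LinearMap.range f) fun x => (hfu _).1 (by
      show u (c • x - t (u x)) = 0
      rw [map_sub, map_smul, hut, sub_self]))
  have hfg : ∀ x, f (g x) = c • x - t (u x) := fun x =>
    congrArg Subtype.val ((LinearEquiv.ofInjective f hf).apply_symm_apply _)
  refine ⟨c, hc, g, t, fun x => hf ?_, fun x => by rw [hfg, sub_add_cancel]⟩
  rw [hfg, hfu.apply_apply_eq_zero, map_zero, sub_zero, map_smul]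

theorem dual_dual_up_to {R : Type u} [CommRing R] {X Y : Type u} [AddCommGroup X] [Module R X] [AddCommGroup Y]
    [Module R Y] (φ : X →ₗ[R] Y) (ψ : Y →ₗ[R] X) (c : R) (h : ∀ x, ψ (φ x) = c • x)
    (z : Module.Dual R (Module.Dual R X)) : ψ.dualMap.dualMap (φ.dualMap.dualMap z) = c • z := by
  refine LinearMap.ext fun θ => ?_
  show z ((θ ∘ₗ ψ) ∘ₗ φ) = _
  rw [LinearMap.smul_apply, ← map_smul z]
  exact congrArg z (LinearMap.ext fun x => by simp [h])

/-- The double dual of the base change is the base changed kernel. -/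
theorem exists_ddual_equiv_ker {C L : Type u} [CommRing C] [IsNoetherianRing C] [CommRing L] [IsNoetherianRing L]
    [Algebra C L] {F E0 E1 G : Type u}
    [AddCommGroup F] [Module C F] [Module.Finite C F]
    [AddCommGroup E0] [Module C E0] [Module.Finite C E0] [Module.Projective C E0]
    [AddCommGroup E1] [Module C E1] [Module.Finite C E1] [Module.Projective C E1]
    [AddCommGroup G] [Module C G] [Module.Finite C G]
    {f : F →ₗ[C] E0} {u : E0 →ₗ[C] E1} {v : E1 →ₗ[C] G}
    (hf : Function.Injective f) (hfu : Function.Exact f u) (huv : Function.Exact u v) (hv : Function.Surjective v)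
    (J : Ideal C)
    (hGU : ∀ q : PrimeSpectrum C, ¬ J ≤ q.asIdeal →
      Module.Free (Localization.AtPrime q.asIdeal) (LocalizedModule q.asIdeal.primeCompl G))
    (hL : 2 ≤ LocCoh.idealDepth (J.map (algebraMap C L)) L)
    {K : Type u} [AddCommGroup K] [Module L K] [Module.Finite L K]
    (j : K →ₗ[L] L ⊗[C] E0) (hj : Function.Injective j) (hju : Function.Exact j (u.baseChange L)) :
    Nonempty (Module.Dual L (Module.Dual L (L ⊗[C] F)) ≃ₗ[L] K) := by
  classical
  let J' := J.map (algebraMap C L)
  have hGU' : ∀ q' : PrimeSpectrum L, ¬ J' ≤ q'.asIdeal →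
      Module.Projective (Localization.AtPrime q'.asIdeal) (LocalizedModule q'.asIdeal.primeCompl (L ⊗[C] G)) := by
    intro q' hq'
    haveI := hGU ⟨q'.asIdeal.comap (algebraMap C L), Ideal.IsPrime.comap _⟩
      (fun h => hq' (Ideal.map_le_iff_le_comap.2 h))
    exact projective_localized_baseChange G q'.asIdeal _ rfl
  obtain ⟨h1, h2⟩ := exact_baseChange (B' := L) huv hv
  haveI := (isReflexive_of_fourTerm J' hj hju h1 h2 hL hGU').1
  let φ : L ⊗[C] F →ₗ[L] K := (LinearEquiv.ofInjective j hj).symm.toLinearMap ∘ₗ
    (f.baseChange L).codRestrict (LinearMap.range j) fun x => (hju _).1 (by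
      rw [← LinearMap.comp_apply, ← LinearMap.baseChange_comp, hfu.linearMap_comp_eq_zero,
        LinearMap.baseChange_zero, LinearMap.zero_apply])
  have hjφ : ∀ x, j (φ x) = f.baseChange L x := fun x =>
    congrArg Subtype.val ((LinearEquiv.ofInjective j hj).apply_symm_apply _)
  have key : ∀ q' : PrimeSpectrum L, ¬ J' ≤ q'.asIdeal → ∃ (s : L) (ψ : K →ₗ[L] L ⊗[C] F), s ∉ q'.asIdeal ∧
      (∀ x, ψ (φ x) = s • x) ∧ ∀ x, φ (ψ x) = s • x := by
    intro q' hq'
    haveI := hGU ⟨q'.asIdeal.comap (algebraMap C L), Ideal.IsPrime.comap _⟩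
      (fun h => hq' (Ideal.map_le_iff_le_comap.2 h))
    obtain ⟨c, hc, g, t, hgf, hfg⟩ := exists_split_up_to hf hfu huv hv (q'.asIdeal.comap (algebraMap C L)).primeCompl
    refine ⟨algebraMap C L c, g.baseChange L ∘ₗ j, hc, fun x => ?_, fun x => hj ?_⟩
    · show g.baseChange L (j (φ x)) = _
      rw [hjφ, ← LinearMap.comp_apply, ← LinearMap.baseChange_comp,
        show g ∘ₗ f = c • LinearMap.id from LinearMap.ext hgf, LinearMap.baseChange_smul, LinearMap.baseChange_id,
        algebraMap_smul]
      rfl
    · show j (φ (g.baseChange L (j x))) = _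
      rw [hjφ, map_smul]
      have h3 : f.baseChange L (g.baseChange L (j x)) + t.baseChange L (u.baseChange L (j x)) =
          algebraMap C L c • j x := by
        rw [← LinearMap.comp_apply, ← LinearMap.baseChange_comp, ← LinearMap.comp_apply (t.baseChange L),
          ← LinearMap.baseChange_comp, ← LinearMap.add_apply, ← LinearMap.baseChange_add,
          show f ∘ₗ g + t ∘ₗ u = c • LinearMap.id from LinearMap.ext hfg, LinearMap.baseChange_smul,
          LinearMap.baseChange_id, algebraMap_smul]
        rfl
      rwa [hju.apply_apply_eq_zero, map_zero, add_zero] at h3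
  haveI : Module.Finite L (L ⊗[C] F) := inferInstance
  refine ⟨(LinearEquiv.ofBijective φ.dualMap.dualMap ?_).trans (Module.evalEquiv L K).symm⟩
  refine KFlatLib.bijective_of_bijective_off J' _ (fun q' hq' x hx => ?_) (fun q' hq' y => ?_)
    (KFlatLib.two_le_idealDepth_dual J' hL _) (le_trans one_le_two (KFlatLib.two_le_idealDepth_dual J' hL _))
  · obtain ⟨s, ψ, hs, h3, -⟩ := key q' hq'
    exact ⟨s, hs, by rw [← dual_dual_up_to φ ψ s h3 x, hx, map_zero]⟩
  · obtain ⟨s, ψ, hs, -, h4⟩ := key q' hq'
    exact ⟨s, hs, ψ.dualMap.dualMap y, dual_dual_up_to ψ φ s h4 y⟩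

/-- The dual of a finite module localizes. -/
theorem exists_dual_localized {R : Type u} [CommRing R] [IsNoetherianRing R] (S : Submonoid R) (M : Type u)
    [AddCommGroup M] [Module R M] [Module.Finite R M] :
    Nonempty (LocalizedModule S (Module.Dual R M) ≃ₗ[Localization S]
      Module.Dual (Localization S) (LocalizedModule S M)) := by
  classical
  haveI : Module.FinitePresentation R M := Module.finitePresentation_of_finite R M
  let h : Module.Dual R M →ₗ[R] Module.Dual (Localization S) (LocalizedModule S M) :=
    IsLocalizedModule.mapExtendScalars S (LocalizedModule.mkLinearMap S M)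
      (Algebra.linearMap R (Localization S)) (Localization S)
  exact ⟨(IsLocalizedModule.iso S h).extendScalarsOfIsLocalization S (Localization S)⟩

/-- The double dual of a finite module localizes. -/
theorem exists_ddual_localized {R : Type u} [CommRing R] [IsNoetherianRing R] (S : Submonoid R) (M : Type u)
    [AddCommGroup M] [Module R M] [Module.Finite R M] :
    Nonempty (LocalizedModule S (Module.Dual R (Module.Dual R M)) ≃ₗ[Localization S]
      Module.Dual (Localization S) (Module.Dual (Localization S) (LocalizedModule S M))) := by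
  haveI : Module.Finite R (Module.Dual R M) := inferInstance
  obtain ⟨e1⟩ := exists_dual_localized S M
  obtain ⟨e2⟩ := exists_dual_localized S (Module.Dual R M)
  exact ⟨e2.trans e1.symm.dualMap⟩

end Groth.Agent.QGorRing
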