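import Groth.Agent.QGorRing.FourTermIff
import Groth.Agent.KFlatLib.Ring.LocalFibre
import Groth.Agent.LC.ExtDim
import Groth.Agent.LC.CdDim

/-!
# Flat cokernels over an Artinian base from `(S₂)` of the fibre of the kernel
-/

set_option autoImplicit false
set_option linter.style.haveILetI false

universe u

open TensorProduct IsLocalRing

namespace Groth.Agent.QGorRing

/-- A module free off `V(J)` of positive depth there has dimension at least two at the points of `V(J)`. -/
theorem two_le_supportDim_localized {L : Type u} [CommRing L] [IsNoetherianRing L] (J : Ideal L)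
    (hL : 2 ≤ LocCoh.idealDepth J L) (K : Type u) [AddCommGroup K] [Module L K] [Module.Finite L K]
    (hK : 1 ≤ LocCoh.idealDepth J K)
    (hU : ∀ P : PrimeSpectrum L, ¬ J ≤ P.asIdeal →
      Module.Projective (Localization.AtPrime P.asIdeal) (LocalizedModule P.asIdeal.primeCompl K))
    (Q : Ideal L) [Q.IsPrime] (hQ : J ≤ Q) [Nontrivial (LocalizedModule Q.primeCompl K)] :
    (2 : WithBot ℕ∞) ≤ Module.supportDim (Localization.AtPrime Q) (LocalizedModule Q.primeCompl K) := by
  classical
  obtain ⟨P, hPK, hPQ⟩ : ∃ P : PrimeSpectrum L, P.asIdeal ∈ associatedPrimes L K ∧ P.asIdeal ≤ Q := by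
    have hann : Module.annihilator L K ≤ Q := Module.annihilator_le_of_mem_support
      (p := (⟨Q, inferInstance⟩ : PrimeSpectrum L)) (Module.mem_support_iff.2 ‹_›)
    obtain ⟨P, hP, hPQ⟩ := Ideal.exists_minimalPrimes_le hann
    exact ⟨⟨P, hP.1.1⟩,
      Module.associatedPrimes.minimalPrimes_annihilator_subset_associatedPrimes L K hP, hPQ⟩
  have hJP : ¬ J ≤ P.asIdeal := fun h => by
    have h1 := hK.trans (LC.idealDepth_le_depth_localized J K P.asIdeal h)
    rw [Alg6.one_le_depth_atPrime_iff] at h1
    exact h1 hPK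
  haveI := hU P hJP
  haveI : IsNoetherianRing (Localization.AtPrime P.asIdeal) :=
    IsLocalization.isNoetherianRing P.asIdeal.primeCompl _ inferInstance
  haveI : Module.Finite (Localization.AtPrime P.asIdeal) (LocalizedModule P.asIdeal.primeCompl K) :=
    Module.Finite.of_isLocalizedModule P.asIdeal.primeCompl (LocalizedModule.mkLinearMap _ _)
  haveI : Module.Free (Localization.AtPrime P.asIdeal) (LocalizedModule P.asIdeal.primeCompl K) :=
    Module.free_of_flat_of_isLocalRing
  haveI : Nontrivial (LocalizedModule P.asIdeal.primeCompl K) := by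
    obtain ⟨-, z, hz⟩ := Groth.Agent.Alg6.mem_ass_iff.1 hPK
    have hsupp : P ∈ Module.support L K := by
      refine Module.mem_support_iff_exists_annihilator.2 ⟨z, fun a ha => ?_⟩
      exact (hz a).2 ((Submodule.mem_annihilator_span_singleton z a).1 ha)
    exact Module.mem_support_iff.1 hsupp
  obtain ⟨P0, hP0, hP0P⟩ := Ideal.exists_minimalPrimes_le (I := (⊥ : Ideal L)) (J := P.asIdeal) bot_le
  haveI : P0.IsPrime := hP0.1.1
  -- a basis vector survives at the minimal prime
  let b := Module.Free.chooseBasis (Localization.AtPrime P.asIdeal) (LocalizedModule P.asIdeal.primeCompl K)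
  obtain ⟨i⟩ := b.index_nonempty
  obtain ⟨⟨z, s⟩, hz⟩ := IsLocalizedModule.surj P.asIdeal.primeCompl
    (LocalizedModule.mkLinearMap P.asIdeal.primeCompl K) (b i)
  have hfree : ∀ r : L, r • z = 0 → r ∈ P0 := fun r hr => by
    have h1 : algebraMap L (Localization.AtPrime P.asIdeal) (r * s) • b i = 0 := by
      rw [map_mul, mul_smul, algebraMap_smul, algebraMap_smul, ← Submonoid.smul_def, hz, ← map_smul, hr, map_zero]
    have h2 : algebraMap L (Localization.AtPrime P.asIdeal) (r * s) = 0 := by
      have h := congrArg (fun x => b.repr x i) h1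
      rw [map_smul, Module.Basis.repr_self, map_zero] at h
      simpa using h
    obtain ⟨t, ht⟩ := (IsLocalization.map_eq_zero_iff P.asIdeal.primeCompl _ _).1 h2
    have h3 : (t : L) * (r * s) ∈ P0 := by rw [ht]; exact P0.zero_mem
    rcases hP0.1.1.mem_or_mem h3 with h4 | h4
    · exact absurd (hP0P h4) t.2
    rcases hP0.1.1.mem_or_mem h4 with h5 | h5
    · exact h5
    · exact absurd (hP0P h5) s.2
  haveI : IsNoetherianRing (Localization.AtPrime Q) := IsLocalization.isNoetherianRing Q.primeCompl _ inferInstance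
  have hP0Q : P0 ≤ Q := hP0P.trans hPQ
  have hdisj : Disjoint (Q.primeCompl : Set L) P0 := Set.disjoint_left.2 fun x hx hxP => hx (hP0Q hxP)
  haveI hpr := IsLocalization.isPrime_of_isPrime_disjoint Q.primeCompl (Localization.AtPrime Q) P0 hP0.1.1 hdisj
  let x : PrimeSpectrum (Localization.AtPrime Q) := ⟨P0.map (algebraMap L _), hpr⟩
  have hx : x.asIdeal.comap (algebraMap L (Localization.AtPrime Q)) = P0 :=
    IsLocalization.comap_map_of_isPrime_disjoint Q.primeCompl _ hP0.1.1 hdisj
  have hxsupp : x ∈ Module.support (Localization.AtPrime Q) (LocalizedModule Q.primeCompl K) := by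
    refine Module.mem_support_iff'.2 ⟨LocalizedModule.mk z 1, fun a ha h0 => ?_⟩
    obtain ⟨⟨r, t⟩, hrt⟩ := IsLocalization.surj (M := Q.primeCompl) a
    have h1 : algebraMap L (Localization.AtPrime Q) r • LocalizedModule.mk z (1 : Q.primeCompl) = 0 := by
      rw [← show a * algebraMap L (Localization.AtPrime Q) t = algebraMap L _ r from hrt, mul_comm, mul_smul, h0,
        smul_zero]
    rw [algebraMap_smul, ← LocalizedModule.mkLinearMap_apply, ← map_smul,
      IsLocalizedModule.eq_zero_iff Q.primeCompl] at h1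
    obtain ⟨v, hv⟩ := h1
    rw [Submonoid.smul_def, smul_smul] at hv
    have hr : r ∈ P0 := (hP0.1.1.mem_or_mem (hfree _ hv)).resolve_left fun h => v.2 (hP0Q h)
    refine ha ?_
    have hmem : a * algebraMap L (Localization.AtPrime Q) t ∈ x.asIdeal := by
      rw [hrt]; exact Ideal.mem_map_of_mem _ hr
    refine (x.isPrime.mem_or_mem hmem).resolve_right fun h => ?_
    exact x.isPrime.ne_top (Ideal.eq_top_of_isUnit_mem _ h (IsLocalization.map_units _ t))
  have hxass : x.asIdeal ∈ associatedPrimes (Localization.AtPrime Q) (Localization.AtPrime Q) := by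
    refine Module.associatedPrimes.minimalPrimes_annihilator_subset_associatedPrimes _ _ ?_
    rw [Module.annihilator_eq_bot.2 inferInstance]
    refine ⟨⟨x.isPrime, bot_le⟩, fun y hy hyx => ?_⟩
    haveI := hy.1
    have h1 : P0 ≤ y.comap (algebraMap L (Localization.AtPrime Q)) :=
      hP0.2 ⟨Ideal.IsPrime.comap _, bot_le⟩ ((Ideal.comap_mono hyx).trans hx.le)
    exact Ideal.map_le_iff_le_comap.2 h1
  refine le_trans ?_ (LC.coheight_le_supportDim hxsupp)
  have h2 := (hL.trans (LC.idealDepth_le_depth_localized J L Q hQ)).trans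
    (le_of_eq (FlatLoc6.depth_congr' (LC.selfLoc Q.primeCompl)))
  exact WithBot.coe_le_coe.2 (h2.trans (LC.depth_le_coheight_of_ass _ hxass))

section Artinian

variable {A L : Type u} [CommRing A] [CommRing L] [Algebra A L] [IsArtinianRing A] [IsLocalRing A]
  [IsNoetherianRing L] [IsLocalRing L]

omit [IsNoetherianRing L] [IsLocalRing L] in
theorem comap_eq_maximalIdeal (Q : Ideal L) [Q.IsPrime] : Q.comap (algebraMap A L) = maximalIdeal A :=
  IsLocalRing.eq_maximalIdeal (IsArtinianRing.isMaximal_of_isPrime _)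

omit [IsLocalRing L] in
/-- The pointwise fibre depths from the depth of the closed fibre. -/
theorem le_idealDepth_fibLocRing_of_fibMod (J : Ideal L) (hd : 2 ≤ LocCoh.idealDepth J (EGA4.FibMod A L L))
    (q : PrimeSpectrum L) (hq : J ≤ q.asIdeal) :
    2 ≤ LocCoh.idealDepth (q.asIdeal.map (algebraMap L (EGA4.FibLocRing A L q.asIdeal))) (EGA4.FibLocRing A L q.asIdeal) := by
  haveI := FlatLoc6.isLocalRing_fibLocRing (A := A) q.asIdeal
  rw [KFlatLib.map_eq_maximalIdeal_fibLocRing q.asIdeal]
  show 2 ≤ LocCoh.depth _ _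
  rw [← FlatLoc6.fibDepth_self]
  obtain ⟨e⟩ := KFlatLib.exists_localizedQuotSMul q.asIdeal.primeCompl (EGA4.mB A L) L
  refine (hd.trans (LC.idealDepth_le_depth_localized J _ q.asIdeal hq)).trans (le_of_eq ?_)
  refine FlatLoc6.depth_congr' (e.trans (Submodule.quotEquivOfEq _ _ ?_))
  rw [comap_eq_maximalIdeal, EGA4.mB, Ideal.map_map, ← IsScalarTower.algebraMap_eq]

/-- Depth of a projective module modulo an ideal. -/
theorem le_idealDepth_quot_projective {R : Type u} [CommRing R] [IsNoetherianRing R] (I P : Ideal R) (k : ℕ)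
    (h : (k : ℕ∞) ≤ LocCoh.idealDepth I (R ⧸ P))
    (E : Type u) [AddCommGroup E] [Module R E] [Module.Finite R E] [Module.Projective R E] :
    (k : ℕ∞) ≤ LocCoh.idealDepth I (E ⧸ (P • ⊤ : Submodule R E)) := by
  obtain ⟨n, π, hπ⟩ := Module.Finite.exists_fin' R E
  obtain ⟨s, hs⟩ := Module.projective_lifting_property π LinearMap.id hπ
  let N := Fin n → R ⧸ P
  let red : (Fin n → R) →ₗ[R] N := LinearMap.pi fun i => P.mkQ ∘ₗ LinearMap.proj i
  have hi : (P • ⊤ : Submodule R E) ≤ LinearMap.ker (red ∘ₗ s) := Submodule.smul_le.2 fun a ha x _ => by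
    refine funext fun i => ?_
    show Submodule.Quotient.mk (p := P) (s (a • x) i) = 0
    rw [map_smul, Pi.smul_apply, smul_eq_mul]
    exact (Submodule.Quotient.mk_eq_zero _).2 (P.mul_mem_right _ ha)
  let i : (E ⧸ (P • ⊤ : Submodule R E)) →ₗ[R] N := Submodule.liftQ _ (red ∘ₗ s) hi
  let col : Fin n → (R ⧸ P) →ₗ[R] (E ⧸ (P • ⊤ : Submodule R E)) := fun j =>
    Submodule.liftQ P (LinearMap.toSpanSingleton R _ (Submodule.Quotient.mk (π (Pi.single j 1)))) fun a ha => by
      rw [LinearMap.mem_ker, LinearMap.toSpanSingleton_apply, ← Submodule.Quotient.mk_smul]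
      exact (Submodule.Quotient.mk_eq_zero _).2 (Submodule.smul_mem_smul ha trivial)
  let r : N →ₗ[R] (E ⧸ (P • ⊤ : Submodule R E)) := ∑ j, col j ∘ₗ LinearMap.proj j
  refine KFlatLib.le_idealDepth_of_retract _ i r (fun x => ?_) (KFlatLib.le_idealDepth_pi_module _ _ k h n)
  obtain ⟨x, rfl⟩ := Submodule.Quotient.mk_surjective _ x
  show r (red (s x)) = _
  simp only [r, LinearMap.sum_apply, LinearMap.comp_apply]
  show ∑ j, s x j • Submodule.Quotient.mk (π (Pi.single j 1)) = Submodule.Quotient.mk x
  have hx : π (s x) = x := LinearMap.congr_fun hs x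
  conv_rhs => rw [← hx, pi_eq_sum_univ' (s x), map_sum]
  rw [← Submodule.mkQ_apply, map_sum]
  exact Finset.sum_congr rfl fun j _ => by rw [map_smul, map_smul]; rfl

variable [IsLocalHom (algebraMap A L)] [Module.Flat A L]

variable {K E0 E1 G : Type u}
  [AddCommGroup K] [Module L K] [Module A K] [IsScalarTower A L K] [Module.Finite L K]
  [AddCommGroup E0] [Module L E0] [Module A E0] [IsScalarTower A L E0] [Module.Finite L E0]
  [Module.Projective L E0]
  [AddCommGroup E1] [Module L E1] [Module A E1] [IsScalarTower A L E1] [Module.Finite L E1]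
  [Module.Projective L E1]
  [AddCommGroup G] [Module L G] [Module A G] [IsScalarTower A L G] [Module.Finite L G]
  {f : K →ₗ[L] E0} {u : E0 →ₗ[L] E1} {v : E1 →ₗ[L] G}

/-- `(S₂)` of the fibre of a flat kernel forces a flat cokernel. -/
theorem flat_coker_of_hasSk (hf : Function.Injective f) (hfu : Function.Exact f u)
    (huv : Function.Exact u v) (hv : Function.Surjective v) (J : Ideal L)
    (hd : 2 ≤ LocCoh.idealDepth J (EGA4.FibMod A L L))
    (hGU : ∀ q : PrimeSpectrum L, ¬ J ≤ q.asIdeal →
      Module.Projective (Localization.AtPrime q.asIdeal) (LocalizedModule q.asIdeal.primeCompl G))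
    (hS : LocCoh.HasSk 2 L (EGA4.FibMod A L K)) : Module.Flat A G := by
  have hB : 2 ≤ LocCoh.idealDepth J L :=
    KFlatLib.le_idealDepth_of_fibLocRing J 2 (le_idealDepth_fibLocRing_of_fibMod J hd)
  have hK2 := (isReflexive_of_fourTerm J hf hfu huv hv hB hGU).2
  haveI : Module.Flat A E0 := Module.Flat.trans A L E0
  haveI : Module.Flat A E1 := Module.Flat.trans A L E1
  refine (KFlatLib.flat_coker_of_fibMod J hf hfu huv hv (fun q hq => ?_) ?_ ?_).1
  · haveI := hGU q hq
    exact flatAt_of_projective q.asIdeal G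
  · refine le_idealDepth_quot_projective J (EGA4.mB A L) 2 (hd.trans (le_of_eq ?_)) E0
    exact LC.idealDepth_congr _ (Submodule.quotEquivOfEq _ _ (by rw [Ideal.smul_eq_mul, Ideal.mul_top]))
  · rw [LC.idealDepth_eq_iInf_depth]
    refine le_iInf₂ fun Q hQ => ?_
    haveI : IsNoetherianRing (Localization.AtPrime Q.asIdeal) :=
      IsLocalization.isNoetherianRing Q.asIdeal.primeCompl _ inferInstance
    haveI : Module.Finite (Localization.AtPrime Q.asIdeal) (LocalizedModule Q.asIdeal.primeCompl K) :=
      Module.Finite.of_isLocalizedModule Q.asIdeal.primeCompl (LocalizedModule.mkLinearMap _ _)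
    obtain ⟨e⟩ := KFlatLib.exists_localizedQuotSMul Q.asIdeal.primeCompl (EGA4.mB A L) K
    rcases subsingleton_or_nontrivial (LocalizedModule Q.asIdeal.primeCompl (EGA4.FibMod A L K)) with h0 | h0
    · rw [LocCoh.depth, LocCoh.idealDepth, if_pos (Subsingleton.elim _ _)]
      exact le_top
    haveI : Nontrivial (LocalizedModule Q.asIdeal.primeCompl K) := by
      by_contra hne
      rw [not_nontrivial_iff_subsingleton] at hne
      exact (not_subsingleton _) e.toEquiv.subsingleton
    have hsupp : Module.support (Localization.AtPrime Q.asIdeal) (LocalizedModule Q.asIdeal.primeCompl (EGA4.FibMod A L K)) =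
        Module.support (Localization.AtPrime Q.asIdeal) (LocalizedModule Q.asIdeal.primeCompl K) := by
      refine e.support_eq.trans ?_
      rw [Module.support_quotient]
      refine Set.inter_eq_left.2 fun x _ => ?_
      rw [PrimeSpectrum.mem_zeroLocus, SetLike.coe_subset_coe]
      rw [Ideal.map_le_iff_le_comap, EGA4.mB, Ideal.map_le_iff_le_comap, Ideal.comap_comap,
        ← IsScalarTower.algebraMap_eq]
      exact (IsLocalRing.eq_maximalIdeal (IsArtinianRing.isMaximal_of_isPrime
        (x.asIdeal.comap (algebraMap A (Localization.AtPrime Q.asIdeal))))).ge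
    have h2 : (2 : WithBot ℕ∞) ≤ Module.supportDim (Localization.AtPrime Q.asIdeal)
        (LocalizedModule Q.asIdeal.primeCompl (EGA4.FibMod A L K)) := by
      rw [Module.supportDim, hsupp]
      refine two_le_supportDim_localized J hB K (le_trans one_le_two hK2) (fun P hP => ?_) Q.asIdeal hQ
      haveI := hGU P hP
      exact projective_localized_of_fourTerm P.asIdeal.primeCompl f u v hf hfu huv hv
    have h3 := hS Q.asIdeal
    rw [min_eq_left (by exact_mod_cast h2)] at h3
    exact WithBot.coe_le_coe.1 h3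

end Artinian

end Groth.Agent.QGorRing
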