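import Groth.Agent.QGorRing.InfCritLocal
import Groth.Agent.QGorRing.InfCritGlue
import Groth.Agent.QGorRing.InfCritFibre
import Groth.Agent.ArtFunLib.Hull.Ring

/-!
# Flatness of the cokernel modulo a power of the maximal ideal
-/

set_option autoImplicit false
set_option linter.style.haveILetI false

universe u

open TensorProduct IsLocalRing

namespace Groth.Agent.QGorRing

/-- The depth of the closed fibre passes to a truncation. -/
theorem le_idealDepth_fibMod_of_surjective {R A' L L' : Type u} [CommRing R] [IsLocalRing R] [CommRing A']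
    [IsLocalRing A'] [CommRing L] [IsNoetherianRing L] [CommRing L'] [IsNoetherianRing L']
    [Algebra R L] [Algebra A' L'] [Algebra L L'] (hs : Function.Surjective (algebraMap L L')) (J : Ideal L)
    (hmB : (EGA4.mB R L).map (algebraMap L L') = EGA4.mB A' L')
    (hker : RingHom.ker (algebraMap L L') ≤ EGA4.mB R L)
    (hd : 2 ≤ LocCoh.idealDepth J (EGA4.FibMod R L L)) :
    2 ≤ LocCoh.idealDepth (J.map (algebraMap L L')) (EGA4.FibMod A' L' L') := by
  have hcomap : (EGA4.mB A' L').comap (algebraMap L L') = EGA4.mB R L := by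
    rw [← hmB, Ideal.comap_map_of_surjective _ hs, ← RingHom.ker_eq_comap_bot, sup_eq_left.2 hker]
  let g : EGA4.FibMod R L L →ₗ[L] EGA4.FibMod A' L' L' :=
    Submodule.liftQ _ (((EGA4.mB A' L' • ⊤ : Submodule L' L').mkQ.restrictScalars L) ∘ₗ Algebra.linearMap L L')
      fun x hx => by
        rw [Ideal.smul_eq_mul, Ideal.mul_top] at hx
        refine (Submodule.Quotient.mk_eq_zero _).2 ?_
        rw [Ideal.smul_eq_mul, Ideal.mul_top]
        exact (Ideal.mem_comap.1 (hcomap.symm ▸ hx) : algebraMap L L' x ∈ _)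
  have hg : Function.Bijective g := by
    refine ⟨?_, fun y => ?_⟩
    · rw [injective_iff_map_eq_zero]
      intro x hx
      obtain ⟨x, rfl⟩ := Submodule.Quotient.mk_surjective _ x
      have h1 := (Submodule.Quotient.mk_eq_zero _).1 hx
      rw [Ideal.smul_eq_mul, Ideal.mul_top] at h1
      refine (Submodule.Quotient.mk_eq_zero _).2 ?_
      rw [Ideal.smul_eq_mul, Ideal.mul_top, ← hcomap]
      exact h1
    · obtain ⟨y, rfl⟩ := Submodule.Quotient.mk_surjective _ y
      obtain ⟨x, rfl⟩ := hs y
      exact ⟨Submodule.Quotient.mk x, rfl⟩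
  haveI : Module.Finite L (EGA4.FibMod A' L' L') := Module.Finite.of_surjective g hg.2
  rw [KFlatLib.idealDepth_restrict, ← LC.idealDepth_congr _ (LinearEquiv.ofBijective g hg)]
  exact hd

/-- The cokernel is flat at a prime where the double dual is flat with `(S₂)` fibre. -/
theorem flat_coker_of_ddual {C A' T : Type u} [CommRing C] [IsNoetherianRing C] [CommRing A'] [IsArtinianRing A']
    [IsLocalRing A'] [CommRing T] [IsNoetherianRing T] [Algebra C T] [Algebra A' T] [Module.Flat A' T]
    (q' : Ideal T) [q'.IsPrime] {F E0 E1 G : Type u}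
    [AddCommGroup F] [Module C F] [Module.Finite C F]
    [AddCommGroup E0] [Module C E0] [Module.Finite C E0] [Module.Projective C E0]
    [AddCommGroup E1] [Module C E1] [Module.Finite C E1] [Module.Projective C E1]
    [AddCommGroup G] [Module C G] [Module.Finite C G]
    {f : F →ₗ[C] E0} {u : E0 →ₗ[C] E1} {v : E1 →ₗ[C] G}
    (hf : Function.Injective f) (hfu : Function.Exact f u) (huv : Function.Exact u v) (hv : Function.Surjective v)
    (J : Ideal C)
    (hGU : ∀ q : PrimeSpectrum C, ¬ J ≤ q.asIdeal →
      Module.Free (Localization.AtPrime q.asIdeal) (LocalizedModule q.asIdeal.primeCompl G))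
    (hd : 2 ≤ LocCoh.idealDepth (J.map (algebraMap C (Localization.AtPrime q')))
      (EGA4.FibMod A' (Localization.AtPrime q') (Localization.AtPrime q')))
    (hSD : LocCoh.HasSk 2 (EGA4.FibLocRing A' T q')
      (EGA4.FibLocMod A' T q' (Module.Dual T (Module.Dual T (T ⊗[C] F))))) :
    Module.Flat A' (Localization.AtPrime q' ⊗[C] G) := by
  classical
  let L' := Localization.AtPrime q'
  haveI : IsNoetherianRing L' := IsLocalization.isNoetherianRing q'.primeCompl _ inferInstance
  have hp' : q'.comap (algebraMap A' T) = maximalIdeal A' :=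
    IsLocalRing.eq_maximalIdeal (IsArtinianRing.isMaximal_of_isPrime _)
  haveI : Module.Flat T L' := IsLocalization.flat _ q'.primeCompl
  haveI : Module.Flat A' L' := Module.Flat.trans A' T L'
  haveI : IsLocalHom (algebraMap A' L') := ⟨fun a ha => by
    by_contra hna
    have h1 : a ∈ maximalIdeal A' := hna
    rw [← hp'] at h1
    have h2 : algebraMap A' L' a ∈ maximalIdeal L' := by
      rw [IsScalarTower.algebraMap_apply A' T L']
      exact (IsLocalization.AtPrime.to_map_mem_maximal_iff L' q' _).2 h1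
    exact h2 ha⟩
  obtain ⟨hx1, hx2⟩ := exact_baseChange (B' := L') huv hv
  have hGU' : ∀ Q : PrimeSpectrum L', ¬ J.map (algebraMap C L') ≤ Q.asIdeal →
      Module.Projective (Localization.AtPrime Q.asIdeal) (LocalizedModule Q.asIdeal.primeCompl (L' ⊗[C] G)) := by
    intro Q hQ
    haveI := hGU ⟨Q.asIdeal.comap (algebraMap C L'), Ideal.IsPrime.comap _⟩
      (fun h => hQ (Ideal.map_le_iff_le_comap.2 h))
    exact projective_localized_baseChange G Q.asIdeal _ rfl
  have hL' : 2 ≤ LocCoh.idealDepth (R := L') (J.map (algebraMap C L')) L' :=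
    KFlatLib.le_idealDepth_of_fibLocRing _ 2 (le_idealDepth_fibLocRing_of_fibMod _ hd)
  obtain ⟨eK⟩ := exists_ddual_equiv_ker hf hfu huv hv J hGU hL'
    (K := ↥(LinearMap.ker (u.baseChange L'))) (LinearMap.ker (u.baseChange L')).subtype Subtype.val_injective
    (LinearMap.exact_subtype_ker_map _)
  obtain ⟨eD⟩ := exists_ddual_localized q'.primeCompl (T ⊗[C] F)
  let eFT : LocalizedModule q'.primeCompl (T ⊗[C] F) ≃ₗ[L'] L' ⊗[C] F :=
    (LocalizedModule.equivTensorProduct q'.primeCompl (T ⊗[C] F)).trans
      (AlgebraTensorModule.cancelBaseChange C T L' L' F)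
  let e : LocalizedModule q'.primeCompl (Module.Dual T (Module.Dual T (T ⊗[C] F))) ≃ₗ[L']
      ↥(LinearMap.ker (u.baseChange L')) :=
    (eD.trans (eFT.dualMap.dualMap)).trans eK
  have hS : LocCoh.HasSk 2 L' (EGA4.FibMod A' L' ↥(LinearMap.ker (u.baseChange L'))) := by
    have h1 : LocCoh.HasSk 2 L' (EGA4.FibLocMod A' T q' (Module.Dual T (Module.Dual T (T ⊗[C] F)))) :=
      hasSk_of_surjective (P := L') (B := EGA4.FibLocRing A' T q') Ideal.Quotient.mk_surjective _ 2 hSD
    refine hasSk_congr (Submodule.Quotient.equiv _ _ e ?_) 2 h1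
    rw [Submodule.map_smul'', Submodule.map_top, LinearMap.range_eq_top.mpr e.surjective, hp']
  exact flat_coker_of_hasSk (K := ↥(LinearMap.ker (u.baseChange L')))
    (f := (LinearMap.ker (u.baseChange L')).subtype) Subtype.val_injective (LinearMap.exact_subtype_ker_map _)
    hx1 hx2 _ hd hGU' hS

/-- The cokernel on the truncation is the truncation of the localized cokernel. -/
theorem nonempty_equiv_truncation {R C A' T : Type u} [CommRing R] [CommRing C] [CommRing A'] [CommRing T]
    [Algebra R C] [Algebra R A'] [Algebra R T] [Algebra C T] [Algebra A' T] [IsScalarTower R C T]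
    [IsScalarTower R A' T] [Algebra.IsPushout R C A' T] (hsurj : Function.Surjective (algebraMap C T))
    (n : Ideal C) [n.IsPrime] (q' : Ideal T) [q'.IsPrime] (hq' : q'.comap (algebraMap C T) = n)
    (G : Type u) [AddCommGroup G] [Module C G] [Module R G] [IsScalarTower R C G] :
    Nonempty ((Localization.AtPrime q' ⊗[C] G) ≃ₗ[R] (A' ⊗[R] LocalizedModule n.primeCompl G)) := by
  subst hq'
  let n := q'.comap (algebraMap C T)
  let L := Localization.AtPrime n
  let L' := Localization.AtPrime q'
  let e1 : L' ⊗[C] G ≃ₗ[C] LocalizedModule q'.primeCompl (T ⊗[C] G) :=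
    (((LocalizedModule.equivTensorProduct q'.primeCompl (T ⊗[C] G)).trans
      (AlgebraTensorModule.cancelBaseChange C T L' L' G)).symm).restrictScalars C
  have hloc := LC.isLocalizedModule_comap (M := T ⊗[C] G) hsurj q'
  let e2 : LocalizedModule n.primeCompl (T ⊗[C] G) ≃ₗ[C] LocalizedModule q'.primeCompl (T ⊗[C] G) :=
    IsLocalizedModule.iso n.primeCompl ((LocalizedModule.mkLinearMap q'.primeCompl (T ⊗[C] G)).restrictScalars C)
  let e3 : (T ⊗[C] G) ≃ₗ[C] (G ⊗[R] A') :=
    (TensorProduct.comm C T G).trans ((TensorProduct.congr (LinearEquiv.refl C G)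
      (Algebra.IsPushout.out (R := R) (S := C) (R' := A') (S' := T)).equiv.symm).trans
      (AlgebraTensorModule.cancelBaseChange R C C G A'))
  let e4 : LocalizedModule n.primeCompl (T ⊗[C] G) ≃ₗ[C] (L ⊗[C] (G ⊗[R] A')) :=
    ((LocalizedModule.equivTensorProduct n.primeCompl (T ⊗[C] G)).restrictScalars C).trans
      (TensorProduct.congr (LinearEquiv.refl C L) e3)
  let e5 : (L ⊗[C] (G ⊗[R] A')) ≃ₗ[C] ((L ⊗[C] G) ⊗[R] A') :=
    (AlgebraTensorModule.assoc R C C L G A').symm
  let e6 : ((L ⊗[C] G) ⊗[R] A') ≃ₗ[R] (A' ⊗[R] LocalizedModule n.primeCompl G) :=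
    (TensorProduct.congr ((LocalizedModule.equivTensorProduct n.primeCompl G).symm.restrictScalars R)
      (LinearEquiv.refl R A')).trans (TensorProduct.comm R _ _)
  exact ⟨((((e1.trans e2.symm).trans e4).trans e5).restrictScalars R).trans e6⟩

/-- Infinitesimal flatness of the cokernel from the double duals of the base changes. -/
theorem flat_quotient_pow {R C : Type u} [CommRing R] [CommRing C] [IsNoetherianRing R] [IsLocalRing R]
    [IsNoetherianRing C] [Algebra R C] [Module.Flat R C]
    (n : PrimeSpectrum C) (hn : n.asIdeal.comap (algebraMap R C) = maximalIdeal R) (J : Ideal C)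
    (hd : 2 ≤ LocCoh.idealDepth (J.map (algebraMap C (Localization.AtPrime n.asIdeal)))
      (EGA4.FibMod R (Localization.AtPrime n.asIdeal) (Localization.AtPrime n.asIdeal)))
    {F E0 E1 G : Type u}
    [AddCommGroup F] [Module C F] [Module R F] [IsScalarTower R C F] [Module.Finite C F]
    [AddCommGroup E0] [Module C E0] [Module.Finite C E0] [Module.Projective C E0]
    [AddCommGroup E1] [Module C E1] [Module.Finite C E1] [Module.Projective C E1]
    [AddCommGroup G] [Module C G] [Module R G] [IsScalarTower R C G] [Module.Finite C G]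
    {f : F →ₗ[C] E0} {u : E0 →ₗ[C] E1} {v : E1 →ₗ[C] G}
    (hf : Function.Injective f) (hfu : Function.Exact f u) (huv : Function.Exact u v) (hv : Function.Surjective v)
    (hGU : ∀ q : PrimeSpectrum C, ¬ J ≤ q.asIdeal →
      Module.Free (Localization.AtPrime q.asIdeal) (LocalizedModule q.asIdeal.primeCompl G))
    (hI : ∀ (A' : Type u) [CommRing A'] [IsArtinianRing A'] [IsLocalRing A'] [Algebra R A'],
      Function.Surjective (algebraMap R A') →
      ∀ (C' : Type u) [CommRing C'] [IsNoetherianRing C'] [Algebra C C'] [Algebra A' C'] [Algebra R C']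
        [IsScalarTower R C C'] [IsScalarTower R A' C'], Algebra.IsPushout R C A' C' →
        ∀ q' : PrimeSpectrum C', q'.asIdeal.comap (algebraMap C C') = n.asIdeal →
          FlatCA.FlatAt A' q'.asIdeal (Module.Dual C' (Module.Dual C' (C' ⊗[C] F))) ∧
          LocCoh.HasSk 2 (EGA4.FibLocRing A' C' q'.asIdeal)
            (EGA4.FibLocMod A' C' q'.asIdeal (Module.Dual C' (Module.Dual C' (C' ⊗[C] F)))))
    (k : ℕ) :
    Module.Flat (R ⧸ maximalIdeal R ^ (k + 1))
      ((R ⧸ maximalIdeal R ^ (k + 1)) ⊗[R] LocalizedModule n.asIdeal.primeCompl G) := by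
  classical
  let A' := R ⧸ maximalIdeal R ^ (k + 1)
  haveI : IsArtinianRing A' := ArtFunLib.Hull.isArtinianRing_quotient_pow (maximalIdeal R) (k + 1)
  haveI : Nontrivial A' := Ideal.Quotient.nontrivial_iff.mpr fun h =>
    (maximalIdeal.isMaximal R).ne_top (top_le_iff.1 (h.ge.trans (Ideal.pow_le_self (Nat.succ_ne_zero k))))
  haveI : IsLocalRing A' := IsLocalRing.of_surjective' _ Ideal.Quotient.mk_surjective
  have hsurjA : Function.Surjective (algebraMap R A') := Ideal.Quotient.mk_surjective
  let T := A' ⊗[R] C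
  letI : Algebra C T := Algebra.TensorProduct.rightAlgebra
  haveI : IsScalarTower R C T := IsScalarTower.of_algebraMap_eq fun r =>
    ((Algebra.TensorProduct.includeRight : C →ₐ[R] T).commutes r).symm
  haveI hpush : Algebra.IsPushout R C A' T := Algebra.IsPushout.symm inferInstance
  have hsurjT : Function.Surjective (algebraMap C T) := fun z => by
    induction z using TensorProduct.induction_on with
    | zero => exact ⟨0, map_zero _⟩
    | tmul a c =>
      obtain ⟨r, rfl⟩ := hsurjA a
      refine ⟨r • c, ?_⟩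
      show (1 : A') ⊗ₜ[R] (r • c) = _
      rw [← TensorProduct.smul_tmul, Algebra.smul_def, mul_one]
    | add x y hx hy =>
      obtain ⟨a, rfl⟩ := hx
      obtain ⟨b, rfl⟩ := hy
      exact ⟨a + b, map_add _ _ _⟩
  haveI : IsNoetherianRing T := isNoetherianRing_of_surjective C T (algebraMap C T) hsurjT
  -- the prime over `n`
  let κ := n.asIdeal.ResidueField
  have hkill : ∀ a ∈ maximalIdeal R ^ (k + 1), algebraMap R κ a = 0 := fun a ha => by
    rw [IsScalarTower.algebraMap_apply R C κ, ← RingHom.mem_ker, Ideal.ker_algebraMap_residueField,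
      ← Ideal.mem_comap, hn]
    exact Ideal.pow_le_self (Nat.succ_ne_zero k) ha
  let π : T →ₐ[R] κ := Algebra.TensorProduct.lift (Ideal.Quotient.liftₐ _ (Algebra.ofId R κ) hkill)
    (IsScalarTower.toAlgHom R C κ) fun _ _ => Commute.all _ _
  let q' : PrimeSpectrum T := ⟨RingHom.ker π.toRingHom, RingHom.ker_isPrime _⟩
  have hq' : q'.asIdeal.comap (algebraMap C T) = n.asIdeal := by
    ext c
    show π ((1 : A') ⊗ₜ[R] c) = 0 ↔ _
    rw [Algebra.TensorProduct.lift_tmul, map_one, one_mul]
    exact SetLike.ext_iff.1 (Ideal.ker_algebraMap_residueField n.asIdeal) c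
  haveI : q'.asIdeal.IsPrime := q'.isPrime
  obtain ⟨hflatD, hSD⟩ := hI A' hsurjA T hpush q' hq'
  let L := Localization.AtPrime n.asIdeal
  let L' := Localization.AtPrime q'.asIdeal
  haveI : IsNoetherianRing L := IsLocalization.isNoetherianRing n.asIdeal.primeCompl _ inferInstance
  haveI : IsNoetherianRing L' := IsLocalization.isNoetherianRing q'.asIdeal.primeCompl _ inferInstance
  have hp' : q'.asIdeal.comap (algebraMap A' T) = maximalIdeal A' :=
    IsLocalRing.eq_maximalIdeal (IsArtinianRing.isMaximal_of_isPrime _)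
  haveI : Module.Flat A' T := Module.Flat.baseChange R A' C
  haveI : Module.Flat T L' := IsLocalization.flat _ q'.asIdeal.primeCompl
  haveI : Module.Flat A' L' := Module.Flat.trans A' T L'
  haveI : IsLocalHom (algebraMap A' L') := ⟨fun a ha => by
    by_contra hna
    have h1 : a ∈ maximalIdeal A' := hna
    rw [← hp'] at h1
    exact (IsLocalRing.maximalIdeal L').ne_top_iff_one.1 (IsLocalRing.maximalIdeal.isMaximal L').ne_top
      (by
        have h2 : algebraMap A' L' a ∈ maximalIdeal L' := by
          rw [IsScalarTower.algebraMap_apply A' T L']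
          exact (IsLocalization.AtPrime.to_map_mem_maximal_iff L' q'.asIdeal _).2 h1
        exact absurd ha h2)⟩
  -- the closed fibre of the truncation
  let σ : L →+* L' := Localization.localRingHom n.asIdeal q'.asIdeal (algebraMap C T) hq'.symm
  letI : Algebra L L' := σ.toAlgebra
  have hto : ∀ c, σ (algebraMap C L c) = algebraMap T L' (algebraMap C T c) := fun c =>
    Localization.localRingHom_to_map _ _ _ hq'.symm c
  have hσs : Function.Surjective σ := by
    intro z
    obtain ⟨⟨x, s⟩, hz⟩ := IsLocalization.surj q'.asIdeal.primeCompl z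
    obtain ⟨c, hc⟩ := hsurjT x
    obtain ⟨t, ht⟩ := hsurjT s
    have htn : t ∈ n.asIdeal.primeCompl := fun h => s.2 (by rw [← ht]; exact Ideal.mem_comap.1 (hq'.symm ▸ h))
    refine ⟨IsLocalization.mk' L c ⟨t, htn⟩, ?_⟩
    have h1 : σ (IsLocalization.mk' L c ⟨t, htn⟩) * σ (algebraMap C L t) = σ (algebraMap C L c) := by
      rw [← map_mul]; exact congrArg σ (IsLocalization.mk'_spec L c ⟨t, htn⟩)
    rw [hto, hto, hc, ht] at h1
    exact (IsLocalization.map_units L' s).mul_left_inj.1 (h1.trans hz.symm)
  have hσC : ∀ c, σ (algebraMap C L c) = algebraMap C L' c := fun c => by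
    rw [hto]
    exact (IsScalarTower.algebraMap_apply C T L' c).symm
  haveI : IsScalarTower C L L' := IsScalarTower.of_algebraMap_eq fun c => (hσC c).symm
  haveI : IsScalarTower R L L' := IsScalarTower.of_algebraMap_eq fun r => by
    show _ = σ _
    rw [IsScalarTower.algebraMap_apply R C L, hσC, ← IsScalarTower.algebraMap_apply]
  haveI : Module.Finite L L' := Module.Finite.of_surjective (Algebra.linearMap L L') hσs
  have hmB : (EGA4.mB R L).map σ = EGA4.mB A' L' := by
    rw [EGA4.mB, EGA4.mB, Ideal.map_map, show σ.comp (algebraMap R L) = algebraMap R L' from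
      (IsScalarTower.algebraMap_eq R L L').symm, IsScalarTower.algebraMap_eq R A' L', ← Ideal.map_map]
    congr 1
    exact (IsLocalRing.eq_maximalIdeal ((Ideal.map_eq_top_or_isMaximal_of_surjective _ hsurjA
      (maximalIdeal.isMaximal R)).resolve_left fun h => by
        have h1 := congrArg (Ideal.comap (algebraMap R A')) h
        rw [Ideal.comap_map_of_surjective _ hsurjA, Ideal.comap_top, ← RingHom.ker_eq_comap_bot,
          show algebraMap R A' = Ideal.Quotient.mk (maximalIdeal R ^ (k + 1)) from rfl, Ideal.mk_ker,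
          sup_eq_left.2 (Ideal.pow_le_self (Nat.succ_ne_zero k))] at h1
        exact (maximalIdeal.isMaximal R).ne_top h1))
  have hker : RingHom.ker σ ≤ EGA4.mB R L := by
    intro z hz
    obtain ⟨c, s, rfl⟩ := IsLocalization.exists_mk'_eq n.asIdeal.primeCompl z
    have h0 : algebraMap T L' (algebraMap C T c) = 0 := by
      rw [← IsScalarTower.algebraMap_apply C T L', ← hσC, ← IsLocalization.mk'_spec L c s, map_mul,
        show σ (IsLocalization.mk' L c s) = 0 from hz, zero_mul]
    obtain ⟨t, ht⟩ := (IsLocalization.map_eq_zero_iff q'.asIdeal.primeCompl L' _).1 h0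
    obtain ⟨t', ht'⟩ := hsurjT t
    have ht'n : t' ∈ n.asIdeal.primeCompl := fun h => t.2 (by rw [← ht']; exact Ideal.mem_comap.1 (hq'.symm ▸ h))
    -- the truncation maps to the closed fibre
    let ρ : T →ₐ[R] C ⧸ (maximalIdeal R).map (algebraMap R C) := Algebra.TensorProduct.lift
      (Ideal.Quotient.liftₐ _ (Algebra.ofId R _) fun a ha => (Ideal.Quotient.eq_zero_iff_mem).2
        (Ideal.mem_map_of_mem _ (Ideal.pow_le_self (Nat.succ_ne_zero k) ha)))
      (Ideal.Quotient.mkₐ R _) fun _ _ => Commute.all _ _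
    have hρ : ∀ x : C, ρ (algebraMap C T x) = Ideal.Quotient.mk _ x := fun x => by
      show ρ ((1 : A') ⊗ₜ[R] x) = _
      rw [Algebra.TensorProduct.lift_tmul, map_one, one_mul]
      rfl
    have hmem : t' * c ∈ (maximalIdeal R).map (algebraMap R C) := by
      rw [← Ideal.Quotient.eq_zero_iff_mem, ← hρ, map_mul, ht', ht, map_zero]
    have h1 : algebraMap C L (t' * c) ∈ EGA4.mB R L := by
      rw [EGA4.mB, IsScalarTower.algebraMap_eq R C L, ← Ideal.map_map]
      exact Ideal.mem_map_of_mem _ hmem
    rw [map_mul] at h1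
    have hc : algebraMap C L c ∈ EGA4.mB R L :=
      (Ideal.unit_mul_mem_iff_mem _ (IsLocalization.map_units L (⟨t', ht'n⟩ : n.asIdeal.primeCompl))).1 h1
    rw [← IsLocalization.mk'_one (M := n.asIdeal.primeCompl) L c] at hc
    have h2 : IsLocalization.mk' L c (1 : n.asIdeal.primeCompl) =
        algebraMap C L s * IsLocalization.mk' L c s := by
      rw [mul_comm, IsLocalization.mk'_spec, IsLocalization.mk'_one]
    rw [h2] at hc
    exact (Ideal.unit_mul_mem_iff_mem _ (IsLocalization.map_units L s)).1 hc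
  have hmap : J.map (algebraMap C L') = (J.map (algebraMap C L)).map (algebraMap L L') := by
    rw [Ideal.map_map, ← IsScalarTower.algebraMap_eq C L L']
  have hflatG : Module.Flat A' (L' ⊗[C] G) := flat_coker_of_ddual q'.asIdeal hf hfu huv hv J hGU
    (hmap ▸ le_idealDepth_fibMod_of_surjective hσs _ hmB hker hd) hSD
  obtain ⟨eR⟩ := nonempty_equiv_truncation (R := R) (A' := A') hsurjT n.asIdeal q'.asIdeal hq' G
  let eA : L' ⊗[C] G ≃ₗ[A'] (A' ⊗[R] LocalizedModule n.asIdeal.primeCompl G) :=
    { eR.toAddEquiv with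
      map_smul' := fun a x => by
        obtain ⟨r, rfl⟩ := hsurjA a
        show eR (algebraMap R A' r • x) = algebraMap R A' r • eR x
        rw [algebraMap_smul, algebraMap_smul, map_smul] }
  exact Module.Flat.of_linearEquiv eA.symm

end Groth.Agent.QGorRing
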