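import Groth.Agent.KFlatLib.Ring.DualizingDepth
import Groth.Agent.Alg6.LocLoc

/-!
# Ext into a dualizing complex at a prime, and the depth of localizations
-/

set_option autoImplicit false
set_option linter.style.haveILetI false
set_option backward.isDefEq.respectTransparency false

universe u

open CategoryTheory CategoryTheory.Limits Pretriangulated MonoidalCategory

open scoped TensorProduct

attribute [local instance] HasDerivedCategory.standard

namespace Groth.Agent.QGorRing

open Groth.Agent.KFlatLib

variable {A : Type u} [CommRing A] [IsNoetherianRing A] {ω : Dual.D A}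

/-- Flat base change of a module in degree zero. -/
lemma nonempty_LBase_inD_localized (p : Ideal A) [p.IsPrime]
    [DTen.HasLBase (algebraMap A (Localization.AtPrime p))] (M : Type u) [AddCommGroup M] [Module A M] :
    Nonempty ((DTen.LBase (algebraMap A (Localization.AtPrime p))).obj (Dual.inD A M) ≅
      Dual.inD (Localization.AtPrime p) (LocalizedModule p.primeCompl M)) := by
  let B := Localization.AtPrime p
  haveI : Module.Flat A B := IsLocalization.flat _ p.primeCompl
  obtain ⟨_, ⟨e⟩⟩ := exists_LBase_map_iso (B := B) (Dual.inD A M)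
  obtain ⟨c⟩ := exists_extendLEquiv (B := B) (ModuleCat.of A M)
  exact ⟨e ≪≫ ((ModuleCat.extendScalars.{u, u, u} (algebraMap A B)).mapDerivedCategorySingleFunctor 0).app _ ≪≫
    (DerivedCategory.singleFunctor (ModuleCat.{u} B) 0).mapIso
      (c.trans (LocalizedModule.equivTensorProduct p.primeCompl M).symm).toModuleIso⟩

/-- Ext of a finite module at a prime is Ext of its localization. -/
lemma exists_localModuleExtEquiv (a : ℤ) [ω.IsGE a] (p : Ideal A) [p.IsPrime]
    [DTen.HasLBase (algebraMap A (Localization.AtPrime p))] (M : Type u) [AddCommGroup M] [Module A M]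
    [Module.Finite A M] (i : ℤ) :
    Nonempty ((Dual.inD (Localization.AtPrime p) (LocalizedModule p.primeCompl M) ⟶
          ((DTen.LBase (algebraMap A (Localization.AtPrime p))).obj ω)⟦i⟧) ≃
      LocalizedModule p.primeCompl (Dual.inD A M ⟶ ω⟦i⟧)) := by
  haveI : Module.Flat A (Localization.AtPrime p) := IsLocalization.flat _ p.primeCompl
  obtain ⟨eM⟩ := nonempty_LBase_inD_localized p M
  obtain ⟨e⟩ := exists_homBaseChangeLEquiv (B := Localization.AtPrime p) (X := Dual.inD A M) (Y := ω)
    ((Groth.Agent.S6942.result A 0 ω M).2.2 inferInstance) a i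
  exact ⟨eM.homFromEquiv.symm.trans (e.toEquiv.trans
    (LocalizedModule.equivTensorProduct p.primeCompl (Dual.inD A M ⟶ ω⟦i⟧)).symm.toEquiv)⟩

/-- A dualizing complex is bounded below. -/
lemma exists_isGE (hω : Dual.IsDualizing A ω) : ∃ a : ℤ, ω.IsGE a := by
  obtain ⟨a, b, -, ha, -⟩ := exists_bounds_of_isDualizing hω
  exact ⟨a, ha⟩

/-- The depth of a localization is read off from the highest nonzero localized Ext. -/
theorem depth_localized_ext (hω : Dual.IsDualizing A ω) {n : PrimeSpectrum A → ℤ} (hn : IsExtDegree ω n)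
    (M : Type u) [AddCommGroup M] [Module A M] [Module.Finite A M] (p : PrimeSpectrum A)
    (hp : p ∈ Module.support A M) :
    ∃ t : ℕ, LocCoh.depth (Localization.AtPrime p.asIdeal) (LocalizedModule p.asIdeal.primeCompl M) = t ∧
      (∀ i : ℤ, n p - t < i → p ∉ Module.support A (Dual.inD A M ⟶ ω⟦i⟧)) ∧
      p ∈ Module.support A (Dual.inD A M ⟶ ω⟦n p - t⟧) := by
  let B := Localization.AtPrime p.asIdeal
  haveI := hasLBase (algebraMap A B)
  haveI : Module.Flat A B := IsLocalization.flat _ p.asIdeal.primeCompl
  haveI : IsNoetherianRing B := IsLocalization.isNoetherianRing p.asIdeal.primeCompl B inferInstance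
  obtain ⟨a, ha⟩ := exists_isGE hω
  haveI := isGE_LBase_flat (B := B) ω a
  have hωB : Dual.IsDualizing B ((DTen.LBase (algebraMap A B)).obj ω) :=
    isDualizing_LBase hω fun m _ =>
      ⟨m.comap (algebraMap A B), IsLocalization.map_comap p.asIdeal.primeCompl B m⟩
  obtain ⟨n', hn', -, -, -⟩ := exists_extDegree hωB
  let m := IsLocalRing.closedPoint B
  have hm : n' m = n p := by
    haveI := (hn p (n p)).2 rfl
    by_contra hne
    obtain ⟨e⟩ := exists_localExtLEquiv (ω := ω) a p.asIdeal p.asIdeal (n p)
    rw [show p.asIdeal.map (algebraMap A B) = IsLocalRing.maximalIdeal B from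
      Localization.AtPrime.map_eq_maximalIdeal] at e
    haveI := e.nontrivial
    have hne' : ¬ Nontrivial (LocalizedModule m.asIdeal.primeCompl (Dual.inD B (B ⧸ m.asIdeal) ⟶
        ((DTen.LBase (algebraMap A B)).obj ω)⟦n p⟧)) := fun h => hne ((hn' m (n p)).1 h).symm
    rw [not_nontrivial_iff_subsingleton, LocalizedModule.subsingleton_iff] at hne'
    obtain ⟨x, hx⟩ := exists_ne (0 : Dual.inD B (B ⧸ IsLocalRing.maximalIdeal B) ⟶
        ((DTen.LBase (algebraMap A B)).obj ω)⟦n p⟧)
    obtain ⟨s, hs, hsx⟩ := hne' x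
    exact hx ((IsLocalRing.notMem_maximalIdeal.1 hs).smul_eq_zero.1 hsx)
  haveI : Nontrivial (LocalizedModule p.asIdeal.primeCompl M) := Module.mem_support_iff.1 hp
  haveI : Module.Finite B (LocalizedModule p.asIdeal.primeCompl M) :=
    Module.Finite.of_isLocalizedModule p.asIdeal.primeCompl (LocalizedModule.mkLinearMap _ M)
  obtain ⟨t, ht⟩ := exists_depth_eq (A := B) (LocalizedModule p.asIdeal.primeCompl M)
  obtain ⟨hvan, hnt⟩ := ext_of_depth hn' a hωB.finite_cohomology t (LocalizedModule p.asIdeal.primeCompl M) ht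
  rw [show n' (IsLocalRing.closedPoint B) = n p from hm] at hvan hnt
  refine ⟨t, ht, fun i hi hsupp => ?_, ?_⟩
  · obtain ⟨e⟩ := exists_localModuleExtEquiv (ω := ω) a p.asIdeal M i
    haveI := hvan i hi
    exact (not_nontrivial_iff_subsingleton.2 e.symm.subsingleton) (Module.mem_support_iff.1 hsupp)
  · obtain ⟨e⟩ := exists_localModuleExtEquiv (ω := ω) a p.asIdeal M (n p - t)
    haveI := hnt
    exact Module.mem_support_iff.2 e.symm.nontrivial

end Groth.Agent.QGorRing
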