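import Groth.Agent.QGorRing.Bottom
import Groth.Agent.QGorRing.NormDim
import Groth.Agent.KFlatLib.Ring.KerDepth
import Groth.Agent.FlatLoc6.SerreNormal
import Groth.Prelude.Def_EGA4b

/-!
# Dualizing complexes which are a sheaf off a nowhere dense closed set
-/

set_option autoImplicit false
set_option linter.style.haveILetI false
set_option linter.unusedSectionVars false
set_option backward.isDefEq.respectTransparency false

universe u

open CategoryTheory CategoryTheory.Limits Pretriangulated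

attribute [local instance] HasDerivedCategory.standard

namespace Groth.Agent.QGorRing

open Groth.Agent.KFlatLib

variable {A : Type u} [CommRing A] [IsNoetherianRing A] {ω : Dual.D A} {n : PrimeSpectrum A → ℤ}

/-- Below every prime there is a prime of height zero. -/
theorem exists_height_zero_le (p : PrimeSpectrum A) :
    ∃ Q : PrimeSpectrum A, Q ≤ p ∧ Q.asIdeal ∈ minimalPrimes A := by
  obtain ⟨Q, hQ, hQp⟩ := Ideal.exists_minimalPrimes_le (I := (⊥ : Ideal A)) (J := p.asIdeal) bot_le
  exact ⟨⟨Q, hQ.1.1⟩, hQp, hQ⟩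

/-- The degree of a minimal prime is carried by the cohomology. -/
theorem mem_support_HD_minimal (h : IsDegree ω n) (Q : PrimeSpectrum A) (hQ : Q.asIdeal ∈ minimalPrimes A) :
    Q ∈ Module.support A (Dual.HD A ω (n Q)) := by
  obtain ⟨e⟩ := exists_homRingLEquiv ω (n Q)
  rw [← e.support_eq]
  refine mem_support_ext_of_minimal h A Q Q (Module.mem_support_iff_of_finite.2 ?_) le_rfl ?_
  · rw [Module.annihilator_eq_bot.2 inferInstance]
    exact bot_le
  · intro R _ hRQ
    exact le_antisymm hRQ (hQ.2 ⟨R.isPrime, bot_le⟩ hRQ)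

/-- If the degree vanishes at the minimal primes it is the height. -/
theorem degree_eq_height (h : IsDegree ω n) (hmin : ∀ Q : PrimeSpectrum A, Q.asIdeal ∈ minimalPrimes A → n Q = 0)
    (p : PrimeSpectrum A) : ∃ e : ℕ, p.asIdeal.height = e ∧ (e : ℤ) = n p := by
  have hp : p ∈ Module.support A A := Module.mem_support_iff_of_finite.2 (by
    rw [Module.annihilator_eq_bot.2 inferInstance]
    exact bot_le)
  obtain ⟨d, hd, -, Q, -, -, hQd, hQm⟩ := exists_supportDim_localized h A p hp
  rw [FlatLoc6.supportDim_self_atPrime] at hd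
  have hQ : Q.asIdeal ∈ minimalPrimes A := by
    refine ⟨⟨Q.isPrime, bot_le⟩, fun J hJ hJQ => ?_⟩
    exact (congrArg PrimeSpectrum.asIdeal (hQm ⟨J, hJ.1⟩ (Module.mem_support_iff_of_finite.2 (by
      rw [Module.annihilator_eq_bot.2 inferInstance]
      exact bot_le)) hJQ)).ge
  exact ⟨d, WithBot.coe_inj.1 hd, by have := hmin Q hQ; omega⟩

/-- The degree is non-negative. -/
theorem degree_nonneg (h : IsDegree ω n) (hmin : ∀ Q : PrimeSpectrum A, Q.asIdeal ∈ minimalPrimes A → n Q = 0)
    (p : PrimeSpectrum A) : 0 ≤ n p := by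
  obtain ⟨e, -, he⟩ := degree_eq_height h hmin p
  omega

/-- Prime avoidance for the degree. -/
theorem exists_mem_raising (h : IsDegree ω n) (I K : Ideal A) (c : ℤ)
    (hK : ∀ P : PrimeSpectrum A, K ≤ P.asIdeal → c ≤ n P)
    (hI : ∀ P : PrimeSpectrum A, I ≤ P.asIdeal → c + 1 ≤ n P) :
    ∃ x ∈ I, ∀ P : PrimeSpectrum A, K ≤ P.asIdeal → x ∈ P.asIdeal → c + 1 ≤ n P := by
  let S : Set (Ideal A) := {q | q ∈ K.minimalPrimes ∧ ∃ hq : q.IsPrime, n ⟨q, hq⟩ = c}
  have hf : S.Finite := (Ideal.finite_minimalPrimes_of_isNoetherianRing A K).subset fun q hq => hq.1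
  have hnot : ¬ ((I : Set A) ⊆ ⋃ q ∈ S, (q : Set A)) := by
    intro hsub
    obtain ⟨q, hq, hle⟩ := (Ideal.subset_union_prime_finite hf I I (fun q hq _ _ => hq.1.1.1)).1 hsub
    obtain ⟨hqK, hqp, hqc⟩ := hq
    have := hI ⟨q, hqp⟩ hle
    omega
  obtain ⟨x, hxI, hx⟩ := Set.not_subset.1 hnot
  refine ⟨x, hxI, fun P hKP hxP => ?_⟩
  by_contra hlt
  have hc := hK P hKP
  obtain ⟨q, hq, hqP⟩ := Ideal.exists_minimalPrimes_le hKP
  rcases (show (⟨q, hq.1.1⟩ : PrimeSpectrum A) ≤ P from hqP).eq_or_lt with heq | hlt'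
  · refine hx (Set.mem_biUnion (x := q) ⟨hq, hq.1.1, ?_⟩ ?_)
    · rw [heq]; omega
    · rw [show q = P.asIdeal from congrArg PrimeSpectrum.asIdeal heq]
      exact hxP
  · have := hK ⟨q, hq.1.1⟩ hq.1.2
    have := h.strictMono hlt'
    omega

/-- The lowest cohomology satisfies `(S₂)`. -/
theorem hasSk_two_bottom (h : IsDegree ω n) (hmin : ∀ Q : PrimeSpectrum A, Q.asIdeal ∈ minimalPrimes A → n Q = 0) :
    LocCoh.HasSk 2 A (Dual.HD A ω 0) := by
  intro p hp
  let q : PrimeSpectrum A := ⟨p, hp⟩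
  haveI : Module.Finite A (Dual.HD A ω 0) := h.dualizing.finite_cohomology 0
  obtain ⟨e, he, hen⟩ := degree_eq_height h hmin q
  have hdim : Module.supportDim (Localization.AtPrime p) (LocalizedModule p.primeCompl (Dual.HD A ω 0)) ≤
      (e : WithBot ℕ∞) := by
    refine (supportDim_localized_le (E1 := A) p fun P _ => Module.mem_support_iff_of_finite.2 (by
      rw [Module.annihilator_eq_bot.2 inferInstance]
      exact bot_le)).trans ?_
    rw [FlatLoc6.supportDim_self_atPrime, show p.height = e from he]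
    rfl
  have key : ∀ rs : List A, RingTheory.Sequence.IsWeaklyRegular (Dual.HD A ω 0) rs → (∀ r ∈ rs, r ∈ p) →
      (rs.length : ℕ∞) ≤ LocCoh.depth (Localization.AtPrime p) (LocalizedModule p.primeCompl (Dual.HD A ω 0)) := by
    intro rs hreg hmem
    have h1 := hreg.of_isLocalizedModule (Localization.AtPrime p) p.primeCompl
      (LocalizedModule.mkLinearMap p.primeCompl (Dual.HD A ω 0))
    have h2 := length_le_idealDepth (IsLocalRing.maximalIdeal _) _ h1 fun r hr => by
      obtain ⟨a, ha, rfl⟩ := List.mem_map.1 hr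
      exact (IsLocalization.AtPrime.to_map_mem_maximal_iff _ p a).2 (hmem a ha)
    simpa [LocCoh.depth] using h2
  refine le_trans (min_le_min le_rfl hdim) ?_
  rcases Nat.lt_or_ge e 1 with h0 | h1
  · obtain rfl : e = 0 := by omega
    refine (min_le_right _ _).trans ?_
    exact WithBot.coe_le_coe.2 zero_le
  obtain ⟨x, hxp, hx⟩ := exists_mem_raising h p ⊥ 0 (fun P _ => degree_nonneg h hmin P)
    fun P hP => by
      have := h.strictMono.monotone (show q ≤ P from hP)
      omega
  rcases Nat.lt_or_ge e 2 with h2 | h2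
  · obtain rfl : e = 1 := by omega
    refine (min_le_right _ _).trans ?_
    have := key [x] (isWeaklyRegular_singleton h 0 x fun P hxP => hx P bot_le hxP)
      (by simpa using hxp)
    exact WithBot.coe_le_coe.2 (by simpa using this)
  · obtain ⟨y, hyp, hy⟩ := exists_mem_raising h p (Ideal.span {x}) 1
      (fun P hP => hx P bot_le ((Ideal.span_singleton_le_iff_mem _).1 hP)) fun P hP => by
        have := h.strictMono.monotone (show q ≤ P from hP)
        omega
    refine (min_le_left _ _).trans ?_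
    have := key [x, y] (isWeaklyRegular_pair h 0 x y (fun P hxP => hx P bot_le hxP)
      fun P hxP hyP => hy P ((Ideal.span_singleton_le_iff_mem _).2 hxP) hyP) (by simp [hxp, hyp])
    exact WithBot.coe_le_coe.2 (by simpa using this)

/-- Depth two of the lowest cohomology along a closed set of codimension two. -/
theorem two_le_idealDepth_bottom (h : IsDegree ω n)
    (hmin : ∀ Q : PrimeSpectrum A, Q.asIdeal ∈ minimalPrimes A → n Q = 0) (J : Ideal A) (hJ : 2 ≤ J.height) :
    2 ≤ LocCoh.idealDepth J (Dual.HD A ω 0) := by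
  have hJ2 : ∀ P : PrimeSpectrum A, J ≤ P.asIdeal → 2 ≤ n P := fun P hP => by
    obtain ⟨e, he, hen⟩ := degree_eq_height h hmin P
    have h1 := hJ.trans (Ideal.height_mono hP)
    rw [he] at h1
    have : 2 ≤ e := by exact_mod_cast h1
    omega
  obtain ⟨x, hxJ, hx⟩ := exists_mem_raising h J ⊥ 0 (fun P _ => degree_nonneg h hmin P)
    fun P hP => by have := hJ2 P hP; omega
  obtain ⟨y, hyJ, hy⟩ := exists_mem_raising h J (Ideal.span {x}) 1
    (fun P hP => hx P bot_le ((Ideal.span_singleton_le_iff_mem _).1 hP)) fun P hP => by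
      have := hJ2 P hP
      omega
  have := length_le_idealDepth J [x, y] (isWeaklyRegular_pair h 0 x y (fun P hxP => hx P bot_le hxP)
    fun P hxP hyP => hy P ((Ideal.span_singleton_le_iff_mem _).2 hxP) hyP) (by simp [hxJ, hyJ])
  simpa using this

/-- A dualizing complex in degree zero at the minimal primes is ordinary. -/
theorem ordinary (h : IsDegree ω n) [IsLocalRing A] (N : ℕ) (hd : ringKrullDim A = N)
    (hmin : ∀ Q : PrimeSpectrum A, Q.asIdeal ∈ minimalPrimes A → n Q = 0) :
    EGA4.IsEquidim A ∧ Dual.IsNormalized A (ω⟦(N : ℤ)⟧) := by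
  have hdim : ∀ Q : PrimeSpectrum A, Q.asIdeal ∈ minimalPrimes A →
      ∃ e : ℕ, ringKrullDim (A ⧸ Q.asIdeal) = e ∧ (e : ℤ) = n (IsLocalRing.closedPoint A) := fun Q hQ => by
    obtain ⟨e, he, he'⟩ := ringKrullDim_quotient_eq h.covBy h.strictMono Q
    exact ⟨e, he, by rw [he', hmin Q hQ]; ring⟩
  have hm : n (IsLocalRing.closedPoint A) = N := by
    obtain ⟨P, -, hPm, hP⟩ := exists_mem_support_dim A N ((Module.supportDim_self_eq_ringKrullDim A).trans hd)
    have hP' : P.asIdeal ∈ minimalPrimes A := ⟨⟨P.isPrime, bot_le⟩, fun J hJ hJP =>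
      (congrArg PrimeSpectrum.asIdeal (hPm ⟨J, hJ.1⟩ (Module.mem_support_iff_of_finite.2 (by
        rw [Module.annihilator_eq_bot.2 inferInstance]
        exact bot_le)) hJP)).ge⟩
    obtain ⟨e, he, he'⟩ := hdim P hP'
    have h1 : ringKrullDim (A ⧸ P.asIdeal) ≤ ringKrullDim A :=
      ringKrullDim_le_of_surjective _ Ideal.Quotient.mk_surjective
    rw [he, hd] at h1
    rw [he] at hP
    have : e ≤ N := by exact_mod_cast h1
    have : N ≤ e := by exact_mod_cast hP
    omega
  refine ⟨fun q hq => ?_, fun i hi => ?_⟩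
  · obtain ⟨e, he, he'⟩ := hdim ⟨q, hq.1.1⟩ hq
    rw [he, hd]
    have : e = N := by omega
    rw [this]
  · let φ := ((shiftFunctorAdd' (Dual.D A) (N : ℤ) i (N + i) rfl).app ω).symm
    let X := Dual.inD A (IsLocalRing.ResidueField A)
    haveI : Subsingleton (X ⟶ ω⟦((N : ℤ) + i)⟧) := by
      refine subsingleton_of_forall_eq 0 fun ψ => ?_
      have hloc : Subsingleton (LocalizedModule (IsLocalRing.closedPoint A).asIdeal.primeCompl
          (X ⟶ ω⟦((N : ℤ) + i)⟧)) :=
        not_nontrivial_iff_subsingleton.1 fun hnt => by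
          have := (h.ext (IsLocalRing.closedPoint A) _).1 hnt
          omega
      obtain ⟨s, hs, hsψ⟩ := LocalizedModule.subsingleton_iff.1 hloc ψ
      exact (IsLocalRing.notMem_maximalIdeal.1 hs).smul_eq_zero.1 hsψ
    exact (φ.homToEquiv (Z := X)).subsingleton

end Groth.Agent.QGorRing
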